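import Cfsg.Agent.TypeM.McLFromLy
import Cfsg.Agent.TypeM.FactsLy
import Cfsg.Agent.S0477
import Cfsg.Agent.McLType.Final
import Cfsg.Agent.Prune
set_option linter.all false
prune_inst 0x7f00000000000000000000000000000000000000000000000000000000000000000000000000000000000000000000000000000000000000000000000000000000000000000000000000000000000000003fffffffffffffffffffffffffffbeffbdffffffff
open scoped Cfsg.Agent.FastGrp

/-!
# The McLaughlin group: simple, one class of involutions, `C(t) = 2.A_8`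

The involution centraliser is found in the section `C(x) / ⟨x⟩` of the Lyons group, `x` of order three; this section is
isomorphic to `Spor.McL` by the recognition theorem.
-/

set_option autoImplicit false

namespace Cfsg.Agent.TypeM.FactsMcL

open Subgroup Cfsg.Agent.TypeM.Two Cfsg.Agent.TypeM.CoverTools Cfsg.Agent.SporRec.TwoAn

open Cfsg.Agent.Ly in
/-- the McLaughlin group is of type `MT 8` -/
theorem exists_mt_mcl : Finite Cfsg.Spor.McL ∧ IsSimpleGroup Cfsg.Spor.McL ∧ Nat.card Cfsg.Spor.McL = 898128000 ∧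
    Nonempty (MT 8 Cfsg.Spor.McL) := by
  have hfin : Finite Cfsg.Spor.Ly := Cfsg.Agent.Ly.Setup.finite_ly
  have hA0 : Nat.card McL.Cent.A0 ≤ 378000 := McL.ClassX.card_centralizer_x_le T1.card_Hhat
  obtain ⟨h1, h2, h3, h4⟩ := McL.Main.main Index.data Pres.closure_gens Setup.card_ly hA0
  have hx := McL.Main.order_x' Index.data Pres.closure_gens Setup.card_ly
  obtain ⟨L⟩ := FactsLy.exists_mt_ly
  obtain ⟨s, K, hK⟩ := McLFromLy.exists_two_eight L hx h1 h2
  obtain ⟨π, hπ, -⟩ := exists_isCover_of K (by norm_num)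
  have hs : orderOf s = 2 := by rw [← hK, Subgroup.orderOf_coe, K.orderOf_z]
  have hKz : K.z = ⟨s, Cfsg.Agent.McLType.Local.mem_cent.2 rfl⟩ := Subtype.ext hK
  rw [hKz] at hπ
  have hcov := isNonsplit_of_cover K (by norm_num)
  obtain ⟨L8, -⟩ := exists_mt (n := 8) (by norm_num) (by norm_num) s hs hcov
  -- the recognition theorem
  obtain ⟨-, -, -, u, huu, hu1, hus, hc, g, hg, -⟩ :=
    Cfsg.Agent.SporRec.LyReduce.reduce 8 (by norm_num) s hs hcov
  obtain ⟨e⟩ := Cfsg.Agent.McLType.Final.isoMcL hπ ⟨g, by rw [hg]; exact ⟨hus, hc⟩⟩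
  have : Nontrivial Cfsg.Spor.McL := e.symm.toEquiv.nontrivial
  refine ⟨Finite.of_equiv _ e.toEquiv, IsSimpleGroup.isSimpleGroup_of_surjective e.toMonoidHom e.surjective, ?_, ⟨L8.congr e⟩⟩
  rw [← Nat.card_congr e.toEquiv, h4]

/-- **Facts on groups isomorphic to the McLaughlin group.** -/
theorem facts {M : Type*} [Group M] (h : Cfsg.Spor.IsoMcL M) :
    Finite M ∧ IsSimpleGroup M ∧ Nat.card M = 898128000 ∧ Nonempty (MT 8 M) := by
  obtain ⟨e⟩ := h
  obtain ⟨hfin, hs, hcard, ⟨L⟩⟩ := exists_mt_mcl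
  have : Nontrivial M := e.toEquiv.nontrivial
  refine ⟨Finite.of_equiv _ e.symm.toEquiv, IsSimpleGroup.isSimpleGroup_of_surjective e.symm.toMonoidHom e.symm.surjective,
    ?_, ⟨L.congr e.symm⟩⟩
  rw [Nat.card_congr e.toEquiv, hcard]

end Cfsg.Agent.TypeM.FactsMcL
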