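import Cfsg.Agent.SporRec.TwoAn
import Mathlib.GroupTheory.Perm.Centralizer
set_option linter.all false

/-!
# From `Cover` to `IsCover` and `IsNonsplitDoubleCover`; the centraliser of an element of order three of `2.A_11`
-/

set_option autoImplicit false

namespace Cfsg.Agent.TypeM.CoverTools

open Subgroup Equiv Cfsg.Agent.SporRec.TwoAn
open Cfsg.Agent.SporadicRecognition.AltCover

section tools

variable {n : ℕ} {C : Type*} [Group C]

/-- a double transposition -/
theorem exists_double (hn : 4 ≤ n) : ∃ a b c d : Fin n, a ≠ b ∧ a ≠ c ∧ a ≠ d ∧ b ≠ c ∧ b ≠ d ∧ c ≠ d := by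
  have h : ∀ i j : ℕ, i ≠ j → ∀ (hi : i < n) (hj : j < n), (⟨i, hi⟩ : Fin n) ≠ ⟨j, hj⟩ :=
    fun i j hij _ _ e => hij (Fin.mk.inj e)
  exact ⟨⟨0, by omega⟩, ⟨1, by omega⟩, ⟨2, by omega⟩, ⟨3, by omega⟩, h _ _ (by omega) _ _, h _ _ (by omega) _ _,
    h _ _ (by omega) _ _, h _ _ (by omega) _ _, h _ _ (by omega) _ _, h _ _ (by omega) _ _⟩

/-- an element of the form required in `Cover.dbl` -/
theorem exists_sq_z (K : Cover (Fin n) C) (hn : 4 ≤ n) :
    ∃ σ : Perm (Fin n), σ ∈ alternatingGroup (Fin n) ∧ σ * σ = 1 ∧ ∀ g, K.π g = σ → g * g = K.z := by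
  obtain ⟨a, b, c, d, hab, hac, had, hbc, hbd, hcd⟩ := exists_double hn
  refine ⟨swap a b * swap c d, Cover.swap_mul_swap_mem a b c d hab hcd, ?_, fun g hg =>
    K.dbl a b c d hab hac had hbc hbd hcd g hg⟩
  have h1 : swap a b * swap c d = swap c d * swap a b := by
    have : (swap a b).Disjoint (swap c d) := by
      intro x
      by_cases hx : x = a ∨ x = b
      · right
        rcases hx with rfl | rfl
        · exact swap_apply_of_ne_of_ne hac had
        · exact swap_apply_of_ne_of_ne hbc hbd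
      · left
        push Not at hx
        exact swap_apply_of_ne_of_ne hx.1 hx.2
    exact this.commute.eq
  calc swap a b * swap c d * (swap a b * swap c d) = swap a b * (swap c d * swap a b) * swap c d := by group
    _ = swap a b * (swap a b * swap c d) * swap c d := by rw [← h1]
    _ = swap a b * swap a b * (swap c d * swap c d) := by group
    _ = 1 := by rw [swap_mul_self, swap_mul_self, one_mul]

theorem exists_isCover_of (K : Cover (Fin n) C) (hn : 4 ≤ n) :
    ∃ π : C →* alternatingGroup (Fin n), IsCover π K.z ∧ ∀ x, ((π x : alternatingGroup (Fin n)) : Perm (Fin n)) = K.π x := by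
  refine ⟨K.π.codRestrict _ K.mem_alternating, ⟨K.z_ne, K.z_mul_z, K.z_comm, ?_, ?_, ?_⟩, fun x => rfl⟩
  · rintro ⟨σ, hσ⟩
    obtain ⟨g, hg⟩ := K.exists_lift hσ
    exact ⟨g, Subtype.ext hg⟩
  · intro x
    rw [← K.ker x]
    exact ⟨fun h => congrArg Subtype.val h, fun h => Subtype.ext h⟩
  · intro s hs
    obtain ⟨σ, hσ, hσ2, hz⟩ := exists_sq_z K hn
    apply K.z_ne
    rw [← hz (s ⟨σ, hσ⟩) (congrArg Subtype.val (hs ⟨σ, hσ⟩)), ← map_mul]
    have : (⟨σ, hσ⟩ : alternatingGroup (Fin n)) * ⟨σ, hσ⟩ = 1 := Subtype.ext hσ2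
    rw [this, map_one]

theorem card_center (K : Cover (Fin n) C) (hn : 4 ≤ n) : Nat.card (center C) = 2 := by
  have h : ∀ g, g ∈ center C ↔ g = 1 ∨ g = K.z := fun g => K.mem_center_iff (by rwa [Fintype.card_fin])
  have hz : K.z ∈ center C := (h _).2 (Or.inr rfl)
  rw [Nat.card_eq_two_iff' (1 : center C)]
  refine ⟨⟨K.z, hz⟩, fun e => K.z_ne (congrArg Subtype.val e), ?_⟩
  rintro ⟨y, hy⟩ hy1
  rcases (h y).1 hy with h1 | h1
  · exact absurd (Subtype.ext h1) hy1
  · exact Subtype.ext h1

theorem isNonsplit_of_cover (K : Cover (Fin n) C) (hn : 4 ≤ n) :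
    Cfsg.IsNonsplitDoubleCover C (alternatingGroup (Fin n)) := by
  have hc : ∀ g, g ∈ center C ↔ g = 1 ∨ g = K.z := fun g => K.mem_center_iff (by rwa [Fintype.card_fin])
  obtain ⟨π, hπ, hπK⟩ := exists_isCover_of K hn
  refine ⟨card_center K hn, ?_, ?_⟩
  · have hker : π.ker = center C := by
      ext x
      rw [MonoidHom.mem_ker, hπ.ker, hc]
    exact ⟨(QuotientGroup.quotientMulEquivOfEq hker.symm).trans
      (QuotientGroup.quotientKerEquivOfSurjective π hπ.surj)⟩
  · intro L hL
    obtain ⟨σ, hσ, -, hz⟩ := exists_sq_z K hn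
    obtain ⟨g, hg⟩ := K.exists_lift hσ
    obtain ⟨⟨c, l⟩, hcl, -⟩ := hL.existsUnique g
    have hcl' : (c : C) * (l : C) = g := hcl
    have hc1 := (hc (c : C)).1 c.2
    have hl : K.π (l : C) = σ := by
      have h1 : K.π (c : C) = 1 := (K.ker _).2 hc1
      rw [← hg, ← hcl', map_mul, h1, one_mul]
    have h2 : K.z ∈ L := by
      rw [← hz _ hl]
      exact L.mul_mem l.2 l.2
    have h3 := disjoint_def.1 (hL.disjoint) ((hc K.z).2 (Or.inr rfl)) h2
    exact K.z_ne h3

end tools

/-! ### elements of order three -/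

section three

variable {C : Type*} [Group C] (K : Cover (Fin 11) C)

/-- the size of the centraliser of a permutation of type `3^k` on 11 letters -/
theorem card_cent {σ : Perm (Fin 11)} {k : ℕ} (hk : σ.cycleType = Multiset.replicate k 3) (hk1 : 1 ≤ k)
    (h64 : 2 ^ 6 ∣ Nat.card (centralizer ({σ} : Set (Perm (Fin 11))))) : k = 1 := by
  have h1 : σ.cycleType.sum ≤ 11 := by
    rw [σ.sum_cycleType]
    exact (Finset.card_le_univ _).trans (by simp)
  rw [hk, Multiset.sum_replicate, smul_eq_mul] at h1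
  have h2 := Equiv.Perm.nat_card_centralizer σ
  rw [h2, hk, Multiset.sum_replicate, Multiset.prod_replicate] at h64
  have hk3 : k = 1 ∨ k = 2 ∨ k = 3 := by omega
  rcases hk3 with rfl | rfl | rfl
  · rfl
  · exfalso
    revert h64
    decide
  · exfalso
    revert h64
    decide

include K in
/-- an element of order three commuting with a subgroup of order `2^7` is the lift of a three-cycle -/
theorem card_support_of_three {y : C} (h3 : y ^ 3 = 1) (h1 : y ≠ 1)
    (h : 2 ^ 7 ∣ Nat.card (centralizer ({y} : Set C))) : (K.π y).support.card = 3 := by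
  set σ := K.π y with hσ
  have hσ3 : σ ^ 3 = 1 := by rw [hσ, ← map_pow, h3, map_one]
  have hσ1 : σ ≠ 1 := by
    intro e
    rcases (K.ker y).1 e with e | e
    · exact h1 e
    · apply K.z_ne
      rw [e, pow_succ, K.z_pow_two, one_mul] at h3
      exact h3
  have : Fact (Nat.Prime 3) := ⟨Nat.prime_three⟩
  have hct := Perm.cycleType_of_pow_prime_eq_one hσ3
  have hk1 : 1 ≤ σ.cycleType.card := by
    by_contra hcon
    have : σ.cycleType.card = 0 := by omega
    exact hσ1 (Perm.card_cycleType_eq_zero.1 this)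
  have h64 : 2 ^ 6 ∣ Nat.card (centralizer ({σ} : Set (Perm (Fin 11)))) := by
    let f : centralizer ({y} : Set C) →* Perm (Fin 11) := K.π.comp (centralizer ({y} : Set C)).subtype
    have hf : f.range ≤ centralizer ({σ} : Set (Perm (Fin 11))) := by
      rintro _ ⟨g, rfl⟩
      have hg := mem_centralizer_singleton_iff.1 g.2
      rw [mem_centralizer_singleton_iff]
      show K.π g * K.π y = K.π y * K.π g
      rw [← map_mul, hg, map_mul]
    have hker : Nat.card f.ker ∣ 2 := by
      have h5 : Nat.card K.π.ker = 2 := by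
        rw [Nat.card_eq_two_iff' (1 : K.π.ker)]
        refine ⟨⟨K.z, K.π_z⟩, fun e => K.z_ne (congrArg Subtype.val e), ?_⟩
        rintro ⟨y, hy⟩ hy1
        rcases (K.ker y).1 hy with h1 | h1
        · exact absurd (Subtype.ext h1) hy1
        · exact Subtype.ext h1
      rw [← h5]
      have h6 : f.ker.map (centralizer ({y} : Set C)).subtype ≤ K.π.ker := by
        rintro _ ⟨g, hg, rfl⟩
        exact hg
      have h7 := card_dvd_of_le h6
      rwa [Nat.card_congr (f.ker.equivMapOfInjective _ (subtype_injective _)).toEquiv.symm] at h7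
    have h8 : Nat.card f.range * Nat.card f.ker = Nat.card (centralizer ({y} : Set C)) := by
      rw [← Nat.card_congr (QuotientGroup.quotientKerEquivRange f).toEquiv, mul_comm]
      exact f.ker.card_mul_index
    have h9 : 2 ^ 7 ∣ Nat.card f.range * 2 := by
      refine h.trans ?_
      rw [← h8]
      exact Nat.mul_dvd_mul_left _ hker
    have h10 : 2 ^ 6 ∣ Nat.card f.range := by
      obtain ⟨m, hm⟩ := h9
      exact ⟨m, by omega⟩
    exact h10.trans (card_dvd_of_le hf)
  have hk := card_cent hct hk1 h64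
  rw [← σ.sum_cycleType, hct, hk]
  rfl

/-- the elements commuting with the lift `y` of a three-cycle: `⟨y⟩ × 2.A_8` -/
theorem cent_of_three {y : C} (h3 : y ^ 3 = 1) (hs : (K.π y).support.card = 3) (g : C) :
    g * y = y * g ↔ ∃ i : ℕ, ∃ d ∈ K.sub (fun i => K.π y i = i), g = y ^ i * d := by
  have hcyc : (K.π y).IsThreeCycle := card_support_eq_three_iff.1 hs
  constructor
  · intro hg
    have hc : K.π g * K.π y = K.π y * K.π g := by rw [← map_mul, hg, map_mul]
    set σ := K.π y with hσ
    have hσ3 : σ ^ 3 = 1 := by rw [hσ, ← map_pow, h3, map_one]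
    have hcomm : ∀ x, K.π g (σ x) = σ (K.π g x) := fun x => by
      have := congrArg (fun f : Perm (Fin 11) => f x) hc
      simpa using this
    -- a moved letter
    obtain ⟨a, ha⟩ : ∃ a, σ a ≠ a := by
      by_contra hcon
      push Not at hcon
      have : σ = 1 := Perm.ext hcon
      rw [this] at hs
      simp at hs
    have hmov : σ (K.π g a) ≠ K.π g a := by
      rw [← hcomm]
      exact fun e => ha ((K.π g).injective e)
    have hsc : σ.SameCycle a (K.π g a) := hcyc.isCycle.sameCycle ha hmov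
    obtain ⟨i, hi, hi2⟩ := hsc.exists_pow_eq'
    refine ⟨i, (y ^ i)⁻¹ * g, ?_, by group⟩
    -- `y^{-i} g` fixes the support
    rw [Cover.mem_sub]
    intro x hx
    have hx' : σ x ≠ x := hx
    obtain ⟨j, -, hj⟩ := (hcyc.isCycle.sameCycle ha hx').exists_pow_eq'
    have h5 : K.π ((y ^ i)⁻¹ * g) = (σ ^ i)⁻¹ * K.π g := by
      rw [map_mul, map_inv, map_pow]
    rw [h5, ← hj, Perm.mul_apply]
    have h6 : K.π g ((σ ^ j) a) = (σ ^ j) (K.π g a) := by
      have h7 : Commute (K.π g) (σ ^ j) := (show Commute (K.π g) σ from hc).pow_right j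
      have := congrArg (fun f : Perm (Fin 11) => f a) h7.eq
      simpa using this
    rw [h6, ← hi2, Perm.inv_def, Equiv.symm_apply_eq]
    have h8 : σ ^ j * σ ^ i = σ ^ i * σ ^ j := by rw [← pow_add, ← pow_add, add_comm]
    have := congrArg (fun f : Perm (Fin 11) => f a) h8
    simpa using this
  · rintro ⟨i, d, hd, rfl⟩
    have hd' : ∀ x, ¬ K.π y x = x → K.π d x = x := hd
    have hdis : (K.π d).Disjoint (K.π y) := by
      intro x
      by_cases hx : K.π y x = x
      · exact Or.inr hx
      · exact Or.inl (hd' x hx)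
    have h5 : d * y = y * d := K.commute_of_disjoint hdis
    have h6 : y ^ i * y = y * y ^ i := by rw [← pow_succ, ← pow_succ']
    calc y ^ i * d * y = y ^ i * (d * y) := by group
      _ = y ^ i * y * d := by rw [h5]; group
      _ = y * (y ^ i * d) := by rw [h6]; group

/-- `⟨y⟩ ∩ 2.A_8 = 1` -/
theorem pow_mem_sub {y : C} (h3 : y ^ 3 = 1) (hs : (K.π y).support.card = 3) {i : ℤ}
    (hi : y ^ i ∈ K.sub (fun i => K.π y i = i)) : y ^ i = 1 := by
  set σ := K.π y with hσ
  obtain ⟨a, ha⟩ : ∃ a, σ a ≠ a := by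
    by_contra hcon
    push Not at hcon
    have : σ = 1 := Perm.ext hcon
    rw [this] at hs
    simp at hs
  have h5 : (σ ^ i) a = a := by
    have := hi a ha
    rwa [map_zpow] at this
  -- `i mod 3`
  have h6 : y ^ i = y ^ (i % 3) := by
    conv_lhs => rw [← Int.emod_add_mul_ediv i 3]
    rw [zpow_add, zpow_mul]
    have : y ^ (3 : ℤ) = 1 := by exact_mod_cast h3
    rw [this, one_zpow, mul_one]
  have h7 : σ ^ i = σ ^ (i % 3) := by
    rw [hσ, ← map_zpow, h6, map_zpow]
  have h8 : i % 3 = 0 ∨ i % 3 = 1 ∨ i % 3 = 2 := by omega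
  rcases h8 with h8 | h8 | h8
  · rw [h6, h8, zpow_zero]
  · exfalso
    rw [h7, h8, zpow_one] at h5
    exact ha h5
  · exfalso
    rw [h7, h8] at h5
    have h9 : σ (σ a) = a := by
      have : (σ ^ (2 : ℤ)) a = σ (σ a) := by
        rw [show (2 : ℤ) = ((2 : ℕ) : ℤ) by norm_num, zpow_natCast, pow_two, Perm.mul_apply]
      rw [← this]; exact h5
    have h10 : (σ ^ 3) a = a := by rw [hσ, ← map_pow, h3, map_one, Perm.one_apply]
    rw [pow_succ, pow_two, Perm.mul_apply, Perm.mul_apply] at h10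
    -- σ (σ (σ a)) = a and σ σ a = a
    rw [← h9] at h10
    have h11 : σ (σ (σ (σ (σ a)))) = σ (σ a) := h10
    apply ha
    have h12 : σ (σ (σ a)) = σ a := by rw [h9]
    have h13 : σ (σ (σ a)) = a := by
      have : (σ ^ 3) a = a := by rw [hσ, ← map_pow, h3, map_one, Perm.one_apply]
      rwa [pow_succ, pow_two, Perm.mul_apply, Perm.mul_apply] at this
    rw [← h12, h13]

end three

end Cfsg.Agent.TypeM.CoverTools
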