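import Mathlib
set_option linter.all false

/-!
# Lemma Q (Theorem W of S1739), the abstract group part

`E = {ε 0, …, ε 15}` is elementary abelian of order 16, `t` an involution commuting with `E`,
`C(⟨t⟩E) = ⟨t⟩E`, the five elements `s 0, …, s 4` of `N ≤ C(t)` act on `E` by the matrices `gm k`
(generating `A₇`), and some element commutes with `E` and moves `t`.  Then there are `μ 0, …, μ 15`
forming an elementary abelian group with `t μ i t = μ i ε i`, on which `s k` acts as on `E`.
-/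

set_option autoImplicit false
set_option linter.unusedSectionVars false

namespace Cfsg.Agent.TypeM

/-- the five matrices (`a b x y g`) as tables of 16 hexadecimal digits -/
def tabs : List ℕ := [0xdcfe89ab67453210, 0xefdc6754ab982310, 0x23dc7689ba45ef10,
  0xab98efdc67542310, 0x9ab8defc56741230]

/-- the action of the `k`-th generator on `{0, …, 15}` -/
def gm (k i : ℕ) : ℕ := (tabs.getD k 0 >>> (4 * i)) &&& 15

/-- the action of a word -/
def act (w : List ℕ) (i : ℕ) : ℕ := w.foldr gm i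

theorem gm_lt (k i : ℕ) : gm k i < 16 := Nat.lt_of_le_of_lt Nat.and_le_right (by norm_num)

theorem act_nil (i : ℕ) : act [] i = i := rfl

theorem act_cons (k : ℕ) (w : List ℕ) (i : ℕ) : act (k :: w) i = gm k (act w i) := rfl

theorem act_append (w w' : List ℕ) (i : ℕ) : act (w ++ w') i = act w (act w' i) := by
  induction w with
  | nil => rfl
  | cons k w ih => rw [List.cons_append, act_cons, act_cons, ih]

theorem act_lt (w : List ℕ) {i : ℕ} (hi : i < 16) : act w i < 16 := by
  cases w with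
  | nil => exact hi
  | cons k w => exact gm_lt _ _

theorem gm_surj : ∀ k < 5, ∀ j < 16, ∃ i < 16, gm k i = j := by decide +kernel

theorem act_surj (w : List ℕ) (hw : ∀ k ∈ w, k < 5) : ∀ j < 16, ∃ i < 16, act w i = j := by
  induction w with
  | nil => exact fun j hj => ⟨j, hj, rfl⟩
  | cons k w ih =>
    intro j hj
    obtain ⟨i, hi, h1⟩ := gm_surj k (hw k (by simp)) j hj
    obtain ⟨i', hi', h2⟩ := ih (fun k hk => hw k (by simp [hk])) i hi
    exact ⟨i', hi', by rw [act_cons, h2, h1]⟩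

theorem gm_xor : ∀ k < 5, ∀ i < 16, ∀ j < 16, gm k (i ^^^ j) = gm k i ^^^ gm k j := by
  decide +kernel

theorem xor_lt {i j : ℕ} (hi : i < 16) (hj : j < 16) : i ^^^ j < 16 :=
  Nat.xor_lt_two_pow (n := 4) hi hj

/-! ### tables -/

/-- transversal: `act (wv v) 1 = v` -/
def wv : ℕ → List ℕ
  | 2 => [1, 4]
  | 3 => [4]
  | 4 => [1, 3, 0, 2, 4]
  | 5 => [1, 4, 2, 1, 4]
  | 6 => [1, 3, 2, 4]
  | 7 => [2, 3, 2, 4]
  | 8 => [3, 0, 2, 4]
  | 9 => [4, 2, 1, 4]
  | 10 => [4, 2, 4]
  | 11 => [3, 2, 4]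
  | 12 => [0, 2, 4]
  | 13 => [0, 2, 1, 4]
  | 14 => [2, 4]
  | 15 => [2, 1, 4]
  | _ => []

/-- words in the two generators `a` and `abyx` of the stabilizer of `1` -/
def bw (l : List Bool) : List ℕ := (l.map fun b => if b then [0, 1, 3, 2] else [0]).flatten

/-- Schreier words -/
def schT : List (List (List Bool)) :=
  [[[false], [false, true, false, true, true, true, false, true, true], [true, false, true, true, true, false, true, true], [true, true, false, true, true, true, true, false, true, true], [true, true, false, true, true, true, true, false, true, true], [true, true, false, true, true, true, true], [true, true, true, false, true, true, true, true, true], [], [false], [false], [], [], [], [], []],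
   [[true, false, true, true, false], [], [], [], [], [], [true, true, true, false, true, true, false, true, true], [], [], [false, true, false, true, true, true, false, true, true, true, true, true], [], [false], [false], [], []],
   [[true, true, false, true, true, true, true, true], [], [], [true, true, true, true, true, false], [false, true, true], [true, true, true, false, true, true, false, true, true], [], [true, true, true, true, true, false], [false, true, true], [false, true, false, true, true, true, false, true, true, true, true, true], [], [true, false, true, true, true, false, true, true], [false, true, false, true, true, true, false, true, true], [], []],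
   [[false, true, true, false, true, true, true, false, true], [false, true, true, true, false, true, true, true, true, true], [true, true, false, true, true, true, true, false], [false], [false, true, true, false, true, true, true, true, false, true, true, false], [true, true, false, true, true, true, true, false], [false, true, true, true, false, true, true, true, true, true], [], [false, true, true, false, true, true, true, true, false, true, true], [false, true, true, false, true, true, true, true, false, true, true, false], [], [], [true, true, false, true, true, true, true, false, true, true, false], [], [false, true, true, false, true, true, true, true, false, true, true, false]],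
   [[], [true, false, true, true, false], [], [false, true, true, false, true, true, true, true, false, true, true, false], [false, true, false, true, true, true, false, true, true, true, true, true], [false, true, true, false, true, true, true, true, false, true, true, false], [true, true, true, false, true, true, false, true, true], [false, true, true, false, true, true, true, true, false, true, true], [], [], [true, true, false, true, true, true, true, false, true, true], [true, true, false, true, true, true, true, false, true, true, false], [true, true, false, true, true, true, true, false, true, true], [], []]]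

/-- the Schreier word of generator `k` at `v` -/
def sch (k v : ℕ) : List Bool := (schT.getD k []).getD (v - 1) []

/-- words in `a`, `abyx` moving `2` to `j` -/
def pr : ℕ → List Bool
  | 3 => [true, false, true, true]
  | 4 => [false, true, true, true]
  | 5 => [true, true, true]
  | 6 => [true]
  | 7 => [false, true]
  | 8 => [false, true, true, true, true]
  | 9 => [false, true, false, true, true, true]
  | 10 => [true, false, true, true, true]
  | 11 => [true, true, true, true]
  | 12 => [true, true]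
  | 13 => [true, false, true]
  | 14 => [false, true, true]
  | 15 => [false, true, false, true]
  | _ => []

theorem wv_lt : ∀ v < 16, ∀ k ∈ wv v, k < 5 := by decide +kernel

theorem wv_one : ∀ v < 16, v ≠ 0 → act (wv v) 1 = v := by decide +kernel

theorem sch_spec : ∀ k < 5, ∀ v < 16, v ≠ 0 → ∀ i < 16,
    act (k :: wv v) i = act (wv (gm k v) ++ bw (sch k v)) i := by decide +kernel

theorem gm_ne_zero : ∀ k < 5, ∀ v < 16, v ≠ 0 → gm k v ≠ 0 := by decide +kernel

theorem pr_spec : ∀ j < 16, j ≠ 0 → j ≠ 1 → act (bw (pr j)) 1 = 1 ∧ act (bw (pr j)) 2 = j := by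
  decide +kernel

theorem pair_spec : ∀ i < 16, ∀ j < 16, i = 0 ∨ j = 0 ∨ i = j ∨ ∃ k < 16, k ≠ 0 ∧ k ≠ 1 ∧
    act (wv i) k = j := by decide +kernel

theorem bw_lt (l : List Bool) : ∀ k ∈ bw l, k < 5 := by
  intro k hk
  rw [bw, List.mem_flatten] at hk
  obtain ⟨m, hm, hk⟩ := hk
  rw [List.mem_map] at hm
  obtain ⟨b, -, rfl⟩ := hm
  cases b <;> simp at hk <;> omega

/-- the word `abyx` of order 7 -/
def ws : List ℕ := [0, 1, 3, 2]

theorem seven_spec : ∀ j < 16, j ^^^ act ws j ^^^ act (ws ++ ws) j ^^^ act (ws ++ ws ++ ws) j ^^^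
    act (ws ++ ws ++ ws ++ ws) j ^^^ act (ws ++ ws ++ ws ++ ws ++ ws) j ^^^
    act (ws ++ ws ++ ws ++ ws ++ ws ++ ws) j = 0 → ∃ k < 16, k ^^^ act ws k = j := by
  decide +kernel

theorem three_spec : ∀ j < 16, j ^^^ gm 0 j = 0 →
    j ^^^ act (0 :: ws) j ^^^ act (0 :: ws ++ 0 :: ws) j = 0 → j = 0 := by
  decide +kernel

theorem kap_spec : ∀ j < 16, gm 0 j = j → j < 4 := by decide +kernel

theorem fix_spec : ∀ j < 16, gm 0 j = j → act ws j = j → j = 0 ∨ j = 1 := by decide +kernel

/-! ### the group -/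

/-- value of a word -/
def W {H : Type*} [Group H] (s : ℕ → H) (w : List ℕ) : H := (w.map s).prod

theorem W_nil {H : Type*} [Group H] (s : ℕ → H) : W s [] = 1 := rfl

theorem W_cons {H : Type*} [Group H] (s : ℕ → H) (k : ℕ) (w : List ℕ) :
    W s (k :: w) = s k * W s w := by rw [W, List.map_cons, List.prod_cons, W]

theorem W_append {H : Type*} [Group H] (s : ℕ → H) (w w' : List ℕ) :
    W s (w ++ w') = W s w * W s w' := by rw [W, List.map_append, List.prod_append, W, W]

theorem W_single {H : Type*} [Group H] (s : ℕ → H) (k : ℕ) : W s [k] = s k := by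
  rw [W_cons, W_nil, mul_one]

/-- The setting of Lemma Q. -/
structure QHyp {H : Type*} [Group H] (t : H) (ε s : ℕ → H) (N : Subgroup H) : Prop where
  tt : t * t = 1
  mul : ∀ i < 16, ∀ j < 16, ε i * ε j = ε (i ^^^ j)
  inj : ∀ i < 16, ε i = 1 → i = 0
  tε : ∀ i < 16, t * ε i = ε i * t
  εN : ∀ i < 16, ε i ∈ N
  sN : ∀ k < 5, s k ∈ N
  tN : t ∉ N
  Nt : ∀ n ∈ N, t * n = n * t
  sε : ∀ k < 5, ∀ i < 16, s k * ε i = ε (gm k i) * s k
  cen : ∀ h, t * h = h * t → (∀ i < 16, h * ε i = ε i * h) →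
    ∃ i < 16, h = ε i ∨ h = t * ε i
  x0 : ∃ h, (∀ i < 16, h * ε i = ε i * h) ∧ ∃ k < 16, k ≠ 0 ∧ h * t = t * ε k * h

namespace QHyp

variable {H : Type*} [Group H] {t : H} {ε s : ℕ → H} {N : Subgroup H} (h : QHyp t ε s N)
include h

theorem eps_zero : ε 0 = 1 := by
  have := h.mul 0 (by norm_num) 0 (by norm_num)
  simpa using this

theorem sq {i : ℕ} (hi : i < 16) : ε i * ε i = 1 := by
  rw [h.mul i hi i hi, Nat.xor_self, h.eps_zero]

theorem inv {i : ℕ} (hi : i < 16) : (ε i)⁻¹ = ε i := inv_eq_of_mul_eq_one_left (h.sq hi)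

theorem comm {i j : ℕ} (hi : i < 16) (hj : j < 16) : ε i * ε j = ε j * ε i := by
  rw [h.mul i hi j hj, h.mul j hj i hi, Nat.xor_comm]

theorem eq_of {i j : ℕ} (hi : i < 16) (hj : j < 16) (e : ε i = ε j) : i = j := by
  have h1 : ε (i ^^^ j) = 1 := by rw [← h.mul i hi j hj, e, h.sq hj]
  have := h.inj _ (xor_lt hi hj) h1
  exact Nat.xor_eq_zero_iff.mp this

theorem t_ne {i : ℕ} (hi : i < 16) : t ≠ ε i := fun e => h.tN (e ▸ h.εN i hi)

theorem W_mem (w : List ℕ) (hw : ∀ k ∈ w, k < 5) : W s w ∈ N := by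
  induction w with
  | nil => exact N.one_mem
  | cons k w ih =>
    rw [W_cons]
    exact N.mul_mem (h.sN k (hw k (by simp))) (ih fun k hk => hw k (by simp [hk]))

theorem W_eps (w : List ℕ) (hw : ∀ k ∈ w, k < 5) {i : ℕ} (hi : i < 16) :
    W s w * ε i = ε (act w i) * W s w := by
  induction w with
  | nil => simp [act_nil, W_nil]
  | cons k w ih =>
    rw [W_cons, mul_assoc, ih fun k hk => hw k (by simp [hk]), act_cons,
      ← mul_assoc, h.sε k (hw k (by simp)) _ (act_lt w hi), mul_assoc]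

theorem W_t (w : List ℕ) (hw : ∀ k ∈ w, k < 5) : t * W s w = W s w * t :=
  h.Nt _ (h.W_mem w hw)

/-- an element of `N` centralizing `E` lies in `E` -/
theorem mem_E {n : H} (hn : n ∈ N) (hc : ∀ i < 16, n * ε i = ε i * n) : ∃ i < 16, n = ε i := by
  obtain ⟨i, hi, h1 | h1⟩ := h.cen n (h.Nt n hn) hc
  · exact ⟨i, hi, h1⟩
  · exfalso
    apply h.tN
    have : t = n * ε i := by rw [h1, mul_assoc, h.sq hi, mul_one]
    rw [this]
    exact N.mul_mem hn (h.εN i hi)

/-- two words with the same action differ by an element of `E` -/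
theorem W_eq (w w' : List ℕ) (hw : ∀ k ∈ w, k < 5) (hw' : ∀ k ∈ w', k < 5)
    (he : ∀ i < 16, act w i = act w' i) :
    ∃ j < 16, W s w = ε j * W s w' := by
  obtain ⟨j, hj, h1⟩ := h.mem_E (n := W s w * (W s w')⁻¹)
    (N.mul_mem (h.W_mem w hw) (N.inv_mem (h.W_mem w' hw'))) (by
      intro i hi
      obtain ⟨i', hi', rfl⟩ := act_surj w' hw' i hi
      have h2 := h.W_eps w' hw' hi'
      have h3 := h.W_eps w hw hi'
      rw [he i' hi'] at h3
      have h4 : (W s w')⁻¹ * ε (act w' i') = ε i' * (W s w')⁻¹ := by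
        rw [inv_mul_eq_iff_eq_mul, ← mul_assoc, h2, mul_inv_cancel_right]
      rw [mul_assoc, h4, ← mul_assoc, h3, mul_assoc])
  exact ⟨j, hj, by rw [← h1, inv_mul_cancel_right]⟩

/-- product of two elements `ε i * W w` -/
theorem mulW (w w' : List ℕ) (hw : ∀ k ∈ w, k < 5) {i j : ℕ} (hi : i < 16) (hj : j < 16) :
    (ε i * W s w) * (ε j * W s w') = ε (i ^^^ act w j) * W s (w ++ w') := by
  rw [W_append, mul_assoc, ← mul_assoc (W s w), h.W_eps w hw hj, ← h.mul i hi _ (act_lt w hj)]
  simp only [mul_assoc]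

/-- an element commuting with `E` commutes with every word acting trivially -/
theorem comm_triv {x : H} (hx : ∀ i < 16, x * ε i = ε i * x) (w : List ℕ) (hw : ∀ k ∈ w, k < 5)
    (he : ∀ i < 16, act w i = i) : x * W s w = W s w * x := by
  obtain ⟨j, hj, h1⟩ := h.W_eq w [] hw (by simp) he
  rw [h1, W_nil, mul_one, hx j hj]

/-- conjugation by `x` changes a word fixing `1` by an element of `⟨t⟩E` -/
theorem exists_f {x : H} (hx : ∀ i < 16, x * ε i = ε i * x) (hxt : x * t = t * ε 1 * x)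
    (w : List ℕ) (hw : ∀ k ∈ w, k < 5) (h1 : act w 1 = 1) :
    ∃ j < 16, x * W s w * x⁻¹ = ε j * W s w ∨ x * W s w * x⁻¹ = t * ε j * W s w := by
  have e1 : ∀ i < 16, (x * W s w * x⁻¹) * ε i = ε (act w i) * (x * W s w * x⁻¹) := by
    intro i hi
    have h2 : x⁻¹ * ε i = ε i * x⁻¹ := by
      rw [inv_mul_eq_iff_eq_mul, ← mul_assoc, hx i hi, mul_inv_cancel_right]
    rw [mul_assoc, h2, mul_assoc, ← mul_assoc (W s w), h.W_eps w hw hi, mul_assoc (ε _),
      ← mul_assoc x, hx _ (act_lt w hi)]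
    simp only [mul_assoc]
  have e2 : (x * W s w * x⁻¹) * (t * ε 1) = (t * ε 1) * (x * W s w * x⁻¹) := by
    have h2 : x⁻¹ * (t * ε 1) = t * x⁻¹ := by
      rw [inv_mul_eq_iff_eq_mul, ← mul_assoc, hxt, mul_inv_cancel_right]
    rw [mul_assoc, h2, ← mul_assoc, mul_assoc x, ← h.W_t w hw, ← mul_assoc x, hxt]
    simp only [mul_assoc]
  have e3 : (x * W s w * x⁻¹) * t = t * (x * W s w * x⁻¹) := by
    have h2 := e1 1 (by norm_num)
    rw [h1] at h2
    have h3 : t = (t * ε 1) * ε 1 := by rw [mul_assoc, h.sq (by norm_num), mul_one]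
    calc (x * W s w * x⁻¹) * t = (x * W s w * x⁻¹) * (t * ε 1) * ε 1 := by
          rw [mul_assoc _ (t * ε 1), ← h3]
      _ = (t * ε 1) * ((x * W s w * x⁻¹) * ε 1) := by rw [e2, mul_assoc]
      _ = (t * ε 1 * ε 1) * (x * W s w * x⁻¹) := by rw [h2, ← mul_assoc]
      _ = t * (x * W s w * x⁻¹) := by rw [← h3]
  obtain ⟨j, hj, h4⟩ := h.cen ((x * W s w * x⁻¹) * (W s w)⁻¹) (by
      have h5 : t * (W s w)⁻¹ = (W s w)⁻¹ * t := by
        rw [eq_inv_mul_iff_mul_eq, ← mul_assoc, ← h.W_t w hw, mul_inv_cancel_right]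
      rw [← mul_assoc, ← e3, mul_assoc, h5]; simp only [mul_assoc]) (by
      intro i hi
      obtain ⟨i', hi', rfl⟩ := act_surj w hw i hi
      have h5 : (W s w)⁻¹ * ε (act w i') = ε i' * (W s w)⁻¹ := by
        rw [inv_mul_eq_iff_eq_mul, ← mul_assoc, h.W_eps w hw hi', mul_inv_cancel_right]
      rw [mul_assoc, h5, ← mul_assoc, e1 i' hi', mul_assoc])
  refine ⟨j, hj, ?_⟩
  rcases h4 with h4 | h4
  · left; rw [← h4, inv_mul_cancel_right]
  · right; rw [← h4, inv_mul_cancel_right]

/-- transport of the moving element to `ε 1` -/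
theorem exists_x1 : ∃ x, (∀ i < 16, x * ε i = ε i * x) ∧ x * t = t * ε 1 * x := by
  obtain ⟨y, hy, k, hk, hk0, hyt⟩ := h.x0
  have hw := wv_lt k hk
  have h1 := wv_one k hk hk0
  have hinv : ∀ i < 16, (W s (wv k))⁻¹ * ε (act (wv k) i) = ε i * (W s (wv k))⁻¹ := by
    intro i hi
    rw [inv_mul_eq_iff_eq_mul, ← mul_assoc, h.W_eps _ hw hi, mul_inv_cancel_right]
  have h3 := h.W_t (wv k) hw
  refine ⟨(W s (wv k))⁻¹ * y * W s (wv k), ?_, ?_⟩
  · intro i hi
    calc (W s (wv k))⁻¹ * y * W s (wv k) * ε i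
        = (W s (wv k))⁻¹ * y * (W s (wv k) * ε i) := by simp only [mul_assoc]
      _ = (W s (wv k))⁻¹ * (y * ε (act (wv k) i)) * W s (wv k) := by
          rw [h.W_eps _ hw hi]; simp only [mul_assoc]
      _ = ((W s (wv k))⁻¹ * ε (act (wv k) i)) * (y * W s (wv k)) := by
          rw [hy _ (act_lt _ hi)]; simp only [mul_assoc]
      _ = ε i * ((W s (wv k))⁻¹ * y * W s (wv k)) := by
          rw [hinv i hi]; simp only [mul_assoc]
  · have h4 : (W s (wv k))⁻¹ * t = t * (W s (wv k))⁻¹ := by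
      rw [inv_mul_eq_iff_eq_mul, ← mul_assoc, ← h3, mul_inv_cancel_right]
    have h5 := hinv 1 (by norm_num)
    rw [h1] at h5
    calc (W s (wv k))⁻¹ * y * W s (wv k) * t
        = (W s (wv k))⁻¹ * (y * t) * W s (wv k) := by
          rw [mul_assoc _ _ t, ← h3]; simp only [mul_assoc]
      _ = (W s (wv k))⁻¹ * t * (ε k * (y * W s (wv k))) := by
          rw [hyt]; simp only [mul_assoc]
      _ = t * ((W s (wv k))⁻¹ * ε k) * (y * W s (wv k)) := by
          rw [h4]; simp only [mul_assoc]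
      _ = t * ε 1 * ((W s (wv k))⁻¹ * y * W s (wv k)) := by
          rw [h5]; simp only [mul_assoc]

theorem conj_pow_word {x : H} (hx : ∀ i < 16, x * ε i = ε i * x) {A : H} {n : ℕ} {w : List ℕ}
    (hw : ∀ k ∈ w, k < 5) (he : ∀ i < 16, act w i = i) (hA : A ^ n = W s w) :
    (x * A * x⁻¹) ^ n = A ^ n := by
  rw [conj_pow, hA, h.comm_triv hx w hw he, mul_inv_cancel_right]

/-- `u` commutes with `a` and `abyx` -/
theorem exists_x3 : ∃ x, (∀ i < 16, x * ε i = ε i * x) ∧ x * t = t * ε 1 * x ∧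
    x * W s ws = W s ws * x ∧ x * s 0 = s 0 * x := by
  obtain ⟨x, hx, hxt⟩ := h.exists_x1
  have hws : ∀ k ∈ ws, k < 5 := by decide
  -- commute with `ws`
  obtain ⟨x2, hx2, hx2t, hx2w⟩ : ∃ x, (∀ i < 16, x * ε i = ε i * x) ∧ x * t = t * ε 1 * x ∧
      x * W s ws = W s ws * x := by
    obtain ⟨j, hj, hf⟩ := h.exists_f hx hxt ws hws (by decide +kernel)
    have h7 : (W s ws) ^ 7 = W s (ws ++ ws ++ ws ++ ws ++ ws ++ ws ++ ws) := by
      simp only [W_append, pow_succ, pow_zero, one_mul]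
    have hc := h.conj_pow_word hx (A := W s ws) (n := 7)
      (w := ws ++ ws ++ ws ++ ws ++ ws ++ ws ++ ws) (by decide) (by decide +kernel) h7
    have e2 := h.mulW ws ws hws (act_lt ws hj) hj
    have key : (ε j * W s ws) ^ 7 = ε (j ^^^ act ws j ^^^ act (ws ++ ws) j ^^^
        act (ws ++ ws ++ ws) j ^^^
        act (ws ++ ws ++ ws ++ ws) j ^^^ act (ws ++ ws ++ ws ++ ws ++ ws) j ^^^
        act (ws ++ ws ++ ws ++ ws ++ ws ++ ws) j) * (W s ws) ^ 7 := by
      rw [h7]
      have p1 := h.mulW ws ws hws hj hj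
      have l1 : j ^^^ act ws j < 16 := xor_lt hj (act_lt _ hj)
      have p2 := h.mulW (ws ++ ws) ws (by decide) l1 hj
      have l2 := xor_lt l1 (act_lt (ws ++ ws) hj)
      have p3 := h.mulW (ws ++ ws ++ ws) ws (by decide) l2 hj
      have l3 := xor_lt l2 (act_lt (ws ++ ws ++ ws) hj)
      have p4 := h.mulW (ws ++ ws ++ ws ++ ws) ws (by decide) l3 hj
      have l4 := xor_lt l3 (act_lt (ws ++ ws ++ ws ++ ws) hj)
      have p5 := h.mulW (ws ++ ws ++ ws ++ ws ++ ws) ws (by decide) l4 hj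
      have l5 := xor_lt l4 (act_lt (ws ++ ws ++ ws ++ ws ++ ws) hj)
      have p6 := h.mulW (ws ++ ws ++ ws ++ ws ++ ws ++ ws) ws (by decide) l5 hj
      rw [pow_succ, pow_succ, pow_succ, pow_succ, pow_succ, pow_succ, pow_one, p1, p2, p3, p4,
        p5, p6]
    have lt7 : j ^^^ act ws j ^^^ act (ws ++ ws) j ^^^ act (ws ++ ws ++ ws) j ^^^
        act (ws ++ ws ++ ws ++ ws) j ^^^ act (ws ++ ws ++ ws ++ ws ++ ws) j ^^^
        act (ws ++ ws ++ ws ++ ws ++ ws ++ ws) j < 16 := by
      refine xor_lt (xor_lt (xor_lt (xor_lt (xor_lt (xor_lt hj ?_) ?_) ?_) ?_) ?_) ?_ <;>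
        exact act_lt _ hj
    rcases hf with hf | hf
    · rw [hf, key, mul_eq_right] at hc
      obtain ⟨k, hk, hk'⟩ := seven_spec j hj (h.inj _ lt7 hc)
      refine ⟨ε k * x, ?_, ?_, ?_⟩
      · intro i hi
        rw [mul_assoc, hx i hi, ← mul_assoc, h.comm hk hi, mul_assoc]
      · rw [mul_assoc, hxt, ← mul_assoc, ← mul_assoc, ← h.tε k hk, mul_assoc t, h.comm hk
          (by norm_num), ← mul_assoc, mul_assoc]
      · have hf' : x * W s ws = ε j * W s ws * x := by rw [← hf, inv_mul_cancel_right]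
        rw [mul_assoc, hf', ← mul_assoc, ← mul_assoc, h.mul k hk j hj, ← hk', ← Nat.xor_assoc,
          Nat.xor_self, Nat.zero_xor, ← mul_assoc, h.W_eps ws hws hk]
    · exfalso
      have ht : t * (ε j * W s ws) = (ε j * W s ws) * t := by
        rw [← mul_assoc, h.tε j hj, mul_assoc, h.W_t ws hws, mul_assoc]
      have ht7 : t ^ 7 = t := by
        rw [show (7 : ℕ) = 2 * 3 + 1 from rfl, pow_succ, pow_mul, pow_two, h.tt, one_pow, one_mul]
      rw [hf, mul_assoc, (show Commute t (ε j * W s ws) from ht).mul_pow, ht7, key, ← mul_assoc,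
        mul_eq_right] at hc
      exact h.t_ne lt7 (by rw [← h.inv lt7]; exact eq_inv_of_mul_eq_one_left hc)
  refine ⟨x2, hx2, hx2t, hx2w, ?_⟩
  -- commute with `a`
  have h0 : ∀ k ∈ [0], k < 5 := by decide
  have h0w : ∀ k ∈ 0 :: ws, k < 5 := by decide
  obtain ⟨j, hj, hf⟩ := h.exists_f hx2 hx2t [0] h0 (by decide +kernel)
  have c2 := h.conj_pow_word hx2 (A := W s [0]) (n := 2) (w := [0, 0]) (by decide)
    (by decide +kernel) (by rw [pow_two, ← W_append]; rfl)
  have c3 := h.conj_pow_word hx2 (A := W s (0 :: ws)) (n := 3) (w := 0 :: ws ++ 0 :: ws ++ 0 :: ws)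
    (by decide) (by decide +kernel) (by rw [pow_succ, pow_two, ← W_append, ← W_append])
  have hW : W s (0 :: ws) = W s [0] * W s ws := by rw [← W_append]; rfl
  have hconj : x2 * W s (0 :: ws) * x2⁻¹ = (x2 * W s [0] * x2⁻¹) * W s ws := by
    have : x2⁻¹ * W s ws = W s ws * x2⁻¹ := by
      rw [inv_mul_eq_iff_eq_mul, ← mul_assoc, hx2w, mul_inv_cancel_right]
    rw [hW, mul_assoc (x2 * W s [0]), this]; simp only [mul_assoc]
  rw [hconj] at c3
  have hn0 : W s [0] = s 0 := W_single s 0
  rcases hf with hf | hf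
  · rw [hf] at c2 c3
    have p1 := h.mulW [0] [0] h0 hj hj
    rw [pow_two, p1, pow_two, ← W_append, mul_eq_right] at c2
    have z1 := h.inj _ (xor_lt hj (act_lt _ hj)) c2
    rw [mul_assoc, ← W_append] at c3
    have q1 := h.mulW ([0] ++ ws) ([0] ++ ws) (by decide) hj hj
    have l1 := xor_lt hj (act_lt ([0] ++ ws) hj)
    have q2 := h.mulW ([0] ++ ws ++ ([0] ++ ws)) ([0] ++ ws) (by decide) l1 hj
    have hc3 : W s (0 :: ws) ^ 3 = W s ([0] ++ ws ++ ([0] ++ ws) ++ ([0] ++ ws)) := by
      rw [pow_succ, pow_two, ← W_append, ← W_append]; rfl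
    rw [pow_succ, pow_two, q1, q2, hc3, mul_eq_right] at c3
    have z2 := h.inj _ (xor_lt l1 (act_lt _ hj)) c3
    have hj0 := three_spec j hj z1 z2
    rw [hj0, h.eps_zero, one_mul, hn0] at hf
    calc x2 * s 0 = x2 * s 0 * x2⁻¹ * x2 := by rw [inv_mul_cancel_right]
      _ = s 0 * x2 := by rw [hf]
  · exfalso
    rw [hf, mul_assoc, mul_assoc, ← W_append] at c3
    have ht : t * (ε j * W s ([0] ++ ws)) = (ε j * W s ([0] ++ ws)) * t := by
      rw [← mul_assoc, h.tε j hj, mul_assoc, h.W_t ([0] ++ ws) (by decide), mul_assoc]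
    have ht3 : t ^ 3 = t := by rw [pow_succ, pow_two, h.tt, one_mul]
    have q1 := h.mulW ([0] ++ ws) ([0] ++ ws) (by decide) hj hj
    have l1 := xor_lt hj (act_lt ([0] ++ ws) hj)
    have q2 := h.mulW ([0] ++ ws ++ ([0] ++ ws)) ([0] ++ ws) (by decide) l1 hj
    have hc3 : W s (0 :: ws) ^ 3 = W s ([0] ++ ws ++ ([0] ++ ws) ++ ([0] ++ ws)) := by
      rw [pow_succ, pow_two, ← W_append, ← W_append]; rfl
    have l2 := xor_lt l1 (act_lt ([0] ++ ws ++ ([0] ++ ws)) hj)
    rw [(show Commute t (ε j * W s ([0] ++ ws)) from ht).mul_pow, ht3, pow_succ, pow_two, q1, q2,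
      hc3, ← mul_assoc, mul_eq_right] at c3
    exact h.t_ne l2 (by rw [← h.inv l2]; exact eq_inv_of_mul_eq_one_left c3)

/-- The element `u`. -/
theorem exists_u : ∃ u, (∀ i < 16, u * ε i = ε i * u) ∧ u * t = t * ε 1 * u ∧
    u * W s ws = W s ws * u ∧ u * s 0 = s 0 * u ∧ u * u = 1 := by
  obtain ⟨x, hx, hxt, hxw, hx0⟩ := h.exists_x3
  have h1 : (1 : ℕ) < 16 := by norm_num
  have e1 : ∀ i < 16, (x * x) * ε i = ε i * (x * x) := fun i hi => by
    rw [mul_assoc, hx i hi, ← mul_assoc, hx i hi, mul_assoc]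
  have e2 : t * (x * x) = (x * x) * t := by
    calc t * (x * x) = t * (ε 1 * ε 1) * (x * x) := by rw [h.sq h1, mul_one]
      _ = t * ε 1 * (ε 1 * x) * x := by simp only [mul_assoc]
      _ = t * ε 1 * (x * ε 1) * x := by rw [hx 1 h1]
      _ = (t * ε 1 * x) * (ε 1 * x) := by simp only [mul_assoc]
      _ = (x * t) * (ε 1 * x) := by rw [hxt]
      _ = x * (t * ε 1 * x) := by simp only [mul_assoc]
      _ = x * (x * t) := by rw [hxt]
      _ = (x * x) * t := by rw [mul_assoc]
  obtain ⟨j, hj, hj'⟩ := h.cen (x * x) e2 e1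
  have hjε : x * x = ε j := by
    rcases hj' with hj' | hj'
    · exact hj'
    · exfalso
      have e3 : x * (x * x) = (x * x) * x := (mul_assoc x x x).symm
      rw [hj', ← mul_assoc, hxt, mul_assoc _ x, hx j hj, ← mul_assoc, mul_left_inj, mul_assoc,
        mul_right_inj, mul_eq_right] at e3
      exact absurd (h.inj 1 h1 e3) (by norm_num)
  have f0 : gm 0 j = j := by
    have e3 : (x * x) * s 0 = s 0 * (x * x) := by rw [mul_assoc, hx0, ← mul_assoc, hx0, mul_assoc]
    rw [hjε, h.sε 0 (by norm_num) j hj, mul_left_inj] at e3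
    exact (h.eq_of hj (gm_lt _ _) e3).symm
  have fw : act ws j = j := by
    have e3 : (x * x) * W s ws = W s ws * (x * x) := by
      rw [mul_assoc, hxw, ← mul_assoc, hxw, mul_assoc]
    rw [hjε, h.W_eps ws (by decide) hj, mul_left_inj] at e3
    exact (h.eq_of hj (act_lt _ hj) e3).symm
  rcases fix_spec j hj f0 fw with rfl | rfl
  · exact ⟨x, hx, hxt, hxw, hx0, by rw [hjε, h.eps_zero]⟩
  · refine ⟨x * t, ?_, ?_, ?_, ?_, ?_⟩
    · intro i hi
      rw [mul_assoc, h.tε i hi, ← mul_assoc, hx i hi, mul_assoc]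
    · calc x * t * t = (t * ε 1 * x) * t := by rw [hxt]
        _ = t * ε 1 * (x * t) := mul_assoc _ _ _
    · rw [mul_assoc, h.W_t ws (by decide), ← mul_assoc, hxw, mul_assoc]
    · rw [mul_assoc, h.Nt _ (h.sN 0 (by norm_num)), ← mul_assoc, hx0, mul_assoc]
    · calc x * t * (x * t) = (t * ε 1 * x) * (x * t) := by rw [← hxt]
        _ = t * ε 1 * (x * x) * t := by simp only [mul_assoc]
        _ = t * (ε 1 * ε 1) * t := by rw [hjε]; simp only [mul_assoc]
        _ = 1 := by rw [h.sq h1, mul_one, h.tt]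

end QHyp

/-- The setting together with the element `u`. -/
structure UHyp {H : Type*} [Group H] (t : H) (ε s : ℕ → H) (N : Subgroup H) (u : H) : Prop
    extends QHyp t ε s N where
  uε : ∀ i < 16, u * ε i = ε i * u
  ut : u * t = t * ε 1 * u
  uws : u * W s ws = W s ws * u
  u0 : u * s 0 = s 0 * u
  uu : u * u = 1

/-- the elements `μ v` -/
def mu {H : Type*} [Group H] (s : ℕ → H) (u : H) (v : ℕ) : H :=
  if v = 0 then 1 else W s (wv v) * u * (W s (wv v))⁻¹

namespace UHyp

variable {H : Type*} [Group H] {t : H} {ε s : ℕ → H} {N : Subgroup H} {u : H}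
  (h : UHyp t ε s N u)
include h

theorem u_bw (l : List Bool) : u * W s (bw l) = W s (bw l) * u := by
  induction l with
  | nil => simp [bw, W_nil]
  | cons b l ih =>
    have e : bw (b :: l) = (if b then ws else [0]) ++ bw l := by
      cases b <;> simp [bw, ws]
    rw [e, W_append, mul_assoc, ← ih]
    cases b
    · rw [if_neg (by simp), W_single, ← mul_assoc, h.u0, mul_assoc]
    · rw [if_pos rfl, ← mul_assoc, h.uws, mul_assoc]

theorem mu_zero : mu s u 0 = 1 := by simp [mu]

theorem mu_one : mu s u 1 = u := by simp [mu, wv, W_nil]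

theorem mu_of {v : ℕ} (hv : v ≠ 0) : mu s u v = W s (wv v) * u * (W s (wv v))⁻¹ := if_neg hv

theorem mu_eps {v : ℕ} (hv : v < 16) {i : ℕ} (hi : i < 16) : mu s u v * ε i = ε i * mu s u v := by
  by_cases h0 : v = 0
  · rw [h0, mu_zero h, one_mul, mul_one]
  · rw [mu_of h h0]
    obtain ⟨i', hi', rfl⟩ := act_surj (wv v) (wv_lt v hv) i hi
    have e1 := h.W_eps (wv v) (wv_lt v hv) hi'
    have e2 : (W s (wv v))⁻¹ * ε (act (wv v) i') = ε i' * (W s (wv v))⁻¹ := by
      rw [inv_mul_eq_iff_eq_mul, ← mul_assoc, e1, mul_inv_cancel_right]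
    rw [mul_assoc, e2, ← mul_assoc, mul_assoc _ u, h.uε i' hi', ← mul_assoc, e1]
    simp only [mul_assoc]

/-- equivariance under the generators -/
theorem s_mu {k v : ℕ} (hk : k < 5) (hv : v < 16) : s k * mu s u v = mu s u (gm k v) * s k := by
  by_cases h0 : v = 0
  · have : gm k 0 = 0 := by
      have := (by decide +kernel : ∀ k < 5, gm k 0 = 0); exact this k hk
    rw [h0, this, mu_zero h, one_mul, mul_one]
  · have h1 := gm_ne_zero k hk v hv h0
    rw [mu_of h h0, mu_of h h1]
    have hvl := gm_lt k v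
    have hw1 : ∀ i ∈ k :: wv v, i < 5 := by
      intro i hi
      rcases List.mem_cons.mp hi with rfl | hi
      · exact hk
      · exact wv_lt v hv i hi
    have hw2 : ∀ i ∈ wv (gm k v) ++ bw (sch k v), i < 5 := by
      intro i hi
      rcases List.mem_append.mp hi with hi | hi
      · exact wv_lt _ hvl i hi
      · exact bw_lt _ i hi
    obtain ⟨j, hj, e⟩ := h.W_eq (k :: wv v) (wv (gm k v) ++ bw (sch k v)) hw1 hw2
      (sch_spec k hk v hv h0)
    rw [W_cons, W_append] at e
    -- `s k * A = ε j * B * C`, `C` commutes with `u`, `ε j` commutes with `μ`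
    have e3 : mu s u (gm k v) * ε j = ε j * mu s u (gm k v) := mu_eps h hvl hj
    rw [mu_of h h1] at e3
    have e4 := h.u_bw (sch k v)
    set A := W s (wv v)
    set B := W s (wv (gm k v))
    set C := W s (bw (sch k v))
    have e5 : s k * (A * u * A⁻¹) = (s k * A) * u * A⁻¹ := by simp only [mul_assoc]
    rw [e5, e]
    have e6 : ε j * (B * C) * u * A⁻¹ = ε j * (B * u * B⁻¹) * (B * C) * A⁻¹ := by
      have : C * u = u * C := e4.symm
      calc ε j * (B * C) * u * A⁻¹ = ε j * B * (C * u) * A⁻¹ := by simp only [mul_assoc]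
        _ = ε j * B * (u * C) * A⁻¹ := by rw [this]
        _ = _ := by group
    rw [e6, ← e3]
    have e7 : B * u * B⁻¹ * ε j * (B * C) * A⁻¹ = B * u * B⁻¹ * (ε j * (B * C)) * A⁻¹ := by
      simp only [mul_assoc]
    rw [e7, ← e]
    simp only [mul_assoc, mul_inv_cancel, mul_one]

theorem W_mu (w : List ℕ) (hw : ∀ k ∈ w, k < 5) {v : ℕ} (hv : v < 16) :
    W s w * mu s u v = mu s u (act w v) * W s w := by
  induction w with
  | nil => simp [act_nil, W_nil]
  | cons k w ih =>
    rw [W_cons, mul_assoc, ih fun k hk => hw k (by simp [hk]), act_cons,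
      ← mul_assoc, h.s_mu (hw k (by simp)) (act_lt w hv), mul_assoc]

theorem mu_sq {v : ℕ} : mu s u v * mu s u v = 1 := by
  by_cases h0 : v = 0
  · rw [h0, mu_zero h, one_mul]
  · rw [mu_of h h0]
    calc W s (wv v) * u * (W s (wv v))⁻¹ * (W s (wv v) * u * (W s (wv v))⁻¹)
        = W s (wv v) * (u * u) * (W s (wv v))⁻¹ := by group
      _ = 1 := by rw [h.uu, mul_one, mul_inv_cancel]

theorem mu_t {v : ℕ} (hv : v < 16) : mu s u v * t = t * ε v * mu s u v := by
  by_cases h0 : v = 0
  · rw [h0, mu_zero h, one_mul, mul_one, h.eps_zero, mul_one]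
  · rw [mu_of h h0]
    have h3 := h.W_t (wv v) (wv_lt v hv)
    have h4 : (W s (wv v))⁻¹ * t = t * (W s (wv v))⁻¹ := by
      rw [inv_mul_eq_iff_eq_mul, ← mul_assoc, ← h3, mul_inv_cancel_right]
    have h5 := h.W_eps (wv v) (wv_lt v hv) (i := 1) (by norm_num)
    rw [wv_one v hv h0] at h5
    calc W s (wv v) * u * (W s (wv v))⁻¹ * t = W s (wv v) * (u * t) * (W s (wv v))⁻¹ := by
          rw [mul_assoc _ _ t, h4]; simp only [mul_assoc]
      _ = (W s (wv v) * t) * ε 1 * u * (W s (wv v))⁻¹ := by rw [h.ut]; simp only [mul_assoc]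
      _ = t * (W s (wv v) * ε 1) * u * (W s (wv v))⁻¹ := by rw [← h3]; simp only [mul_assoc]
      _ = _ := by rw [h5]; simp only [mul_assoc]

omit h in
theorem act_xor (w : List ℕ) (hw : ∀ k ∈ w, k < 5) {i j : ℕ} (hi : i < 16) (hj : j < 16) :
    act w (i ^^^ j) = act w i ^^^ act w j := by
  induction w with
  | nil => rfl
  | cons k w ih =>
    rw [act_cons, ih fun k hk => hw k (by simp [hk]), act_cons, act_cons,
      gm_xor k (hw k (by simp)) _ (act_lt w hi) _ (act_lt w hj)]

/-- transport of relations along a word -/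
theorem three_W (w : List ℕ) (hw : ∀ k ∈ w, k < 5) {i j : ℕ} (hi : i < 16) (hj : j < 16)
    {c : H} (e : mu s u i * mu s u j * mu s u (i ^^^ j) = c) :
    mu s u (act w i) * mu s u (act w j) * mu s u (act w i ^^^ act w j) =
      W s w * c * (W s w)⁻¹ := by
  rw [← e, ← act_xor w hw hi hj, eq_mul_inv_iff_mul_eq, mul_assoc,
    ← h.W_mu w hw (xor_lt hi hj), ← mul_assoc, mul_assoc (mu s u (act w i)),
    ← h.W_mu w hw hj, ← mul_assoc, ← h.W_mu w hw hi]
  simp only [mul_assoc]

/-- words moving `(1, 2)` to `(i, j)` -/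
theorem exists_word {i j : ℕ} (hi : i < 16) (hj : j < 16) (hi0 : i ≠ 0) (hj0 : j ≠ 0)
    (hij : i ≠ j) : ∃ w : List ℕ, (∀ k ∈ w, k < 5) ∧ act w 1 = i ∧ act w 2 = j := by
  rcases pair_spec i hi j hj with e | e | e | ⟨k, hk, hk0, hk1, e⟩
  · exact absurd e hi0
  · exact absurd e hj0
  · exact absurd e hij
  · obtain ⟨h1, h2⟩ := pr_spec k hk hk0 hk1
    refine ⟨wv i ++ bw (pr k), ?_, ?_, ?_⟩
    · intro l hl
      rcases List.mem_append.mp hl with hl | hl
      · exact wv_lt i hi l hl
      · exact bw_lt _ l hl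
    · rw [act_append, h1, wv_one i hi hi0]
    · rw [act_append, h2, e]

theorem three_cases : mu s u 1 * mu s u 2 * mu s u 3 = 1 ∨
    mu s u 1 * mu s u 2 * mu s u 3 = t * ε 2 := by
  set d := mu s u 1 * mu s u 2 * mu s u 3 with hd
  have l1 : (1 : ℕ) < 16 := by norm_num
  have l2 : (2 : ℕ) < 16 := by norm_num
  have l3 : (3 : ℕ) < 16 := by norm_num
  have dε : ∀ i < 16, d * ε i = ε i * d := by
    intro i hi
    rw [hd, mul_assoc, h.mu_eps l3 hi, ← mul_assoc, mul_assoc _ _ (ε i), h.mu_eps l2 hi,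
      ← mul_assoc, h.mu_eps l1 hi]
    simp only [mul_assoc]
  have e123 : ε 1 * (ε 2 * ε 3) = 1 := by
    rw [h.mul 2 l2 3 l3, h.mul 1 l1 _ (by decide)]; exact h.eps_zero
  have dt : t * d = d * t := by
    symm
    calc d * t = mu s u 1 * mu s u 2 * (mu s u 3 * t) := by rw [hd, mul_assoc]
      _ = mu s u 1 * (mu s u 2 * t) * (ε 3 * mu s u 3) := by
          rw [h.mu_t l3]; simp only [mul_assoc]
      _ = (mu s u 1 * t) * ε 2 * (mu s u 2 * ε 3) * mu s u 3 := by
          rw [h.mu_t l2]; simp only [mul_assoc]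
      _ = t * ε 1 * (mu s u 1 * ε 2) * ε 3 * mu s u 2 * mu s u 3 := by
          rw [h.mu_t l1, h.mu_eps l2 l3]; simp only [mul_assoc]
      _ = t * ε 1 * ε 2 * (mu s u 1 * ε 3) * mu s u 2 * mu s u 3 := by
          rw [h.mu_eps l1 l2]; simp only [mul_assoc]
      _ = t * (ε 1 * (ε 2 * ε 3)) * d := by
          rw [h.mu_eps l1 l3, hd]; simp only [mul_assoc]
      _ = t * d := by rw [e123, mul_one]
  obtain ⟨j, hj, hjd⟩ := h.cen d dt dε
  -- `s 0` commutes with `d`
  have h0d : s 0 * d = d * s 0 := by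
    have l0 : (0 : ℕ) < 5 := by norm_num
    have g1 := h.s_mu l0 l1
    have g2 := h.s_mu l0 l2
    have g3 := h.s_mu l0 l3
    rw [show gm 0 1 = 1 by decide +kernel] at g1
    rw [show gm 0 2 = 2 by decide +kernel] at g2
    rw [show gm 0 3 = 3 by decide +kernel] at g3
    calc s 0 * d = (s 0 * mu s u 1) * mu s u 2 * mu s u 3 := by rw [hd]; simp only [mul_assoc]
      _ = mu s u 1 * (s 0 * mu s u 2) * mu s u 3 := by rw [g1]; simp only [mul_assoc]
      _ = mu s u 1 * mu s u 2 * (s 0 * mu s u 3) := by rw [g2]; simp only [mul_assoc]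
      _ = d * s 0 := by rw [g3, hd]; simp only [mul_assoc]
  have hρ : ∀ k ∈ [3, 4], k < 5 := by decide
  have ρd : W s [3, 4] * d = mu s u 2 * mu s u 3 * mu s u 1 * W s [3, 4] := by
    have g1 := h.W_mu [3, 4] hρ l1
    have g2 := h.W_mu [3, 4] hρ l2
    have g3 := h.W_mu [3, 4] hρ l3
    rw [show act [3, 4] 1 = 2 by decide +kernel] at g1
    rw [show act [3, 4] 2 = 3 by decide +kernel] at g2
    rw [show act [3, 4] 3 = 1 by decide +kernel] at g3
    calc W s [3, 4] * d = (W s [3, 4] * mu s u 1) * mu s u 2 * mu s u 3 := by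
          rw [hd]; simp only [mul_assoc]
      _ = mu s u 2 * (W s [3, 4] * mu s u 2) * mu s u 3 := by rw [g1]; simp only [mul_assoc]
      _ = mu s u 2 * mu s u 3 * (W s [3, 4] * mu s u 3) := by rw [g2]; simp only [mul_assoc]
      _ = _ := by rw [g3]; simp only [mul_assoc]
  have μd : mu s u 1 * (mu s u 2 * mu s u 3 * mu s u 1) = d * mu s u 1 := by
    rw [hd]; simp only [mul_assoc]
  rcases hjd with hjd | hjd
  · left
    have hj4 : j < 4 := by
      apply kap_spec j hj
      rw [hjd, h.sε 0 (by norm_num) j hj, mul_left_inj] at h0d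
      exact h.eq_of (gm_lt _ _) hj h0d
    rw [hjd, h.W_eps [3, 4] hρ hj, mul_left_inj] at ρd
    rw [← ρd, hjd, h.mu_eps l1 (act_lt _ hj), mul_left_inj] at μd
    have := h.eq_of (act_lt _ hj) hj μd
    have h3 := (by decide +kernel : ∀ j < 4, act [3, 4] j = j → j = 0) j hj4 this
    rw [hjd, h3, h.eps_zero]
  · right
    have hj4 : j < 4 := by
      apply kap_spec j hj
      rw [hjd, ← mul_assoc, ← h.Nt _ (h.sN 0 (by norm_num)), mul_assoc, mul_assoc,
        h.sε 0 (by norm_num) j hj, mul_right_inj, mul_left_inj] at h0d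
      exact h.eq_of (gm_lt _ _) hj h0d
    rw [hjd, ← mul_assoc, ← h.W_t _ hρ, mul_assoc, h.W_eps [3, 4] hρ hj, ← mul_assoc,
      mul_left_inj] at ρd
    rw [← ρd, hjd, ← mul_assoc, h.mu_t l1, mul_assoc _ (mu s u 1), h.mu_eps l1 (act_lt _ hj),
      ← mul_assoc, mul_left_inj, mul_assoc, mul_right_inj, h.mul 1 l1 _ (act_lt _ hj)] at μd
    have := h.eq_of (xor_lt l1 (act_lt _ hj)) hj μd
    have h3 := (by decide +kernel : ∀ j < 4, 1 ^^^ act [3, 4] j = j → j = 2) j hj4 this
    rw [hjd, h3]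

/-- the second case is impossible (Fano plane) -/
theorem three_eq : mu s u 1 * mu s u 2 * mu s u 3 = 1 := by
  rcases h.three_cases with e | e
  · exact e
  exfalso
  have l1 : (1 : ℕ) < 16 := by norm_num
  have l2 : (2 : ℕ) < 16 := by norm_num
  have rel : ∀ i < 16, ∀ j < 16, i ≠ 0 → j ≠ 0 → i ≠ j →
      (mu s u i * t) * (mu s u j * t) * (mu s u (i ^^^ j) * t) = 1 := by
    intro i hi j hj hi0 hj0 hij
    obtain ⟨w, hw, w1, w2⟩ := exists_word (h := h) hi hj hi0 hj0 hij
    have := h.three_W w hw l1 l2 e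
    rw [w1, w2] at this
    have h3 : W s w * (t * ε 2) * (W s w)⁻¹ = t * ε j := by
      rw [← mul_assoc, ← h.W_t w hw, mul_assoc t, h.W_eps w hw l2, w2, ← mul_assoc,
        mul_inv_cancel_right]
    rw [h3] at this
    have hij' := xor_lt hi hj
    have tt' : ∀ v < 16, t * (mu s u v * t) = ε v * mu s u v := by
      intro v hv
      rw [h.mu_t hv, ← mul_assoc, ← mul_assoc, h.tt, one_mul]
    calc (mu s u i * t) * (mu s u j * t) * (mu s u (i ^^^ j) * t)
        = mu s u i * (t * (mu s u j * t)) * mu s u (i ^^^ j) * t := by simp only [mul_assoc]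
      _ = mu s u i * (ε j * mu s u j) * mu s u (i ^^^ j) * t := by rw [tt' j hj]
      _ = ε j * (mu s u i * mu s u j * mu s u (i ^^^ j)) * t := by
          rw [← mul_assoc, h.mu_eps hi hj]; simp only [mul_assoc]
      _ = 1 := by
          rw [this, ← mul_assoc, ← h.tε j hj, mul_assoc t, h.sq hj, mul_one, h.tt]
  have sq' : ∀ v < 16, (mu s u v * t) * (mu s u v * t) = ε v := by
    intro v hv
    rw [mul_assoc, h.mu_t hv, ← mul_assoc t, ← mul_assoc t, h.tt, one_mul, ← mul_assoc,
      h.mu_eps hv hv, mul_assoc, h.mu_sq, mul_one]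
  obtain ⟨U, hU⟩ : ∃ U : ℕ → H, ∀ v, mu s u v * t = U v := ⟨_, fun _ => rfl⟩
  have r12 : ∀ i < 16, ∀ j < 16, i ≠ 0 → j ≠ 0 → i ≠ j → U i * U j = (U (i ^^^ j))⁻¹ := by
    intro i hi j hj h1 h2 h3
    rw [← hU, ← hU, ← hU]
    exact eq_inv_of_mul_eq_one_left (rel i hi j hj h1 h2 h3)
  have cm : ∀ i < 16, ∀ j < 16, i ≠ 0 → j ≠ 0 → i ≠ j → U i * U j = U j * U i := by
    intro i hi j hj h1 h2 h3
    rw [r12 i hi j hj h1 h2 h3, r12 j hj i hi h2 h1 (Ne.symm h3), Nat.xor_comm]
  have a5 : U 5 = (U 1 * U 4)⁻¹ := by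
    rw [r12 1 l1 4 (by norm_num) (by norm_num) (by norm_num) (by norm_num)]; simp
  have a6 : U 6 = (U 2 * U 4)⁻¹ := by
    rw [r12 2 l2 4 (by norm_num) (by norm_num) (by norm_num) (by norm_num)]; simp
  have a7 : U 2 * U 5 = U 1 * U 6 := by
    rw [r12 2 l2 5 (by norm_num) (by norm_num) (by norm_num) (by norm_num),
      r12 1 l1 6 (by norm_num) (by norm_num) (by norm_num) (by norm_num)]; simp
  have c14 := cm 1 l1 4 (by norm_num) (by norm_num) (by norm_num) (by norm_num)
  have c24 := cm 2 l2 4 (by norm_num) (by norm_num) (by norm_num) (by norm_num)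
  have c12 := cm 1 l1 2 l2 (by norm_num) (by norm_num) (by norm_num)
  have q1 : U 1 * U 1 = ε 1 := by rw [← hU]; exact sq' 1 l1
  have q2 : U 2 * U 2 = ε 2 := by rw [← hU]; exact sq' 2 l2
  rw [a5, a6, c14, c24, mul_inv_rev, mul_inv_rev] at a7
  -- `U 2 * ((U 1)⁻¹ * (U 4)⁻¹) = U 1 * ((U 2)⁻¹ * (U 4)⁻¹)`
  have a8 : U 2 * (U 1)⁻¹ = U 1 * (U 2)⁻¹ := by
    have := congrArg (· * U 4) a7
    simpa [mul_assoc] using this
  have a9 : U 2 = U 1 * (U 2)⁻¹ * U 1 := by rw [← a8, inv_mul_cancel_right]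
  have b : (U 2)⁻¹ * U 1 = U 1 * (U 2)⁻¹ := by
    rw [inv_mul_eq_iff_eq_mul, ← mul_assoc, ← c12, mul_inv_cancel_right]
  have a10 : U 2 * U 2 = U 1 * U 1 := by
    rw [mul_assoc, b, ← mul_assoc] at a9
    exact (eq_mul_inv_iff_mul_eq.mp a9)
  rw [q1, q2] at a10
  exact absurd (h.eq_of l2 l1 a10) (by norm_num)

theorem mu_mul {i j : ℕ} (hi : i < 16) (hj : j < 16) : mu s u i * mu s u j = mu s u (i ^^^ j) := by
  by_cases hi0 : i = 0
  · rw [hi0, h.mu_zero, one_mul, Nat.zero_xor]
  by_cases hj0 : j = 0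
  · rw [hj0, h.mu_zero, mul_one, Nat.xor_zero]
  by_cases hij : i = j
  · rw [hij, h.mu_sq, Nat.xor_self, h.mu_zero]
  obtain ⟨w, hw, w1, w2⟩ := exists_word (h := h) hi hj hi0 hj0 hij
  have := h.three_W w hw (i := 1) (j := 2) (by norm_num) (by norm_num) h.three_eq
  rw [w1, w2, mul_one, mul_inv_cancel] at this
  rw [eq_inv_of_mul_eq_one_left this, inv_eq_of_mul_eq_one_left h.mu_sq]

end UHyp

end Cfsg.Agent.TypeM
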