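import Cfsg.Agent.SporRec.TwoAn
import Mathlib
import Cfsg.Agent.SporRec.LyType
import Cfsg.Agent.S0058
import Cfsg.Agent.TypeM.QConf
import Cfsg.Agent.Transfer.ElemAbAut
import Cfsg.Agent.TypeM.LFacts
import Cfsg.Agent.Lib.LocalCore
import Cfsg.Agent.SignalizersComponents.RelSylow
import Cfsg.Agent.Lib.Refl
import Cfsg.Agent.Lib.ListFast
import Cfsg.Agent.TypeM.LemQ
import Cfsg.Agent.TypeM.Two
import Cfsg.Agent.R10.TEval
import Cfsg.Agent.Lib.FinFast
import Cfsg.Agent.UGT.End.McLOuter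
import Cfsg.Agent.FastGrp
import Cfsg.Agent.Prune
set_option linter.all false

section
prune_inst 0x7f00000000000000000000000000000000000000000000000000000000000000000000000000000000000000000000000000000000000000000000000000000000000000000000000000000000000000003fffffffffffffffffffffffffffbeffbdffffffff

-- part: TypeM/WThreeAbs
section
set_option linter.all false
open scoped Cfsg.Agent.FastGrp

-- part: SporRec/NineTwo/Perms
section
/-!
# Permutations of nine or ten points used for the groups with involution centraliser `2.A_9`, `2.A_10`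
-/

set_option autoImplicit false

namespace Cfsg.Agent.SporRec.NineTwo.Perms

open Equiv

/-- `(0 1 2)` -/
def pa (m : ℕ) : Perm (Fin (m + 9)) := swap 0 1 * swap 1 2
/-- `(3 4 5)` -/
def pb (m : ℕ) : Perm (Fin (m + 9)) := swap 3 4 * swap 4 5
/-- `(6 7 8)` -/
def pc (m : ℕ) : Perm (Fin (m + 9)) := swap 6 7 * swap 7 8
/-- `(0 3)(1 4)(2 5)(6 7)` -/
def pu (m : ℕ) : Perm (Fin (m + 9)) := swap 0 3 * swap 1 4 * (swap 2 5 * swap 6 7)
/-- `(0 1)(3 4)` -/
def pg (m : ℕ) : Perm (Fin (m + 9)) := swap 0 1 * swap 3 4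
/-- `(1 2)(4 5)(7 8)` -/
def pt (m : ℕ) : Perm (Fin (m + 9)) := swap 1 2 * swap 4 5 * swap 7 8

/-- `a^i b^j c^k` -/
def pw (m : ℕ) (i j k : Fin 3) : Perm (Fin (m + 9)) := pa m ^ (i : ℕ) * pb m ^ (j : ℕ) * pc m ^ (k : ℕ)

variable {m : ℕ} (hm : m < 2)

include hm

theorem pa_pc : pa m * pc m = pc m * pa m := by interval_cases m <;> decide +kernel
theorem pb_pc : pb m * pc m = pc m * pb m := by interval_cases m <;> decide +kernel
theorem pa_pow : pa m ^ 3 = 1 := by interval_cases m <;> decide +kernel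
theorem pb_pow : pb m ^ 3 = 1 := by interval_cases m <;> decide +kernel
theorem pc_pow : pc m ^ 3 = 1 := by interval_cases m <;> decide +kernel
theorem pu_pa : pu m * pa m * (pu m)⁻¹ = pb m := by interval_cases m <;> decide +kernel
theorem pg_pa : pg m * pa m * (pg m)⁻¹ = (pa m)⁻¹ := by interval_cases m <;> decide +kernel
theorem pu_sq : pu m * pu m = 1 := by interval_cases m <;> decide +kernel
theorem card_pu : (pu m).support.card = 8 := by interval_cases m <;> decide +kernel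


/-- `(6 7)(8 9)` on ten points -/
def ph (m : ℕ) (e f : Fin 2) : Perm (Fin (m + 9)) := swap 6 7 ^ (e : ℕ) * swap 8 (Fin.last (m + 8)) ^ (f : ℕ)

/-- `(ab)^i u^j` -/
def pv (m : ℕ) (i : Fin 3) (j : Fin 2) : Perm (Fin (m + 9)) := (pa m * pb m) ^ (i : ℕ) * pu m ^ (j : ℕ)

end Cfsg.Agent.SporRec.NineTwo.Perms
end

-- part: SporRec/NineTwo/Lifts
section
/-!
# Elements of `2.A_9`, `2.A_10`
-/

set_option autoImplicit false
set_option linter.unusedSectionVars false

namespace Cfsg.Agent.SporRec.NineTwo.Lifts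

open Subgroup Equiv Cfsg.Agent.SporRec.TwoAn Cfsg.Agent.SporRec.NineTwo.Perms

variable {m : ℕ} (hm : m < 2) {C : Type*} [Group C] {K : Cover (Fin (m + 9)) C}

/-- Lifts of `(0 1 2)`, `(3 4 5)`, `(6 7 8)`, `(0 3)(1 4)(2 5)(6 7)`, `(0 1)(3 4)`. -/
structure Lift (K : Cover (Fin (m + 9)) C) (a b c u g : C) : Prop where
  πa : K.π a = pa m
  πb : K.π b = pb m
  πc : K.π c = pc m
  πu : K.π u = pu m
  πg : K.π g = pg m
  a3 : a ^ 3 = 1
  b3 : b ^ 3 = 1
  c3 : c ^ 3 = 1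

include hm

theorem exists_lift (K : Cover (Fin (m + 9)) C) : ∃ a b c u g : C, Lift K a b c u g := by
  obtain ⟨a, ha, ha3⟩ := K.exists_odd_lift (σ := pa m) (n := 3) (by
    rw [Perm.mem_alternatingGroup]; interval_cases m <;> decide +kernel) (by decide) (pa_pow hm)
  obtain ⟨b, hb, hb3⟩ := K.exists_odd_lift (σ := pb m) (n := 3) (by
    rw [Perm.mem_alternatingGroup]; interval_cases m <;> decide +kernel) (by decide) (pb_pow hm)
  obtain ⟨c, hc, hc3⟩ := K.exists_odd_lift (σ := pc m) (n := 3) (by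
    rw [Perm.mem_alternatingGroup]; interval_cases m <;> decide +kernel) (by decide) (pc_pow hm)
  obtain ⟨u, hu⟩ := K.exists_lift (σ := pu m) (by
    rw [Perm.mem_alternatingGroup]; interval_cases m <;> decide +kernel)
  obtain ⟨g, hg⟩ := K.exists_lift (σ := pg m) (by
    rw [Perm.mem_alternatingGroup]; interval_cases m <;> decide +kernel)
  exact ⟨a, b, c, u, g, ha, hb, hc, hu, hg, ha3, hb3, hc3⟩

variable {a b c u g : C} (H : Lift K a b c u g)

include H

theorem ac : a * c = c * a := K.commute_of_odd (n := 3) (by decide) H.a3 (by rw [H.πa, H.πc, pa_pc hm])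
theorem bc : b * c = c * b := K.commute_of_odd (n := 3) (by decide) H.b3 (by rw [H.πb, H.πc, pb_pc hm])

theorem uu : u * u = 1 := by
  rw [K.sq_eq_one_iff, H.πu, pu_sq hm, card_pu hm]
  exact ⟨rfl, dvd_rfl⟩

omit hm H in
theorem conj_eq {x y v : C} (hx : x ^ 3 = 1) (hy : y ^ 3 = 1) (h : K.π v * K.π x * (K.π v)⁻¹ = K.π y) :
    v * x * v⁻¹ = y := by
  refine K.odd_lift_unique (n := 3) (by decide) ?_ hy (by rw [map_mul, map_mul, map_inv, h])
  rw [conj_pow, hx, mul_one, mul_inv_cancel]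

theorem ua : u * a * u⁻¹ = b := conj_eq (K := K) H.a3 H.b3 (by rw [H.πu, H.πa, H.πb, pu_pa hm])
theorem ga : g * a * g⁻¹ = a⁻¹ := conj_eq (K := K) H.a3 (by rw [inv_pow, H.a3, inv_one])
  (by rw [H.πg, H.πa, map_inv, H.πa, pg_pa hm])
omit H in
theorem split_pu : pu m = (swap 0 3 * swap 1 4) * (swap 2 5 * swap 6 7) := by
  interval_cases m <;> decide +kernel

theorem gu : g * u = u * g * K.z := by
  obtain ⟨u1, hu1⟩ := K.exists_lift (σ := swap 0 3 * swap 1 4) (by
    rw [Perm.mem_alternatingGroup]; interval_cases m <;> decide +kernel)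
  obtain ⟨u2, hu2⟩ := K.exists_lift (σ := swap 2 5 * swap 6 7) (by
    rw [Perm.mem_alternatingGroup]; interval_cases m <;> decide +kernel)
  have hne : ((0 : Fin (m + 9)) ≠ 3 ∧ (0 : Fin (m + 9)) ≠ 1 ∧ (0 : Fin (m + 9)) ≠ 4 ∧ (3 : Fin (m + 9)) ≠ 1 ∧
      (3 : Fin (m + 9)) ≠ 4 ∧ (1 : Fin (m + 9)) ≠ 4) := by interval_cases m <;> decide +kernel
  obtain ⟨n1, n2, n3, n4, n5, n6⟩ := hne
  have h1 : g * u1 = u1 * g * K.z := K.anticomm (a := 0) (b := 3) (c := 1) (d := 4) n1 n2 n3 n4 n5 n6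
    hu1 (by rw [H.πg]; rfl)
  have h2 : g * u2 = u2 * g := K.commute_of_disjoint (by
    rw [H.πg, hu2]
    clear * - hm
    interval_cases m <;> unfold Perm.Disjoint <;> decide +kernel)
  have h3 : u = u1 * u2 ∨ u = u1 * u2 * K.z := K.lift_eq (by rw [H.πu, map_mul, hu1, hu2, split_pu hm])
  have h4 : g * (u1 * u2) = u1 * u2 * g * K.z := by
    calc g * (u1 * u2) = (g * u1) * u2 := by group
      _ = u1 * g * (u2 * K.z) := by rw [h1, K.z_comm u2]; group
      _ = u1 * (g * u2) * K.z := by group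
      _ = u1 * u2 * g * K.z := by rw [h2]; group
  rcases h3 with rfl | rfl
  · exact h4
  · calc g * (u1 * u2 * K.z) = g * (u1 * u2) * K.z := by group
      _ = u1 * u2 * g * K.z * K.z := by rw [h4]
      _ = u1 * u2 * (g * K.z) * K.z := by group
      _ = u1 * u2 * K.z * g * K.z := by rw [K.z_comm g]; group


end Cfsg.Agent.SporRec.NineTwo.Lifts
end

-- part: SporRec/NineTwo/Three
section
/-!
# The elementary abelian group of order 27 of `2.A_9`, `2.A_10`
-/

set_option autoImplicit false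
set_option linter.unusedSectionVars false

namespace Cfsg.Agent.SporRec.NineTwo.Three

open Subgroup Equiv Cfsg.Agent.SporRec.TwoAn Cfsg.Agent.SporRec.NineTwo.Perms Cfsg.Agent.SporRec.NineTwo.Lifts

/-- `a^i b^j c^k` -/
def el {G : Type*} [Group G] (a b c : G) (i j k : Fin 3) : G := a ^ (i : ℕ) * b ^ (j : ℕ) * c ^ (k : ℕ)

section abstr

variable {G : Type*} [Group G] {a b c : G} (hab : a * b = b * a) (hac : a * c = c * a) (hbc : b * c = c * b)
  (ha : a ^ 3 = 1) (hb : b ^ 3 = 1) (hc : c ^ 3 = 1)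

theorem pow_add_fin {x : G} (hx : x ^ 3 = 1) (i j : Fin 3) : x ^ ((i + j : Fin 3) : ℕ) = x ^ (i : ℕ) * x ^ (j : ℕ) := by
  rw [Fin.val_add, ← pow_add]
  conv_rhs => rw [← Nat.mod_add_div (i.val + j.val) 3, pow_add, pow_mul, hx, one_pow, mul_one]

include hab hac hbc ha hb hc

theorem el_mul (i j k i' j' k' : Fin 3) : el a b c i j k * el a b c i' j' k' = el a b c (i + i') (j + j') (k + k') := by
  unfold el
  rw [pow_add_fin ha, pow_add_fin hb, pow_add_fin hc]
  have c1 : Commute a b := hab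
  have c2 : Commute a c := hac
  have c3 : Commute b c := hbc
  have e1 : c ^ (k : ℕ) * a ^ (i' : ℕ) = a ^ (i' : ℕ) * c ^ (k : ℕ) := (c2.symm.pow_pow _ _).eq
  have e2 : b ^ (j : ℕ) * a ^ (i' : ℕ) = a ^ (i' : ℕ) * b ^ (j : ℕ) := (c1.symm.pow_pow _ _).eq
  have e3 : c ^ (k : ℕ) * b ^ (j' : ℕ) = b ^ (j' : ℕ) * c ^ (k : ℕ) := (c3.symm.pow_pow _ _).eq
  calc a ^ (i : ℕ) * b ^ (j : ℕ) * c ^ (k : ℕ) * (a ^ (i' : ℕ) * b ^ (j' : ℕ) * c ^ (k' : ℕ))
      = a ^ (i : ℕ) * b ^ (j : ℕ) * (c ^ (k : ℕ) * a ^ (i' : ℕ)) * b ^ (j' : ℕ) * c ^ (k' : ℕ) := by group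
    _ = a ^ (i : ℕ) * (b ^ (j : ℕ) * a ^ (i' : ℕ)) * (c ^ (k : ℕ) * b ^ (j' : ℕ)) * c ^ (k' : ℕ) := by
        rw [e1]; group
    _ = _ := by rw [e2, e3]; group

theorem el_inv (i j k : Fin 3) : (el a b c i j k)⁻¹ = el a b c (-i) (-j) (-k) := by
  rw [inv_eq_iff_mul_eq_one, el_mul hab hac hbc ha hb hc]
  simp [el]

/-- the elementary abelian group `⟨a, b, c⟩` -/
def triple : Subgroup G where
  carrier := {x | ∃ i j k : Fin 3, x = el a b c i j k}
  mul_mem' := by
    rintro x y ⟨i, j, k, rfl⟩ ⟨i', j', k', rfl⟩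
    exact ⟨_, _, _, el_mul hab hac hbc ha hb hc _ _ _ _ _ _⟩
  one_mem' := ⟨0, 0, 0, by simp [el]⟩
  inv_mem' := by
    rintro x ⟨i, j, k, rfl⟩
    exact ⟨_, _, _, el_inv hab hac hbc ha hb hc _ _ _⟩

theorem el_pow (i j k : Fin 3) : el a b c i j k ^ 3 = 1 := by
  rw [pow_succ, pow_two, el_mul hab hac hbc ha hb hc, el_mul hab hac hbc ha hb hc]
  have : ∀ i : Fin 3, i + i + i = 0 := by decide
  rw [this, this, this]
  simp [el]

end abstr

variable {m : ℕ} (hm : m < 2) {C : Type*} [Group C] {K : Cover (Fin (m + 9)) C} {a b c u g : C} (H : Lift K a b c u g)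

include hm H


omit hm H in
theorem uu_apply (K : Cover (Fin (m + 9)) C) {u : C} (hu : u * u = 1) (x : Fin (m + 9)) : K.π u (K.π u x) = x := by
  have h1 : K.π u * K.π u = 1 := by rw [← map_mul, hu, map_one]
  have := congrArg (fun f : Perm (Fin (m + 9)) => f x) h1
  simpa only [Perm.mul_apply, Perm.one_apply] using this

omit hm H in
theorem moved_u (K : Cover (Fin (m + 9)) C) {u : C} (hu : u * u = 1) {x : Fin (m + 9)} (hx : K.π u x ≠ x) :
    K.π u (K.π u x) ≠ K.π u x := fun h => hx ((K.π u).injective h)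

/-- a normal `2`-subgroup of `C_C(u)` -/
def blk (K : Cover (Fin (m + 9)) C) {u : C} (hu : u * u = 1) : Subgroup C where
  carrier := {g | g * u = u * g ∧ ∀ x, K.π u x ≠ x → K.π g x = x ∨ K.π g x = K.π u x}
  mul_mem' := by
    rintro g h ⟨hg, hg'⟩ ⟨hh, hh'⟩
    refine ⟨by rw [mul_assoc, hh, ← mul_assoc, hg, mul_assoc], fun x hx => ?_⟩
    rw [map_mul, Perm.mul_apply]
    rcases hh' x hx with h1 | h1
    · rw [h1]; exact hg' x hx
    · rw [h1]
      rcases hg' _ (moved_u K hu hx) with h2 | h2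
      · right; exact h2
      · left; rw [h2, uu_apply K hu]
  one_mem' := ⟨by rw [one_mul, mul_one], fun x _ => Or.inl (by rw [map_one]; rfl)⟩
  inv_mem' := by
    rintro g ⟨hg, hg'⟩
    refine ⟨?_, fun x hx => ?_⟩
    · exact ((show Commute g u from hg).inv_left).eq
    · rw [map_inv, Perm.inv_eq_iff_eq, Perm.inv_eq_iff_eq]
      rcases hg' x hx with h1 | h1
      · left; exact h1.symm
      · right
        rcases hg' _ (moved_u K hu hx) with h2 | h2
        · exfalso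
          apply hx
          exact (K.π g).injective (by rw [h2, h1])
        · rw [h2, uu_apply K hu]

end Cfsg.Agent.SporRec.NineTwo.Three
end

-- part: SporRec/NineTwo/Abs
section
/-!
# Abstract lemmas: recognising Sylow subgroups, four-groups in centralisers
-/

set_option autoImplicit false

namespace Cfsg.Agent.SporRec.NineTwo.Abs

open Subgroup Cfsg.Agent.SporRec.LyType

/-- A `p`-subgroup `P` which contains all `p`-elements normalising it contains a conjugate of each `p`-subgroup. -/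
theorem exists_conj_le_top {D : Type*} [Group D] [Finite D] {p : ℕ} [Fact p.Prime] {P : Subgroup D} (hP : IsPGroup p P)
    (hN : ∀ g : D, (∃ k : ℕ, g ^ p ^ k = 1) → (∀ y ∈ P, g * y * g⁻¹ ∈ P) → g ∈ P) {Q : Subgroup D}
    (hQ : IsPGroup p Q) : ∃ g : D, ∀ q ∈ Q, g * q * g⁻¹ ∈ P := by
  obtain ⟨S, hS⟩ := hP.exists_le_sylow
  have hSP : (S : Subgroup D) = P := by
    refine le_antisymm ?_ hS
    have hnil : Group.IsNilpotent S := S.2.isNilpotent
    have hnc := Group.normalizerCondition_of_isNilpotent (G := S)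
    rw [normalizerCondition_iff_only_full_group_self_normalizing] at hnc
    have h1 := hnc (P.subgroupOf S) (by
      refine le_antisymm ?_ le_normalizer
      intro g hg
      rw [mem_subgroupOf]
      obtain ⟨k, hk⟩ := S.2 g
      refine hN g ⟨k, ?_⟩ ?_
      · have := congrArg Subtype.val hk
        simpa using this
      · intro y hy
        have h2 := (mem_normalizer_iff.1 hg ⟨y, hS hy⟩).1 (mem_subgroupOf.2 hy)
        exact mem_subgroupOf.1 h2)
    rw [subgroupOf_eq_top] at h1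
    exact h1
  obtain ⟨S', hS'⟩ := hQ.exists_le_sylow
  obtain ⟨g, hg⟩ := MulAction.exists_smul_eq D S' S
  refine ⟨g, fun q hq => ?_⟩
  rw [← hSP, ← hg, Sylow.coe_subgroup_smul]
  exact ⟨q, hS' hq, rfl⟩

/-- The relative form. -/
theorem exists_conj_le {G : Type*} [Group G] [Finite G] {p : ℕ} [Fact p.Prime] {H P : Subgroup G} (hPH : P ≤ H)
    (hP : IsPGroup p P)
    (hN : ∀ g ∈ H, (∃ k : ℕ, g ^ p ^ k = 1) → (∀ y ∈ P, g * y * g⁻¹ ∈ P) → g ∈ P) {Q : Subgroup G} (hQH : Q ≤ H)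
    (hQ : IsPGroup p Q) : ∃ g ∈ H, ∀ q ∈ Q, g * q * g⁻¹ ∈ P := by
  obtain ⟨g, hg⟩ := exists_conj_le_top (P := P.subgroupOf H) (Q := Q.subgroupOf H) (p := p)
    (hP.of_equiv (subgroupOfEquivOfLe hPH).symm) (by
      rintro g ⟨k, hk⟩ h
      rw [mem_subgroupOf]
      refine hN g g.2 ⟨k, by simpa using congrArg Subtype.val hk⟩ (fun y hy => ?_)
      exact mem_subgroupOf.1 (h ⟨y, hPH hy⟩ (mem_subgroupOf.2 hy))) (hQ.of_equiv (subgroupOfEquivOfLe hQH).symm)
  refine ⟨g, g.2, fun q hq => ?_⟩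
  exact mem_subgroupOf.1 (hg ⟨q, hQH hq⟩ (mem_subgroupOf.2 hq))

/-- If `r` commutes with the involution `t` and with two distinct commuting involutions then it commutes with an
involution `≠ t` which commutes with `t`. -/
theorem exists_involution {G : Type*} [Group G] [Finite G] {t r s₁ s₂ : G} (ht : t * t = 1)
    (htr : t * r = r * t) (h1 : s₁ * s₁ = 1) (h11 : s₁ ≠ 1) (h2 : s₂ * s₂ = 1) (h21 : s₂ ≠ 1) (h12 : s₁ ≠ s₂)
    (hc : s₁ * s₂ = s₂ * s₁) (hr1 : s₁ * r = r * s₁) (hr2 : s₂ * r = r * s₂) :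
    ∃ s, s * s = 1 ∧ s ≠ 1 ∧ s ≠ t ∧ s * t = t * s ∧ s * r = r * s := by
  let H : Subgroup G := centralizer {r}
  have hH : ∀ x : G, x ∈ H ↔ x * r = r * x := fun x => mem_centralizer_singleton_iff
  have e1 : (⟨s₁, (hH _).2 hr1⟩ : H) * ⟨s₁, (hH _).2 hr1⟩ = 1 := Subtype.ext h1
  have et : (⟨t, (hH _).2 htr⟩ : H) * ⟨t, (hH _).2 htr⟩ = 1 := Subtype.ext ht
  rcases dihedral_dichotomy e1 et with ⟨g, hg⟩ | ⟨w, hw, hw1, hws, hwt⟩
  · -- `s₁` and `t` conjugate in `H`
    have hg' : (g : G) * s₁ * (g : G)⁻¹ = t := congrArg Subtype.val hg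
    refine ⟨g * s₂ * (g : G)⁻¹, ?_, ?_, ?_, ?_, ?_⟩
    · calc (g : G) * s₂ * (g : G)⁻¹ * (g * s₂ * (g : G)⁻¹) = g * (s₂ * s₂) * (g : G)⁻¹ := by group
        _ = 1 := by rw [h2]; group
    · intro h
      apply h21
      calc s₂ = (g : G)⁻¹ * (g * s₂ * (g : G)⁻¹) * g := by group
        _ = 1 := by rw [h]; group
    · intro h
      rw [← hg'] at h
      apply h12
      exact (mul_left_cancel (mul_right_cancel h)).symm
    · rw [← hg']
      calc (g : G) * s₂ * (g : G)⁻¹ * (g * s₁ * (g : G)⁻¹) = g * (s₂ * s₁) * (g : G)⁻¹ := by group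
        _ = g * (s₁ * s₂) * (g : G)⁻¹ := by rw [hc]
        _ = g * s₁ * (g : G)⁻¹ * (g * s₂ * (g : G)⁻¹) := by group
    · have c1 : Commute (g : G) r := (hH _).1 g.2
      have c2 : Commute s₂ r := hr2
      exact ((c1.mul_left c2).mul_left c1.inv_left).eq
  · -- a common involution
    by_cases hwt' : (w : G) = t
    · -- `t` commutes with `s₁`
      have hts : t * s₁ = s₁ * t := by
        have := congrArg Subtype.val hws
        rw [← hwt']
        exact this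
      by_cases hs1 : s₁ = t
      · exact ⟨s₂, h2, h21, fun h => h12 (hs1.trans h.symm), by rw [← hs1]; exact hc.symm, hr2⟩
      · exact ⟨s₁, h1, h11, hs1, hts.symm, hr1⟩
    · refine ⟨w, congrArg Subtype.val hw, fun h => hw1 (Subtype.ext h), hwt', congrArg Subtype.val hwt, (hH _).1 w.2⟩


/-! ### The `p`-core of a subgroup -/

section pcore

variable {G : Type*} [Group G] {p : ℕ}

end pcore

open Cfsg.Agent.SporRec.NineTwo.Three

/-- Generation of a `2`-group by the centralisers of the non-trivial elements of a group of order nine. -/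
theorem gen {G : Type*} [Group G] [Finite G] {Q T : Subgroup G} (hQ : IsPGroup 2 Q) {ρ x : G} (hρ : ρ ^ 3 = 1)
    (hx : x ^ 3 = 1) (hρx : ρ * x = x * ρ) (hxρ : x ∉ zpowers ρ) (hρ1 : ρ ≠ 1)
    (nρ : ∀ y ∈ Q, ρ * y * ρ⁻¹ ∈ Q) (nx : ∀ y ∈ Q, x * y * x⁻¹ ∈ Q)
    (h1 : ∀ y ∈ Q, y * ρ = ρ * y → y ∈ T)
    (h2 : ∀ m : Fin 3, ∀ y ∈ Q, y * (x * ρ ^ (m : ℕ)) = x * ρ ^ (m : ℕ) * y → y ∈ T) : Q ≤ T := by
  have h3 : Fact (Nat.Prime 3) := ⟨by norm_num⟩
  have h2' : Fact (Nat.Prime 2) := ⟨by norm_num⟩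
  set R : Subgroup G := triple (a := ρ) (b := x) (c := 1) hρx (by rw [mul_one, one_mul]) (by rw [mul_one, one_mul])
    hρ hx (one_pow _) with hR
  have hmem : ∀ y, y ∈ R ↔ ∃ i j k : Fin 3, y = el ρ x 1 i j k := fun y => Iff.rfl
  have hel : ∀ i j k : Fin 3, el ρ x 1 i j k = ρ ^ (i : ℕ) * x ^ (j : ℕ) := fun i j k => by
    rw [el, one_pow, mul_one]
  have hRcomm : ∀ y ∈ R, ∀ w ∈ R, y * w = w * y := by
    rintro y ⟨i, j, k, rfl⟩ w ⟨i', j', k', rfl⟩
    rw [el_mul hρx (by rw [mul_one, one_mul]) (by rw [mul_one, one_mul]) hρ hx (one_pow _),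
      el_mul hρx (by rw [mul_one, one_mul]) (by rw [mul_one, one_mul]) hρ hx (one_pow _), add_comm i, add_comm j,
      add_comm k]
  have hRpow : ∀ y ∈ R, y ^ 3 = 1 := by
    rintro y ⟨i, j, k, rfl⟩
    exact el_pow hρx (by rw [mul_one, one_mul]) (by rw [mul_one, one_mul]) hρ hx (one_pow _) i j k
  have hρR : ρ ∈ R := ⟨1, 0, 0, by simp [el]⟩
  have hxR : x ∈ R := ⟨0, 1, 0, by simp [el]⟩
  have : IsMulCommutative R := ⟨⟨fun y w => Subtype.ext (hRcomm y y.2 w w.2)⟩⟩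
  have hR3 : IsPGroup 3 R := fun y => ⟨1, Subtype.ext (by
    rw [pow_one]
    exact hRpow y y.2)⟩
  have hncyc : ¬ IsCyclic R := by
    rintro ⟨g, hg⟩
    obtain ⟨k, hk⟩ := hg ⟨ρ, hρR⟩
    obtain ⟨l, hl⟩ := hg ⟨x, hxR⟩
    have hk' : (g : G) ^ k = ρ := by
      have := congrArg Subtype.val hk
      simpa using this
    have hl' : (g : G) ^ l = x := by
      have := congrArg Subtype.val hl
      simpa using this
    have hg3 : (g : G) ^ (3 : ℤ) = 1 := by
      have := hRpow g g.2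
      exact_mod_cast this
    have hk3 : ¬ (3 : ℤ) ∣ k := by
      rintro ⟨k', rfl⟩
      apply hρ1
      rw [← hk', zpow_mul, hg3, one_zpow]
    -- `g ∈ ⟨ρ⟩`
    have hgρ : (g : G) ∈ zpowers ρ := by
      have hc : IsCoprime (3 : ℤ) k := by
        have := (Int.isCoprime_iff_gcd_eq_one (m := 3) (n := k)).2 (by
          have h4 : Int.gcd 3 k ∣ 3 := by exact_mod_cast Int.gcd_dvd_left 3 k
          have h5 := (Nat.dvd_prime Nat.prime_three).1 h4
          rcases h5 with h5 | h5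
          · exact h5
          · exfalso
            apply hk3
            have h6 : ((Int.gcd 3 k : ℕ) : ℤ) ∣ k := Int.gcd_dvd_right 3 k
            rw [h5] at h6
            exact_mod_cast h6)
        exact this
      obtain ⟨s, t, hst⟩ := hc
      refine ⟨t, ?_⟩
      show ρ ^ t = g
      calc ρ ^ t = ((g : G) ^ k) ^ t := by rw [hk']
        _ = (g : G) ^ (t * k) := by rw [← zpow_mul, mul_comm]
        _ = (g : G) ^ (3 * s) * (g : G) ^ (t * k) := by rw [zpow_mul (g : G) 3, hg3, one_zpow, one_mul]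
        _ = (g : G) ^ (s * 3 + t * k) := by rw [← zpow_add, mul_comm 3 s]
        _ = g := by rw [hst, zpow_one]
    apply hxρ
    rw [← hl']
    exact zpow_mem hgρ l
  have hRQ : R ≤ normalizer (Q : Set G) := by
    have hfin : ∀ g : G, (∀ y ∈ Q, g * y * g⁻¹ ∈ Q) → g ∈ normalizer (Q : Set G) :=
      fun g hg => Subgroup.mem_normalizer_fintype hg
    rintro y ⟨i, j, k, rfl⟩
    rw [hel]
    exact mul_mem (pow_mem (hfin _ nρ) _) (pow_mem (hfin _ nx) _)
  have hcop : (Nat.card R).Coprime (Nat.card Q) := by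
    obtain ⟨r, hr⟩ := IsPGroup.iff_card.1 hR3
    obtain ⟨q, hq⟩ := IsPGroup.iff_card.1 hQ
    rw [hr, hq]
    exact Nat.Coprime.pow _ _ (by norm_num)
  rw [← Cfsg.Agent.S0058.result R Q hncyc hRQ hcop]
  refine iSup₂_le ?_
  rintro y ⟨⟨i, j, k, rfl⟩, hy1⟩ w hw
  rw [hel] at hw hy1
  obtain ⟨hwQ, hwc⟩ := mem_inf.1 hw
  rw [mem_centralizer_singleton_iff] at hwc
  have hall : ∀ i : Fin 3, i = 0 ∨ i = 1 ∨ i = 2 := by decide
  rcases hall j with rfl | rfl | rfl
  · rcases hall i with rfl | rfl | rfl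
    · simp at hy1
    · simp only [Fin.val_one, pow_one, Fin.val_zero, pow_zero, mul_one] at hwc
      exact h1 w hwQ hwc
    · simp only [Fin.val_two, Fin.val_zero, pow_zero, mul_one] at hwc
      refine h1 w hwQ ?_
      have h4 : ρ = (ρ ^ 2) ^ 2 := by
        calc ρ = ρ ^ 3 * ρ := by rw [hρ, one_mul]
          _ = (ρ ^ 2) ^ 2 := by group
      have c : Commute w (ρ ^ 2) := hwc
      have := (c.pow_right 2).eq
      rw [← h4] at this
      exact this
  · refine h2 i w hwQ ?_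
    simp only [Fin.val_one, pow_one] at hwc
    have h4 : x * ρ ^ (i : ℕ) = ρ ^ (i : ℕ) * x := ((show Commute ρ x from hρx).pow_left _).eq.symm
    rw [h4]; exact hwc
  · refine h2 (i + i) w hwQ ?_
    simp only [Fin.val_two] at hwc
    have c0 : Commute ρ x := hρx
    have h4 : x * ρ ^ ((i + i : Fin 3) : ℕ) = (ρ ^ (i : ℕ) * x ^ 2) ^ 2 := by
      rw [pow_add_fin hρ, (c0.pow_pow (i : ℕ) 2).mul_pow]
      have e1 : (x ^ 2) ^ 2 = x := by
        calc (x ^ 2) ^ 2 = x ^ 3 * x := by group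
          _ = x := by rw [hx, one_mul]
      rw [e1, pow_two]
      exact ((c0.pow_left _).mul_left (c0.pow_left _)).eq.symm
    rw [h4]
    have c : Commute w (ρ ^ (i : ℕ) * x ^ 2) := hwc
    exact (c.pow_right 2).eq

end Cfsg.Agent.SporRec.NineTwo.Abs
end

-- part: TypeM/WThreeAbs
section
/-!
# Theorem W, step [W3'], the abstract part

`G` finite, `t` an involution, `Q` elementary abelian of order `2^8` normalised by `t` with
`E = C_Q(t)` of order `2^4`.  If `s` is an involution normalising `Q` with `|C_Q(s)| = 2^4`, `g s g⁻¹ = t` and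
`g (C_Q(s) ⟨s⟩) g⁻¹ ≤ ⟨t⟩E'` then `g` can be chosen with `g Q g⁻¹ = Q'`.
-/

set_option autoImplicit false

namespace Cfsg.Agent.TypeM.WThreeAbs

open Subgroup Cfsg.Agent.SporRec.NineTwo.Abs

variable {G : Type*} [Group G]

/-- A subgroup made of two cosets of `H`. -/
theorem card_double {H K : Subgroup G} {s : G} (hHK : H ≤ K) (hs : s ∈ K) (hsH : s ∉ H)
    (h : ∀ x ∈ K, x ∈ H ∨ x * s ∈ H) : Nat.card K = 2 * Nat.card H := by
  have h1 : H.relIndex K = 2 := by
    rw [relIndex_eq_two_iff]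
    refine ⟨s, hs, fun b hb => ?_⟩
    by_cases hbH : b ∈ H
    · refine Or.inr ⟨hbH, fun h' => hsH ?_⟩
      have := H.mul_mem (H.inv_mem hbH) h'
      simpa using this
    · exact Or.inl ⟨(h b hb).resolve_left hbH, hbH⟩
  have h2 := relIndex_mul_relIndex ⊥ H K bot_le hHK
  rw [relIndex_bot_left, relIndex_bot_left, h1] at h2
  rw [← h2, mul_comm]

/-- If `s` is an involution acting on the elementary abelian `Q` with `|Q| = |C_Q(s)|^2`, all elements of
`s C_Q(s)` are conjugate to `s` under `Q`. -/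
theorem free_conj [Finite G] {Q : Subgroup G} {s : G} (comm : ∀ x ∈ Q, ∀ y ∈ Q, x * y = y * x)
    (sq : ∀ x ∈ Q, x * x = 1) (ss : s * s = 1) (sQ : ∀ x ∈ Q, s * x * s⁻¹ ∈ Q)
    (hcard : Nat.card Q = Nat.card (Q ⊓ centralizer {s} : Subgroup G) * Nat.card (Q ⊓ centralizer {s} : Subgroup G))
    {x : G} (hx : x ∈ Q) (hxs : x * s = s * x) : ∃ q ∈ Q, q * s * q⁻¹ = s * x := by
  have ss' : s⁻¹ = s := inv_eq_of_mul_eq_one_left ss
  let f : Q →* Q := MonoidHom.mk' (fun q => ⟨s * q * s⁻¹ * (q : G)⁻¹, Q.mul_mem (sQ q q.2) (Q.inv_mem q.2)⟩) (by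
    intro x y
    apply Subtype.ext
    simp only [coe_mul, MulMemClass.mk_mul_mk]
    have h2 := comm _ (Q.inv_mem x.2) _ (Q.mul_mem (sQ y y.2) (Q.inv_mem y.2))
    calc s * ((x : G) * y) * s⁻¹ * ((x : G) * y)⁻¹
        = s * x * s⁻¹ * (((s * y * s⁻¹) * (y : G)⁻¹) * (x : G)⁻¹) := by group
      _ = s * x * s⁻¹ * ((x : G)⁻¹ * ((s * y * s⁻¹) * (y : G)⁻¹)) := by rw [h2]
      _ = s * x * s⁻¹ * (x : G)⁻¹ * (s * y * s⁻¹ * (y : G)⁻¹) := by group)
  have hf : ∀ q : Q, ((f q : Q) : G) = s * q * s⁻¹ * (q : G)⁻¹ := fun q => rfl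
  have hfC : ∀ q : Q, (f q : G) ∈ Q ⊓ centralizer {s} := by
    intro q
    refine ⟨(f q).2, mem_centralizer_singleton_iff.2 ?_⟩
    have h1 : (s * q * s⁻¹ * (q : G)⁻¹)⁻¹ = s * q * s⁻¹ * (q : G)⁻¹ :=
      inv_eq_of_mul_eq_one_left (sq _ (Q.mul_mem (sQ q q.2) (Q.inv_mem q.2)))
    rw [hf]
    calc s * q * s⁻¹ * (q : G)⁻¹ * s = (s * q * s⁻¹ * (q : G)⁻¹)⁻¹ * s := by rw [h1]
      _ = (q : G) * s * (q : G)⁻¹ * (s⁻¹ * s) := by group
      _ = (s * s) * (q : G) * s * (q : G)⁻¹ := by rw [ss]; group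
      _ = s * (s * q * s⁻¹ * (q : G)⁻¹) := by rw [ss']; group
  have hker : Nat.card f.ker = Nat.card (Q ⊓ centralizer {s} : Subgroup G) := by
    have h1 : f.ker = (Q ⊓ centralizer {s}).subgroupOf Q := by
      ext q
      rw [MonoidHom.mem_ker, mem_subgroupOf, mem_inf, mem_centralizer_singleton_iff]
      constructor
      · intro h
        have h2 : s * q * s⁻¹ * (q : G)⁻¹ = 1 := by rw [← hf, h]; rfl
        have h3 : s * (q : G) * s⁻¹ = q := mul_inv_eq_one.1 h2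
        exact ⟨q.2, (mul_inv_eq_iff_eq_mul.1 h3).symm⟩
      · rintro ⟨_, h⟩
        apply Subtype.ext
        rw [hf]
        have : s * (q : G) * s⁻¹ = q := by rw [← h]; group
        rw [this]; simp
    rw [h1]
    exact Nat.card_congr (subgroupOfEquivOfLe inf_le_left).toEquiv
  have hpos : 0 < Nat.card (Q ⊓ centralizer {s} : Subgroup G) := Nat.card_pos
  have hrange : Nat.card f.range = Nat.card (Q ⊓ centralizer {s} : Subgroup G) := by
    have h1 : Nat.card f.range * Nat.card f.ker = Nat.card Q := by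
      rw [← f.ker.card_mul_index, mul_comm, index_ker]
    rw [hker, hcard] at h1
    exact Nat.eq_of_mul_eq_mul_right hpos h1
  have hle : f.range.map Q.subtype ≤ Q ⊓ centralizer {s} := by
    rintro _ ⟨_, ⟨q, rfl⟩, rfl⟩
    exact hfC q
  have heq : f.range.map Q.subtype = Q ⊓ centralizer {s} := by
    refine Subgroup.eq_of_le_of_card_ge hle ?_
    rw [Nat.card_congr (f.range.equivMapOfInjective Q.subtype Q.subtype_injective).toEquiv.symm, hrange]
  have hxmem : x ∈ f.range.map Q.subtype := by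
    rw [heq]; exact ⟨hx, mem_centralizer_singleton_iff.2 hxs⟩
  obtain ⟨_, ⟨q, rfl⟩, hq⟩ := hxmem
  refine ⟨q, q.2, ?_⟩
  have hq' : s * q * s⁻¹ * (q : G)⁻¹ = x := hq
  rw [← hq']
  calc (q : G) * s * (q : G)⁻¹ = (s * s) * q * s * (q : G)⁻¹ := by rw [ss]; group
    _ = s * (s * q * s⁻¹ * (q : G)⁻¹) := by rw [ss']; group

/-- In a finite group, mapping into itself is enough for normalising. -/
theorem mem_norm [Finite G] {H : Subgroup G} {g : G} (h : ∀ x ∈ H, g * x * g⁻¹ ∈ H) :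
    g ∈ normalizer (H : Set G) := by
  have h1 : H.map (MulAut.conj g).toMonoidHom = H := by
    refine Subgroup.eq_of_le_of_card_ge ?_ ?_
    · rintro _ ⟨x, hx, rfl⟩
      exact h x hx
    · rw [Subgroup.card_map_of_injective (MulAut.conj g).injective]
  rw [mem_normalizer_iff]
  intro x
  constructor
  · exact h x
  · intro hx
    have hx' : g * x * g⁻¹ ∈ H := hx
    rw [← h1] at hx'
    obtain ⟨y, hy, hyx⟩ := hx'
    have : g * y * g⁻¹ = g * x * g⁻¹ := hyx
    have hyx' : y = x := by simpa using this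
    exact hyx' ▸ hy

/-- A cyclic group generated by a `2`-element. -/
theorem isPGroup_zpowers {g : G} (hg : ∃ k : ℕ, g ^ 2 ^ k = 1) : IsPGroup 2 (zpowers g) := by
  obtain ⟨k, hk⟩ := hg
  rintro ⟨x, hx⟩
  obtain ⟨n, rfl⟩ := mem_zpowers_iff.1 hx
  refine ⟨k, Subtype.ext ?_⟩
  rw [SubgroupClass.coe_pow]
  show (g ^ n) ^ 2 ^ k = 1
  rw [← zpow_natCast, ← zpow_mul, mul_comm, zpow_mul, zpow_natCast, hk, one_zpow]

/-- A `2`-element normalising a `2`-group generates a `2`-group with it. -/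
theorem isPGroup_sup [Finite G] {P : Subgroup G} (hP : IsPGroup 2 P) {g : G} (hg : ∃ k : ℕ, g ^ 2 ^ k = 1)
    (h : ∀ x ∈ P, g * x * g⁻¹ ∈ P) : IsPGroup 2 (P ⊔ zpowers g : Subgroup G) := by
  refine hP.to_sup_of_normal_left' (isPGroup_zpowers hg) ?_
  rw [zpowers_le]; exact mem_norm h

theorem exists_pow {P : Subgroup G} (hP : IsPGroup 2 P) {g : G} (hg : g ∈ P) : ∃ k : ℕ, g ^ 2 ^ k = 1 := by
  obtain ⟨k, hk⟩ := hP ⟨g, hg⟩
  exact ⟨k, by simpa using congrArg Subtype.val hk⟩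

/-- For an involution `s` acting on the elementary abelian `Q`. -/
theorem conj_eq {Q : Subgroup G} {s : G} (comm : ∀ x ∈ Q, ∀ y ∈ Q, x * y = y * x) (sq : ∀ x ∈ Q, x * x = 1)
    (ss : s * s = 1) (sQ : ∀ x ∈ Q, s * x * s⁻¹ ∈ Q) {q : G} (hq : q ∈ Q) :
    ∃ e ∈ Q, e * s = s * e ∧ q * s * q⁻¹ = s * e := by
  have ss' : s⁻¹ = s := inv_eq_of_mul_eq_one_left ss
  have hsq := sQ q hq
  rw [ss'] at hsq
  have hqi : q⁻¹ = q := inv_eq_of_mul_eq_one_left (sq q hq)
  have hc := comm _ hsq _ hq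
  refine ⟨s * q * s * q, Q.mul_mem hsq hq, ?_, ?_⟩
  · calc s * q * s * q * s = (s * q * s * q) * s := rfl
      _ = (q * (s * q * s)) * s := by rw [hc]
      _ = q * (s * q * (s * s)) := by group
      _ = (s * s) * q * s * q := by rw [ss]; group
      _ = s * (s * q * s * q) := by group
  · rw [hqi]
    calc q * s * q = (s * s) * q * s * q := by rw [ss]; group
      _ = s * (s * q * s * q) := by group

/-- The elementary abelian group `Q` with `t`. -/
structure Fr (t : G) (Q : Subgroup G) : Prop where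
  comm : ∀ x ∈ Q, ∀ y ∈ Q, x * y = y * x
  sq : ∀ x ∈ Q, x * x = 1
  tt : t * t = 1
  tQ : ∀ x ∈ Q, t * x * t⁻¹ ∈ Q
  card : Nat.card Q = 2 ^ 8
  cardE : Nat.card (Q ⊓ centralizer {t} : Subgroup G) = 2 ^ 4
  centE : ∀ g : G, (∃ k : ℕ, g ^ 2 ^ k = 1) → g * t = t * g → (∀ x ∈ Q, x * t = t * x → g * x = x * g) →
    g ∈ Q ∨ g * t ∈ Q
  notE : ∀ g : G, ∀ x ∈ Q, x * t = t * x → g * t * g⁻¹ ≠ x

/-- The group `C(E) ∩ {h | t^h ∈ tE}`. -/
def HH (t : G) (Q : Subgroup G) : Subgroup G where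
  carrier := {h | (∀ e ∈ Q, e * t = t * e → h * e = e * h) ∧ ∃ e ∈ Q, e * t = t * e ∧ h * t * h⁻¹ = t * e}
  one_mem' := ⟨fun e _ _ => by simp, 1, Q.one_mem, by simp, by simp⟩
  mul_mem' := by
    rintro x y ⟨hx, e, he, het, hxe⟩ ⟨hy, f, hf, hft, hyf⟩
    refine ⟨fun c hc hct => by rw [mul_assoc, hy c hc hct, ← mul_assoc, hx c hc hct, mul_assoc], e * f,
      Q.mul_mem he hf, by rw [mul_assoc, hft, ← mul_assoc, het, mul_assoc], ?_⟩
    have hxf : x * f * x⁻¹ = f := by rw [hx f hf hft]; group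
    calc x * y * t * (x * y)⁻¹ = x * (y * t * y⁻¹) * x⁻¹ := by group
      _ = x * (t * f) * x⁻¹ := by rw [hyf]
      _ = (x * t * x⁻¹) * (x * f * x⁻¹) := by group
      _ = t * (e * f) := by rw [hxe, hxf, mul_assoc]
  inv_mem' := by
    rintro x ⟨hx, e, he, het, hxe⟩
    refine ⟨fun c hc hct => ?_, e⁻¹, Q.inv_mem he, ?_, ?_⟩
    · have h1 := hx c hc hct
      calc x⁻¹ * c = x⁻¹ * (c * x) * x⁻¹ := by group
        _ = c * x⁻¹ := by rw [← h1]; group
    · calc e⁻¹ * t = e⁻¹ * (t * e) * e⁻¹ := by group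
        _ = t * e⁻¹ := by rw [← het]; group
    · have h1 := hx e he het
      have h2 : x⁻¹ * e * x = e := by
        rw [mul_assoc, ← h1]; group
      have h3 : x⁻¹ * (t * e) * x = t := by rw [← hxe]; group
      calc x⁻¹ * t * x⁻¹⁻¹ = (x⁻¹ * (t * e) * x) * (x⁻¹ * e * x)⁻¹ := by group
        _ = t * e⁻¹ := by rw [h3, h2]

theorem mem_HH {t : G} {Q : Subgroup G} {h : G} : h ∈ HH t Q ↔
    (∀ e ∈ Q, e * t = t * e → h * e = e * h) ∧ ∃ e ∈ Q, e * t = t * e ∧ h * t * h⁻¹ = t * e := Iff.rfl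

variable {t : G} {Q : Subgroup G}

theorem isPGroup_of_sq (sq : ∀ x ∈ Q, x * x = 1) : IsPGroup 2 Q := by
  rintro ⟨x, hx⟩
  refine ⟨1, Subtype.ext ?_⟩
  rw [SubgroupClass.coe_pow]
  show x ^ 2 ^ 1 = 1
  rw [pow_one, pow_two]
  exact sq x hx

/-- `Q⟨s⟩` for an involution `s` normalising `Q`. -/
def Qs (Q : Subgroup G) (s : G) (ss : s * s = 1) (sQ : ∀ x ∈ Q, s * x * s⁻¹ ∈ Q) : Subgroup G where
  carrier := {x | x ∈ Q ∨ x * s ∈ Q}
  one_mem' := Or.inl Q.one_mem
  mul_mem' := by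
    have ss' : s⁻¹ = s := inv_eq_of_mul_eq_one_left ss
    rintro x y (hx | hx) (hy | hy)
    · exact Or.inl (Q.mul_mem hx hy)
    · exact Or.inr (by rw [mul_assoc]; exact Q.mul_mem hx hy)
    · right
      have := Q.mul_mem hx (sQ y hy)
      have e : x * s * (s * y * s⁻¹) = x * (s * s) * y * s := by rw [ss']; group
      rw [e, ss, mul_one] at this
      exact this
    · left
      have := Q.mul_mem hx (sQ _ hy)
      have e : x * s * (s * (y * s) * s⁻¹) = x * (s * s) * y := by group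
      rw [e, ss, mul_one] at this
      exact this
  inv_mem' := by
    have ss' : s⁻¹ = s := inv_eq_of_mul_eq_one_left ss
    rintro x (hx | hx)
    · exact Or.inl (Q.inv_mem hx)
    · right
      have := sQ _ (Q.inv_mem hx)
      have e : s * (x * s)⁻¹ * s⁻¹ = x⁻¹ * s⁻¹ := by group
      rw [e, ss'] at this
      exact this

theorem mem_Qs {s : G} {ss : s * s = 1} {sQ : ∀ x ∈ Q, s * x * s⁻¹ ∈ Q} {x : G} :
    x ∈ Qs Q s ss sQ ↔ x ∈ Q ∨ x * s ∈ Q := Iff.rfl

theorem isPGroup_Qs [Finite G] {s : G} (ss : s * s = 1) (sQ : ∀ x ∈ Q, s * x * s⁻¹ ∈ Q)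
    (sq : ∀ x ∈ Q, x * x = 1) : IsPGroup 2 (Qs Q s ss sQ) := by
  have h1 : IsPGroup 2 (Q ⊔ zpowers s : Subgroup G) :=
    isPGroup_sup (isPGroup_of_sq sq) ⟨1, by rw [pow_one, pow_two, ss]⟩ sQ
  refine h1.to_le ?_
  have ss' : s⁻¹ = s := inv_eq_of_mul_eq_one_left ss
  rintro x (hx | hx)
  · exact le_sup_left (a := Q) hx
  · have e : x = x * s * s := by rw [mul_assoc, ss, mul_one]
    rw [e]
    exact Subgroup.mul_mem _ (le_sup_left (a := Q) hx) (le_sup_right (a := Q) (mem_zpowers s))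

/-- **The core.** -/
theorem exists_conj [Finite G] {Q' : Subgroup G} (F : Fr t Q') (comm : ∀ x ∈ Q, ∀ y ∈ Q, x * y = y * x)
    (sq : ∀ x ∈ Q, x * x = 1) (cardQ : Nat.card Q = 2 ^ 8) {s : G} (ss : s * s = 1)
    (sQ : ∀ x ∈ Q, s * x * s⁻¹ ∈ Q) (cards : Nat.card (Q ⊓ centralizer {s} : Subgroup G) = 2 ^ 4)
    {g : G} (hg : g * s * g⁻¹ = t)
    (hF : ∀ x ∈ Q, x * s = s * x → g * x * g⁻¹ ∈ Q' ∨ g * x * g⁻¹ * t ∈ Q') :
    ∃ a : G, a * s * a⁻¹ = t ∧ ∀ x ∈ Q, a * x * a⁻¹ ∈ Q' := by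
  have hfreeQ := fun {x : G} => free_conj (x := x) comm sq ss sQ (by rw [cards, cardQ]; norm_num)
  have hfreeQ' := fun {x : G} => free_conj (x := x) F.comm F.sq F.tt F.tQ (by rw [F.cardE, F.card]; norm_num)
  -- `g C_Q(s) g⁻¹ = E'`
  have hgt : ∀ x, x * s = s * x → (g * x * g⁻¹) * t = t * (g * x * g⁻¹) := by
    intro x hx
    rw [← hg]
    calc g * x * g⁻¹ * (g * s * g⁻¹) = g * (x * s) * g⁻¹ := by group
      _ = (g * s * g⁻¹) * (g * x * g⁻¹) := by rw [hx]; group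
  have h1 : ∀ x ∈ Q, x * s = s * x → g * x * g⁻¹ ∈ Q' := by
    intro x hx hxs
    rcases hF x hx hxs with h | h
    · exact h
    · exfalso
      obtain ⟨q, hq, hqs⟩ := hfreeQ hx hxs
      have ht : t⁻¹ = t := inv_eq_of_mul_eq_one_left F.tt
      have hc := hgt x hxs
      refine F.notE (g * q * g⁻¹) (g * x * g⁻¹ * t) h ?_ ?_
      · rw [hc, mul_assoc, ← hc]
      · calc g * q * g⁻¹ * t * (g * q * g⁻¹)⁻¹ = g * (q * (g⁻¹ * t * g) * q⁻¹) * g⁻¹ := by group
          _ = g * (q * s * q⁻¹) * g⁻¹ := by rw [← hg]; group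
          _ = (g * s * g⁻¹) * (g * x * g⁻¹) := by rw [hqs]; group
          _ = g * x * g⁻¹ * t := by rw [hg, hc]
  have hE : (Q ⊓ centralizer {s}).map (MulAut.conj g).toMonoidHom = Q' ⊓ centralizer {t} := by
    refine Subgroup.eq_of_le_of_card_ge ?_ ?_
    · rintro _ ⟨x, ⟨hx1, hx2⟩, rfl⟩
      have hxs := mem_centralizer_singleton_iff.1 hx2
      exact ⟨h1 x hx1 hxs, mem_centralizer_singleton_iff.2 (hgt x hxs)⟩
    · rw [Subgroup.card_map_of_injective (MulAut.conj g).injective, cards, F.cardE]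
  have hE' : ∀ e ∈ Q', e * t = t * e → ∃ x ∈ Q, x * s = s * x ∧ g * x * g⁻¹ = e := by
    intro e he het
    have : e ∈ (Q ⊓ centralizer {s}).map (MulAut.conj g).toMonoidHom := by
      rw [hE]; exact ⟨he, mem_centralizer_singleton_iff.2 het⟩
    obtain ⟨x, ⟨hx1, hx2⟩, rfl⟩ := this
    exact ⟨x, hx1, mem_centralizer_singleton_iff.1 hx2, rfl⟩
  -- the two subgroups of `H`
  have ht : t⁻¹ = t := inv_eq_of_mul_eq_one_left F.tt
  have hP2 : Qs Q' t F.tt F.tQ ≤ HH t Q' := by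
    have hQ' : ∀ x ∈ Q', x ∈ HH t Q' := by
      intro x hx
      refine mem_HH.2 ⟨fun e he _ => F.comm x hx e he, ?_⟩
      obtain ⟨e, he, het, h⟩ := conj_eq F.comm F.sq F.tt F.tQ hx
      exact ⟨e, he, het, h⟩
    have htH : t ∈ HH t Q' := mem_HH.2 ⟨fun e _ h => h.symm, 1, Q'.one_mem, by simp, by simp⟩
    rintro x (hx | hx)
    · exact hQ' x hx
    · have := (HH t Q').mul_mem (hQ' _ hx) htH
      rwa [mul_assoc, F.tt, mul_one] at this
  have hP1 : (Qs Q s ss sQ).map (MulAut.conj g).toMonoidHom ≤ HH t Q' := by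
    have hQ1 : ∀ x ∈ Q, g * x * g⁻¹ ∈ HH t Q' := by
      intro x hx
      refine mem_HH.2 ⟨fun e he het => ?_, ?_⟩
      · obtain ⟨y, hy, _, rfl⟩ := hE' e he het
        have h2 := comm x hx y hy
        calc g * x * g⁻¹ * (g * y * g⁻¹) = g * (x * y) * g⁻¹ := by group
          _ = g * y * g⁻¹ * (g * x * g⁻¹) := by rw [h2]; group
      · obtain ⟨e, he, hes, h2⟩ := conj_eq comm sq ss sQ hx
        refine ⟨g * e * g⁻¹, h1 e he hes, hgt e hes, ?_⟩
        calc g * x * g⁻¹ * t * (g * x * g⁻¹)⁻¹ = g * x * g⁻¹ * (g * s * g⁻¹) * (g * x * g⁻¹)⁻¹ := by rw [hg]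
          _ = g * (x * s * x⁻¹) * g⁻¹ := by group
          _ = (g * s * g⁻¹) * (g * e * g⁻¹) := by rw [h2]; group
          _ = t * (g * e * g⁻¹) := by rw [hg]
    have htH : t ∈ HH t Q' := mem_HH.2 ⟨fun e _ h => h.symm, 1, Q'.one_mem, by simp, by simp⟩
    rintro _ ⟨x, hx | hx, rfl⟩
    · exact hQ1 x hx
    · have h2 := (HH t Q').mul_mem (hQ1 _ hx) htH
      have e : g * (x * s) * g⁻¹ * t = g * x * g⁻¹ := by
        calc g * (x * s) * g⁻¹ * t = g * x * g⁻¹ * (g * s * g⁻¹) * t := by group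
          _ = g * x * g⁻¹ := by rw [hg, mul_assoc, F.tt, mul_one]
      rw [e] at h2
      exact h2
  obtain ⟨h, hh, hhP⟩ := exists_conj_le (p := 2) hP2 (isPGroup_Qs F.tt F.tQ F.sq) (by
    intro h hh hh2 hnorm
    obtain ⟨hhE, e, he, het, hte⟩ := mem_HH.1 hh
    obtain ⟨q, hq, hqt⟩ := hfreeQ' he het
    have hqP : q ∈ Qs Q' t F.tt F.tQ := Or.inl hq
    have hp : IsPGroup 2 (Qs Q' t F.tt F.tQ ⊔ zpowers h : Subgroup G) :=
      isPGroup_sup (isPGroup_Qs F.tt F.tQ F.sq) hh2 hnorm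
    have hmem : q⁻¹ * h ∈ (Qs Q' t F.tt F.tQ ⊔ zpowers h : Subgroup G) :=
      Subgroup.mul_mem _ (Subgroup.inv_mem _ (le_sup_left (a := Qs Q' t F.tt F.tQ) hqP))
        (le_sup_right (a := Qs Q' t F.tt F.tQ) (mem_zpowers h))
    have hct : q⁻¹ * h * t = t * (q⁻¹ * h) := by
      have h3 : h * t = q * t * q⁻¹ * h := by rw [hqt, ← hte]; group
      calc q⁻¹ * h * t = q⁻¹ * (h * t) := by group
        _ = t * (q⁻¹ * h) := by rw [h3]; group
    have hcE := F.centE (q⁻¹ * h) (exists_pow hp hmem) hct (by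
      intro x hx hxt
      rw [mul_assoc, hhE x hx hxt, ← mul_assoc, F.comm _ (Q'.inv_mem hq) _ hx, mul_assoc])
    have h4 : q⁻¹ * h ∈ Qs Q' t F.tt F.tQ := hcE
    have := (Qs Q' t F.tt F.tQ).mul_mem hqP h4
    simpa using this) hP1 ((isPGroup_Qs ss sQ sq).map _)
  -- correct `h`
  obtain ⟨_, e, he, het, hte⟩ := mem_HH.1 hh
  obtain ⟨q, hq, hqt⟩ := hfreeQ' he het
  have hqP : q ∈ Qs Q' t F.tt F.tQ := Or.inl hq
  refine ⟨q⁻¹ * h * g, ?_, ?_⟩
  · calc q⁻¹ * h * g * s * (q⁻¹ * h * g)⁻¹ = q⁻¹ * (h * (g * s * g⁻¹) * h⁻¹) * q := by group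
      _ = q⁻¹ * (q * t * q⁻¹) * q := by rw [hg, hte, hqt]
      _ = t := by group
  · -- `A = a Q a⁻¹ ≤ Q'⟨t⟩`
    set a := q⁻¹ * h * g with ha
    have hA : ∀ x ∈ Q, a * x * a⁻¹ ∈ Qs Q' t F.tt F.tQ := by
      intro x hx
      have h2 := hhP (g * x * g⁻¹) ⟨x, Or.inl hx, rfl⟩
      have h3 := (Qs Q' t F.tt F.tQ).mul_mem ((Qs Q' t F.tt F.tQ).mul_mem
        ((Qs Q' t F.tt F.tQ).inv_mem hqP) h2) hqP
      have e : q⁻¹ * (h * (g * x * g⁻¹) * h⁻¹) * q = a * x * a⁻¹ := by rw [ha]; group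
      rwa [e] at h3
    by_contra hcon
    push Not at hcon
    obtain ⟨x, hx, hxQ⟩ := hcon
    have hxt : a * x * a⁻¹ * t ∈ Q' := (hA x hx).resolve_left hxQ
    let A : Subgroup G := Q.map (MulAut.conj a).toMonoidHom
    have hAcard : Nat.card A = 2 ^ 8 := by
      rw [Subgroup.card_map_of_injective (MulAut.conj a).injective, cardQ]
    have hAcomm : ∀ y ∈ A, (a * x * a⁻¹) * y = y * (a * x * a⁻¹) := by
      rintro _ ⟨y, hy, rfl⟩
      show a * x * a⁻¹ * (a * y * a⁻¹) = a * y * a⁻¹ * (a * x * a⁻¹)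
      have h2 := comm x hx y hy
      calc a * x * a⁻¹ * (a * y * a⁻¹) = a * (x * y) * a⁻¹ := by group
        _ = a * y * a⁻¹ * (a * x * a⁻¹) := by rw [h2]; group
    have hd : Nat.card A = 2 * Nat.card (A ⊓ Q' : Subgroup G) := by
      refine card_double (s := a * x * a⁻¹) inf_le_left ⟨x, hx, rfl⟩ (fun h => hxQ h.2) ?_
      rintro y hy
      obtain ⟨z, hz, rfl⟩ := hy
      rcases hA z hz with h2 | h2
      · exact Or.inl ⟨⟨z, hz, rfl⟩, h2⟩
      · right
        refine ⟨A.mul_mem ⟨z, hz, rfl⟩ ⟨x, hx, rfl⟩, ?_⟩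
        have h3 := Q'.mul_mem h2 (F.tQ _ hxt)
        have e : a * z * a⁻¹ * t * (t * (a * x * a⁻¹ * t) * t⁻¹) = a * z * a⁻¹ * (t * t) * (a * x * a⁻¹) := by
          group
        rw [e, F.tt, mul_one] at h3
        exact h3
    have hle : A ⊓ Q' ≤ Q' ⊓ centralizer {t} := by
      rintro y ⟨hy1, hy2⟩
      refine ⟨hy2, mem_centralizer_singleton_iff.2 ?_⟩
      have h2 := hAcomm y hy1
      have h3 := F.comm _ hxt y hy2
      -- y commutes with `axa⁻¹` and `axa⁻¹ t`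
      have h4 : a * x * a⁻¹ * (t * y) = a * x * a⁻¹ * (y * t) := by
        calc a * x * a⁻¹ * (t * y) = a * x * a⁻¹ * t * y := by group
          _ = y * (a * x * a⁻¹) * t := by rw [h3]; group
          _ = a * x * a⁻¹ * (y * t) := by rw [← h2]; group
      exact (mul_left_cancel h4).symm
    have h5 := Subgroup.card_le_of_le hle
    rw [F.cardE] at h5
    rw [hAcard] at hd
    omega

end Cfsg.Agent.TypeM.WThreeAbs
end

private theorem dce_e52593aa404a : _root_.True := by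
  try have : _root_.True := by simp only [_root_.Cfsg.Agent.SporRec.NineTwo.Perms.pv.eq_1]
  try have : _root_.True := by simp only [_root_.Cfsg.Agent.TypeM.WThreeAbs.Qs.congr_simp]
  try have : _root_.True := by simp only [_root_.Cfsg.Agent.SporRec.NineTwo.Perms.pw.eq_1]
  try have : _root_.True := by simp only [_root_.Cfsg.Agent.SporRec.NineTwo.Three.el.eq_1]
  exact _root_.True.intro
end

-- part: TypeM/ExistX
section
set_option linter.all false
open scoped Cfsg.Agent.FastGrp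

/-!
Piece [W1''] of Theorem W (S1739): the element `x0` of `EConf`.

`t ~ t e` by `a`, `a ⟨t⟩E a⁻¹ = ⟨t⟩B` after adjusting in `C(t)`, `B = E` or `E'`; `f₀` of order 5 acts without
fixed points on `B` and centralizes `t`; `f := a⁻¹ f₀ a` normalizes `⟨t⟩E`, and moves `t`.
-/

set_option autoImplicit false

namespace Cfsg.Agent.TypeM

/-- `EConf` without the field `x0`. -/
structure EPre {G : Type*} [Group G] (t : G) (ε s : ℕ → G) (N : Subgroup G) : Prop where
  tt : t * t = 1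
  mul : ∀ i < 16, ∀ j < 16, ε i * ε j = ε (i ^^^ j)
  inj : ∀ i < 16, ε i = 1 → i = 0
  tε : ∀ i < 16, t * ε i = ε i * t
  εN : ∀ i < 16, ε i ∈ N
  sN : ∀ k < 5, s k ∈ N
  tN : t ∉ N
  Nt : ∀ n ∈ N, t * n = n * t
  sε : ∀ k < 5, ∀ i < 16, s k * ε i = ε (gm k i) * s k
  cen : ∀ x, TwoElt x → t * x = x * t → (∀ i < 16, x * ε i = ε i * x) →
    ∃ i < 16, x = ε i ∨ x = t * ε i
  tE : ∀ i < 16, ∀ g : G, g * t * g⁻¹ ≠ ε i

namespace EPre

variable {G : Type*} [Group G] {t : G} {ε s : ℕ → G} {N : Subgroup G}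

theorem toEConf (H : EPre t ε s N)
    (x0 : ∃ x, (∀ i < 16, ∃ j < 16, x * ε i * x⁻¹ = ε j) ∧ ∃ k < 16, k ≠ 0 ∧ x * t * x⁻¹ = t * ε k) :
    EConf t ε s N :=
  ⟨H.tt, H.mul, H.inj, H.tε, H.εN, H.sN, H.tN, H.Nt, H.sε, H.cen, H.tE, x0⟩

section

variable (H : EPre t ε s N)
include H

theorem zero : ε 0 = 1 := by
  have h := H.mul 0 (by norm_num) 0 (by norm_num)
  simpa using h

theorem sq {i : ℕ} (hi : i < 16) : ε i * ε i = 1 := by
  rw [H.mul i hi i hi, Nat.xor_self, H.zero]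

theorem eq_of {i j : ℕ} (hi : i < 16) (hj : j < 16) (e : ε i = ε j) : i = j := by
  have h1 : ε (i ^^^ j) = 1 := by rw [← H.mul i hi j hj, e, H.sq hj]
  exact Nat.xor_eq_zero_iff.mp (H.inj _ (xor_lt hi hj) h1)

theorem t_ne {i : ℕ} (hi : i < 16) : t ≠ ε i := fun h => H.tE i hi 1 (by simpa using h)

theorem tε_ne {i j : ℕ} (hi : i < 16) (hj : j < 16) : t * ε i ≠ ε j := fun h =>
  H.t_ne (xor_lt hj hi) (by
    rw [← H.mul j hj i hi, ← h, mul_assoc, H.sq hi, mul_one])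

end

/-- The group `⟨t⟩ E`. -/
def F (H : EPre t ε s N) : Subgroup G where
  carrier := {y | ∃ i < 16, y = ε i ∨ y = t * ε i}
  mul_mem' := by
    rintro _ _ ⟨i, hi, rfl | rfl⟩ ⟨j, hj, rfl | rfl⟩
    · exact ⟨_, xor_lt hi hj, Or.inl (H.mul i hi j hj)⟩
    · refine ⟨_, xor_lt hi hj, Or.inr ?_⟩
      rw [← H.mul i hi j hj, ← mul_assoc, ← mul_assoc, H.tε i hi]
    · refine ⟨_, xor_lt hi hj, Or.inr ?_⟩
      rw [← H.mul i hi j hj, ← mul_assoc]
    · refine ⟨_, xor_lt hi hj, Or.inl ?_⟩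
      rw [← H.mul i hi j hj, mul_assoc, ← mul_assoc (ε i), ← H.tε i hi, mul_assoc t, ← mul_assoc, H.tt, one_mul]
  one_mem' := ⟨0, by norm_num, Or.inl H.zero.symm⟩
  inv_mem' := by
    rintro _ ⟨i, hi, rfl | rfl⟩
    · exact ⟨i, hi, Or.inl (inv_eq_of_mul_eq_one_right (H.sq hi))⟩
    · refine ⟨i, hi, Or.inr (inv_eq_of_mul_eq_one_right ?_)⟩
      rw [mul_assoc, ← mul_assoc (ε i), ← H.tε i hi, mul_assoc t, ← mul_assoc, H.tt, one_mul, H.sq hi]

section

variable (H : EPre t ε s N)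
include H

theorem t_mem : t ∈ H.F := ⟨0, by norm_num, Or.inr (by rw [H.zero, mul_one])⟩

theorem F_sq {y : G} (hy : y ∈ H.F) : y * y = 1 := by
  obtain ⟨i, hi, rfl | rfl⟩ := hy
  · exact H.sq hi
  · rw [mul_assoc, ← mul_assoc (ε i), ← H.tε i hi, mul_assoc t, ← mul_assoc, H.tt, one_mul, H.sq hi]

theorem card_F : Nat.card H.F = 32 := by
  have h1 : Function.Bijective (fun p : Fin 2 × Fin 16 => (⟨t ^ (p.1 : ℕ) * ε p.2, by
      obtain ⟨⟨b, hb⟩, i⟩ := p
      interval_cases b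
      · exact ⟨i, i.2, Or.inl (by simp)⟩
      · exact ⟨i, i.2, Or.inr (by simp)⟩⟩ : H.F)) := by
    constructor
    · rintro ⟨⟨b, hb⟩, i⟩ ⟨⟨c, hc⟩, j⟩ h
      have h2 : t ^ b * ε i = t ^ c * ε j := congrArg Subtype.val h
      have hb' : b = 0 ∨ b = 1 := by omega
      have hc' : c = 0 ∨ c = 1 := by omega
      rcases hb' with rfl | rfl <;> rcases hc' with rfl | rfl
      · have h3 := H.eq_of i.2 j.2 (by simpa using h2)
        simp [Fin.ext_iff, h3]
      · exact absurd (by simpa using h2.symm) (H.tε_ne j.2 i.2)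
      · exact absurd (by simpa using h2) (H.tε_ne i.2 j.2)
      · have h3 := H.eq_of i.2 j.2 (by simpa using h2)
        simp [Fin.ext_iff, h3]
    · rintro ⟨y, i, hi, rfl | rfl⟩
      · exact ⟨⟨0, ⟨i, hi⟩⟩, Subtype.ext (by simp)⟩
      · exact ⟨⟨1, ⟨i, hi⟩⟩, Subtype.ext (by simp)⟩
  rw [← Nat.card_eq_of_bijective _ h1]
  simp

/-- words in the `s k` -/
theorem W_eps (w : List ℕ) (hw : ∀ k ∈ w, k < 5) {i : ℕ} (hi : i < 16) :
    (w.map s).prod * ε i = ε (act w i) * (w.map s).prod := by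
  induction w with
  | nil => simp [act_nil]
  | cons k w ih =>
    rw [List.map_cons, List.prod_cons, act_cons, mul_assoc, ih (fun k hk => hw k (by simp [hk])), ← mul_assoc,
      H.sε k (hw k (by simp)) _ (act_lt w hi), mul_assoc]

theorem W_t (w : List ℕ) (hw : ∀ k ∈ w, k < 5) : t * (w.map s).prod = (w.map s).prod * t := by
  induction w with
  | nil => simp
  | cons k w ih =>
    rw [List.map_cons, List.prod_cons, ← mul_assoc, H.Nt _ (H.sN k (hw k (by simp))), mul_assoc,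
      ih (fun k hk => hw k (by simp [hk])), mul_assoc]

/-- all `t ε v`, `v ≠ 0`, are conjugate -/
theorem isConj_one {v : ℕ} (hv : v < 16) (hv0 : v ≠ 0) : IsConj (t * ε 1) (t * ε v) := by
  refine isConj_iff.mpr ⟨((wv v).map s).prod, ?_⟩
  rw [← mul_assoc, ← H.W_t _ (wv_lt v hv), mul_assoc t, H.W_eps _ (wv_lt v hv) (by norm_num),
    wv_one v hv hv0]
  group

theorem isConj_tε {k : ℕ} (hk : k < 16) (hk0 : k ≠ 0) (hc : IsConj t (t * ε k)) {i : ℕ} (hi : i < 16) :
    IsConj t (t * ε i) := by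
  by_cases h0 : i = 0
  · subst h0
    rw [H.zero, mul_one]
  · exact hc.trans ((H.isConj_one hk hk0).symm.trans (H.isConj_one hi h0))

end

/-- the word `[2, 4]` has no fixed points on `E#` -/
theorem five_spec : ∀ i < 16, act [2, 4] i = i → i = 0 := by decide +kernel

/-- `f₀ = s 2 * s 4` only centralizes `⟨t⟩` in `⟨t⟩E`. -/
theorem fix_five (H : EPre t ε s N) {y : G} (hy : y ∈ H.F)
    (h : ([2, 4].map s).prod * y * (([2, 4].map s).prod)⁻¹ = y) : y = 1 ∨ y = t := by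
  have hw : ∀ k ∈ [2, 4], k < 5 := by decide
  have h' : ([2, 4].map s).prod * y = y * ([2, 4].map s).prod := by
    calc ([2, 4].map s).prod * y
        = ([2, 4].map s).prod * y * (([2, 4].map s).prod)⁻¹ * ([2, 4].map s).prod := by group
      _ = y * ([2, 4].map s).prod := by rw [h]
  obtain ⟨i, hi, rfl | rfl⟩ := hy
  · rw [H.W_eps _ hw hi] at h'
    have h1 := H.eq_of (act_lt _ hi) hi (mul_right_cancel h')
    rw [five_spec i hi h1, H.zero]; exact Or.inl rfl
  · rw [← mul_assoc, ← H.W_t _ hw, mul_assoc, mul_assoc, H.W_eps _ hw hi] at h'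
    have h1 := H.eq_of (act_lt _ hi) hi (mul_right_cancel (mul_left_cancel h'))
    rw [five_spec i hi h1, H.zero, mul_one]; exact Or.inr rfl

theorem W_mem_F (H : EPre t ε s N) {w : List ℕ} (hw : ∀ k ∈ w, k < 5) {y : G} (hy : y ∈ H.F) :
    (w.map s).prod * y * ((w.map s).prod)⁻¹ ∈ H.F := by
  obtain ⟨i, hi, rfl | rfl⟩ := hy
  · refine ⟨act w i, act_lt _ hi, Or.inl ?_⟩
    rw [H.W_eps _ hw hi]; group
  · refine ⟨act w i, act_lt _ hi, Or.inr ?_⟩
    rw [← mul_assoc, ← H.W_t _ hw, mul_assoc t, H.W_eps _ hw hi]; group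

/-- The core of [W1'']: `a (t ε k) a⁻¹ = t` and `a ⟨t⟩E a⁻¹ ≤ ⟨t⟩B`. -/
theorem x0_of_conj [Finite G] {ε' s' : ℕ → G} {N' : Subgroup G} (H : EPre t ε s N) (H' : EPre t ε' s' N')
    {k : ℕ} (hk : k < 16) (hk0 : k ≠ 0) {a : G} (ha : a * (t * ε k) * a⁻¹ = t)
    (hF : ∀ y ∈ H.F, a * y * a⁻¹ ∈ H'.F) :
    ∃ x, (∀ i < 16, ∃ j < 16, x * ε i * x⁻¹ = ε j) ∧ ∃ k < 16, k ≠ 0 ∧ x * t * x⁻¹ = t * ε k := by
  have hc : IsConj t (t * ε k) := (isConj_iff.mpr ⟨a, ha⟩).symm
  have hw : ∀ k ∈ [2, 4], k < 5 := by decide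
  -- `a F a⁻¹ = F'`
  have h1 : H.F.map (MulAut.conj a).toMonoidHom = H'.F := by
    apply Subgroup.eq_of_le_of_card_ge
    · rintro _ ⟨y, hy, rfl⟩
      exact hF y hy
    · rw [H'.card_F, ← H.card_F]
      exact (Nat.card_congr (H.F.equivMapOfInjective _ (MulAut.conj a).injective).toEquiv).le
  have h2 : ∀ y ∈ H'.F, a⁻¹ * y * a ∈ H.F := by
    intro y hy
    rw [← h1] at hy
    obtain ⟨x, hx, rfl⟩ := hy
    have h3 : a⁻¹ * (MulAut.conj a).toMonoidHom x * a = x := by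
      change a⁻¹ * (a * x * a⁻¹) * a = x
      group
    rw [h3]; exact hx
  set f₀ := ([2, 4].map s').prod with hf₀
  set f := a⁻¹ * f₀ * a with hf
  have hfF : ∀ y ∈ H.F, f * y * f⁻¹ ∈ H.F := by
    intro y hy
    have h3 := h2 _ (H'.W_mem_F hw (hF y hy))
    have h4 : f * y * f⁻¹ = a⁻¹ * (f₀ * (a * y * a⁻¹) * f₀⁻¹) * a := by rw [hf]; group
    rw [h4]; exact h3
  have hfix : ∀ y ∈ H.F, f * y * f⁻¹ = y → y = 1 ∨ y = t * ε k := by
    intro y hy h
    have h3 : f₀ * (a * y * a⁻¹) * f₀⁻¹ = a * y * a⁻¹ := by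
      calc f₀ * (a * y * a⁻¹) * f₀⁻¹ = a * (f * y * f⁻¹) * a⁻¹ := by rw [hf]; group
        _ = a * y * a⁻¹ := by rw [h]
    rcases H'.fix_five (hF y hy) h3 with h4 | h4
    · exact Or.inl (conj_eq_one_iff.mp h4)
    · right
      have h5 : a * y * a⁻¹ = a * (t * ε k) * a⁻¹ := by rw [h4, ha]
      simpa using h5
  have htc : ∀ i < 16, IsConj t (t * ε i) := fun i hi => H.isConj_tε hk hk0 hc hi
  refine ⟨f, ?_, ?_⟩
  · intro i hi
    obtain ⟨j, hj, h3 | h3⟩ := hfF (ε i) ⟨i, hi, Or.inl rfl⟩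
    · exact ⟨j, hj, h3⟩
    · exfalso
      have h4 : IsConj t (ε i) := (htc j hj).trans (isConj_iff.mpr ⟨f, h3⟩).symm
      obtain ⟨g, hg⟩ := isConj_iff.mp h4
      exact H.tE i hi g hg
  · obtain ⟨j, hj, h3 | h3⟩ := hfF t H.t_mem
    · exact absurd h3 (H.tE j hj f)
    · refine ⟨j, hj, ?_, h3⟩
      rintro rfl
      rw [H.zero, mul_one] at h3
      rcases hfix t H.t_mem h3 with h4 | h4
      · exact H.t_ne (i := 0) (by norm_num) (by rw [h4, H.zero])
      · exact hk0 (H.inj k hk (by simpa using h4.symm))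

/-- **[W1'']** The element `x0`: `t ~ t ε k` for some `k ≠ 0`, and every elementary abelian group of order 32
containing `t` is conjugate in `C(t)` to `⟨t⟩E` or `⟨t⟩E'`. -/
theorem exists_x0 [Finite G] {ε' s' : ℕ → G} {N' : Subgroup G} (H : EPre t ε s N) (H' : EPre t ε' s' N')
    (hk : ∃ k < 16, k ≠ 0 ∧ IsConj t (t * ε k))
    (h1 : ∀ R : Subgroup G, t ∈ R → (∀ x ∈ R, x * x = 1) → Nat.card R = 32 → ∃ c, c * t = t * c ∧
      ((∀ x ∈ R, ∃ i < 16, c * x * c⁻¹ = ε i ∨ c * x * c⁻¹ = t * ε i) ∨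
        (∀ x ∈ R, ∃ i < 16, c * x * c⁻¹ = ε' i ∨ c * x * c⁻¹ = t * ε' i))) :
    ∃ x, (∀ i < 16, ∃ j < 16, x * ε i * x⁻¹ = ε j) ∧ ∃ k < 16, k ≠ 0 ∧ x * t * x⁻¹ = t * ε k := by
  obtain ⟨k, hk, hk0, hc⟩ := hk
  obtain ⟨a, ha⟩ := isConj_iff.mp hc.symm
  obtain ⟨c, hct, hc'⟩ := h1 (H.F.map (MulAut.conj a).toMonoidHom)
    ⟨t * ε k, ⟨k, hk, Or.inr rfl⟩, ha⟩
    (by
      rintro _ ⟨y, hy, rfl⟩
      rw [← map_mul, H.F_sq hy, map_one])
    (by
      rw [← H.card_F]
      exact (Nat.card_congr (H.F.equivMapOfInjective _ (MulAut.conj a).injective).toEquiv).symm)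
  have hca : (c * a) * (t * ε k) * (c * a)⁻¹ = t := by
    calc (c * a) * (t * ε k) * (c * a)⁻¹ = c * (a * (t * ε k) * a⁻¹) * c⁻¹ := by group
      _ = t := by rw [ha, hct]; group
  have hy : ∀ y ∈ H.F, a * y * a⁻¹ ∈ H.F.map (MulAut.conj a).toMonoidHom := fun y hy => ⟨y, hy, rfl⟩
  have e : ∀ y, (c * a) * y * (c * a)⁻¹ = c * (a * y * a⁻¹) * c⁻¹ := fun y => by group
  rcases hc' with h | h
  · exact H.x0_of_conj H hk hk0 hca (fun y hy' => by rw [e]; exact h _ (hy y hy'))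
  · exact H.x0_of_conj H' hk hk0 hca (fun y hy' => by rw [e]; exact h _ (hy y hy'))

end EPre

end Cfsg.Agent.TypeM
end

-- part: TypeM/LemQG
section
set_option linter.all false
open scoped Cfsg.Agent.FastGrp

/-!
# Lemma Q in a finite group: preparations
-/

set_option autoImplicit false
set_option linter.unusedSectionVars false

namespace Cfsg.Agent.TypeM

section Central

variable {C : Type*} [Group C] [Finite C]

/-- `x ↦ x ^ |C : Z|` is multiplicative for central `Z`. -/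
theorem mul_pow_index (Z : Subgroup C) (hZ : Z ≤ Subgroup.center C) (x y : C) :
    (x * y) ^ Z.index = x ^ Z.index * y ^ Z.index := by
  obtain ⟨r, hr⟩ : (Subgroup.center C).index ∣ Z.index := Subgroup.index_dvd_of_le hZ
  have h1 := congrArg Subtype.val (map_mul (MonoidHom.transferCenterPow C) x y)
  simp only [MonoidHom.transferCenterPow_apply, Subgroup.coe_mul] at h1
  have h2 : x ^ (Subgroup.center C).index ∈ Subgroup.center C := by
    have := (MonoidHom.transferCenterPow C x).2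
    rwa [MonoidHom.transferCenterPow_apply] at this
  rw [hr, pow_mul, pow_mul, pow_mul, h1]
  exact (show Commute _ _ from (Subgroup.mem_center_iff.1 h2 _).symm).mul_pow r

theorem odd_index (Z : Subgroup C) (hZ : ∀ x : C, TwoElt x → x ∈ Z) : ¬ 2 ∣ Z.index := by
  have : Fact (Nat.Prime 2) := ⟨Nat.prime_two⟩
  obtain ⟨S⟩ : Nonempty (Sylow 2 C) := inferInstance
  intro h
  apply S.not_dvd_index
  refine h.trans (Subgroup.index_dvd_of_le ?_)
  intro x hx
  obtain ⟨n, hn⟩ := S.2 ⟨x, hx⟩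
  exact hZ x ⟨n, congrArg Subtype.val hn⟩

end Central

/-- indices of centralizers by orbits -/
theorem relIndex_orbit {G : Type*} [Group G] (K : Subgroup G) (x : G) (S : Set G)
    (hS : ∀ y, y ∈ S ↔ ∃ k ∈ K, k * x * k⁻¹ = y) :
    (K ⊓ Subgroup.centralizer {x}).relIndex K = Nat.card S := by
  rw [Subgroup.relIndex, Subgroup.index]
  let f : K ⧸ ((K ⊓ Subgroup.centralizer {x}).subgroupOf K) → S := Quotient.lift
    (fun k : K => (⟨(k : G) * x * (k : G)⁻¹, (hS _).2 ⟨k, k.2, rfl⟩⟩ : S)) (by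
      intro a b hab
      have h1 := QuotientGroup.leftRel_apply.mp hab
      rw [Subgroup.mem_subgroupOf, Subgroup.mem_inf, Subgroup.mem_centralizer_iff] at h1
      have h2 := h1.2 x rfl
      simp only [Subgroup.coe_mul, Subgroup.coe_inv] at h2
      apply Subtype.ext
      change (a : G) * x * (a : G)⁻¹ = b * x * (b : G)⁻¹
      rw [mul_inv_eq_iff_eq_mul]
      calc (a : G) * x = a * (x * ((a : G)⁻¹ * b)) * (b : G)⁻¹ * a := by group
        _ = a * ((a : G)⁻¹ * b * x) * (b : G)⁻¹ * a := by rw [h2]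
        _ = _ := by group)
  refine Nat.card_congr (Equiv.ofBijective f ⟨?_, ?_⟩)
  · intro a b
    induction a using QuotientGroup.induction_on with | _ a
    induction b using QuotientGroup.induction_on with | _ b
    intro h
    have h1 : (a : G) * x * (a : G)⁻¹ = b * x * (b : G)⁻¹ := congrArg Subtype.val h
    rw [QuotientGroup.eq, Subgroup.mem_subgroupOf, Subgroup.mem_inf, Subgroup.mem_centralizer_iff]
    refine ⟨(a⁻¹ * b).2, ?_⟩
    intro y hy
    rw [Set.mem_singleton_iff] at hy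
    subst hy
    simp only [Subgroup.coe_mul, Subgroup.coe_inv]
    calc y * ((a : G)⁻¹ * b) = (a : G)⁻¹ * (a * y * (a : G)⁻¹) * b := by group
      _ = (a : G)⁻¹ * (b * y * (b : G)⁻¹) * b := by rw [h1]
      _ = _ := by group
  · rintro ⟨y, hy⟩
    obtain ⟨k, hk, rfl⟩ := (hS y).1 hy
    exact ⟨QuotientGroup.mk ⟨k, hk⟩, rfl⟩

namespace EPre

variable {G : Type*} [Group G] {t : G} {ε s : ℕ → G} {N : Subgroup G}

/-- the centralizer of `⟨t⟩E` -/
def C (H : EPre t ε s N) : Subgroup G := Subgroup.centralizer (H.F : Set G)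

/-- the normalizer of `⟨t⟩E` -/
def NF (H : EPre t ε s N) : Subgroup G := Subgroup.normalizer (H.F : Set G)

theorem mem_C (H : EPre t ε s N) {x : G} :
    x ∈ H.C ↔ t * x = x * t ∧ ∀ i < 16, x * ε i = ε i * x := by
  rw [C, Subgroup.mem_centralizer_iff]
  constructor
  · intro h
    exact ⟨h t H.t_mem, fun i hi => (h _ ⟨i, hi, Or.inl rfl⟩).symm⟩
  · rintro ⟨h1, h2⟩ y ⟨i, hi, rfl | rfl⟩
    · exact (h2 i hi).symm
    · rw [mul_assoc, ← h2 i hi, ← mul_assoc, h1, mul_assoc]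

theorem mem_NF (H : EPre t ε s N) [Finite G] {x : G} : x ∈ H.NF ↔ ∀ y ∈ H.F, x * y * x⁻¹ ∈ H.F := by
  rw [NF, Subgroup.mem_normalizer_iff]
  constructor
  · intro h y hy
    exact (h y).1 hy
  · intro h y
    refine ⟨h y, fun hy => ?_⟩
    have h1 : Subgroup.map (MulAut.conj x).toMonoidHom H.F = H.F := by
      apply Subgroup.eq_of_le_of_card_ge
      · rintro _ ⟨z, hz, rfl⟩; exact h z hz
      · exact (Nat.card_congr (H.F.equivMapOfInjective _ (MulAut.conj x).injective).toEquiv).le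
    have h2 : x * y * x⁻¹ ∈ Subgroup.map (MulAut.conj x).toMonoidHom H.F := by rw [h1]; exact hy
    obtain ⟨z, hz, h3⟩ := h2
    have h4 : x * z * x⁻¹ = x * y * x⁻¹ := h3
    have h5 : z = y := by simpa only [_root_.mul_left_inj, _root_.mul_right_inj] using h4
    exact h5 ▸ hz

theorem C_le_NF [Finite G] (H : EPre t ε s N) : H.C ≤ H.NF := by
  intro x hx
  rw [H.mem_NF]
  intro y hy
  have : y * x = x * y := Subgroup.mem_centralizer_iff.1 hx y hy
  rw [← this, mul_inv_cancel_right]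
  exact hy

section

variable [Finite G] (H : EPre t ε s N)
include H

theorem F_comm {x y : G} (hx : x ∈ H.F) (hy : y ∈ H.F) : x * y = y * x := by
  have h1 := H.F_sq (H.F.mul_mem hx hy)
  have h2 := H.F_sq hx
  have h3 := H.F_sq hy
  calc x * y = (x * x) * (x * y) * (y * y) := by rw [h2, h3, one_mul, mul_one]
    _ = x * (x * (x * y) * y) * y := by group
    _ = x * ((x * x) * (y * y)) * y := by simp only [mul_assoc]
    _ = x * (x * y * (x * y)) * y := by rw [h1, h2, h3, one_mul]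
    _ = (x * x) * (y * x) * (y * y) := by simp only [mul_assoc]
    _ = y * x := by rw [h2, h3, one_mul, mul_one]

theorem F_le_C : H.F ≤ H.C := by
  intro x hx
  rw [C, Subgroup.mem_centralizer_iff]
  intro y hy
  exact H.F_comm hy hx

theorem F_le_NF : H.F ≤ H.NF := H.F_le_C.trans H.C_le_NF

theorem s_mem {k : ℕ} (hk : k < 5) : s k ∈ H.NF := by
  rw [H.mem_NF]
  intro y hy
  have := H.W_mem_F (w := [k]) (by simpa using hk) hy
  simpa only [_root_.List.map_cons, _root_.List.map_nil, _root_.List.prod_cons, _root_.List.prod_nil, _root_.mul_one] using this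

theorem mem_F_of_two {x : G} (hx : TwoElt x) (hC : x ∈ H.C) : x ∈ H.F := by
  obtain ⟨h1, h2⟩ := H.mem_C.1 hC
  exact H.cen x hx h1 h2

end

/-- `|C : F|` -/
noncomputable def m (H : EPre t ε s N) : ℕ := H.F.relIndex H.C

section

variable [Finite G] (H : EPre t ε s N)
include H

theorem m_odd : Odd H.m := by
  rw [← Nat.not_even_iff_odd, even_iff_two_dvd]
  refine odd_index (H.F.subgroupOf H.C) ?_
  rintro x ⟨n, hn⟩
  rw [Subgroup.mem_subgroupOf]
  exact H.mem_F_of_two ⟨n, by simpa only [_root_.SubmonoidClass.coe_pow, _root_.OneMemClass.coe_one] using congrArg Subtype.val hn⟩ x.2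

theorem mul_pow_m {x y : G} (hx : x ∈ H.C) (hy : y ∈ H.C) : (x * y) ^ H.m = x ^ H.m * y ^ H.m := by
  have h1 := mul_pow_index (H.F.subgroupOf H.C) (by
    intro x hx
    rw [Subgroup.mem_center_iff]
    intro y
    apply Subtype.ext
    rw [Subgroup.mem_subgroupOf] at hx
    exact (Subgroup.mem_centralizer_iff.1 y.2 x hx).symm) ⟨x, hx⟩ ⟨y, hy⟩
  exact congrArg Subtype.val h1

theorem pow_m_mem {x : G} (hx : x ∈ H.C) : x ^ H.m ∈ H.F := by
  apply H.mem_F_of_two _ (H.C.pow_mem hx _)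
  refine ⟨5, ?_⟩
  have h1 : Nat.card (H.F.subgroupOf H.C) * (H.F.subgroupOf H.C).index = Nat.card H.C :=
    Subgroup.card_mul_index _
  have h2 : Nat.card (H.F.subgroupOf H.C) = 32 := by
    rw [Nat.card_congr (Subgroup.subgroupOfEquivOfLe H.F_le_C).toEquiv, H.card_F]
  rw [← pow_mul, m, Subgroup.relIndex, show (2 : ℕ) ^ 5 = 32 by norm_num, mul_comm, ← h2, h1]
  exact congrArg Subtype.val (pow_card_eq_one' (x := (⟨x, hx⟩ : H.C)))

theorem pow_m_F {x : G} (hx : x ∈ H.F) : x ^ H.m = x := by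
  obtain ⟨k, hk⟩ := H.m_odd
  rw [hk, pow_succ, pow_mul, pow_two, H.F_sq hx, one_pow, one_mul]

/-- decomposition `C = F × O` -/
theorem exists_dec {x : G} (hx : x ∈ H.C) : ∃ f ∈ H.F, ∃ o ∈ H.C, o ^ H.m = 1 ∧ x = f * o := by
  have hf := H.pow_m_mem hx
  refine ⟨x ^ H.m, hf, (x ^ H.m)⁻¹ * x, H.C.mul_mem (H.C.inv_mem (H.F_le_C hf)) hx, ?_, by simp⟩
  rw [H.mul_pow_m (H.C.inv_mem (H.F_le_C hf)) hx, inv_pow, H.pow_m_F hf, inv_mul_cancel]

theorem F_inf {x : G} (hx : x ∈ H.F) (h : x ^ H.m = 1) : x = 1 := by rw [← H.pow_m_F hx, h]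

end

/-- the subgroup `O(C(F))` of `N(F)` -/
def O [Finite G] (H : EPre t ε s N) : Subgroup H.NF where
  carrier := {x | (x : G) ∈ H.C ∧ (x : G) ^ H.m = 1}
  one_mem' := ⟨H.C.one_mem, by simp⟩
  mul_mem' := by
    rintro x y ⟨h1, h2⟩ ⟨h3, h4⟩
    refine ⟨H.C.mul_mem h1 h3, ?_⟩
    rw [Subgroup.coe_mul, H.mul_pow_m h1 h3, h2, h4, one_mul]
  inv_mem' := by
    rintro x ⟨h1, h2⟩
    exact ⟨H.C.inv_mem h1, by simp [h2]⟩

theorem mem_O [Finite G] (H : EPre t ε s N) {x : H.NF} :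
    x ∈ H.O ↔ (x : G) ∈ H.C ∧ (x : G) ^ H.m = 1 := Iff.rfl

instance [Finite G] (H : EPre t ε s N) : H.O.Normal := by
  constructor
  rintro x ⟨h1, h2⟩ g
  refine ⟨?_, ?_⟩
  · rw [C, Subgroup.mem_centralizer_iff] at h1 ⊢
    intro y hy
    have h3 : (g : G)⁻¹ * y * g ∈ H.F := by
      have := (H.mem_NF.1 (H.NF.inv_mem g.2)) y hy
      simpa only [_root_.inv_inv] using this
    have h4 := h1 _ h3
    simp only [Subgroup.coe_mul, Subgroup.coe_inv]
    calc y * ((g : G) * x * (g : G)⁻¹) = g * ((g : G)⁻¹ * y * g * x) * (g : G)⁻¹ := by group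
      _ = g * (x * ((g : G)⁻¹ * y * g)) * (g : G)⁻¹ := by rw [h4]
      _ = _ := by group
  · simp only [Subgroup.coe_mul, Subgroup.coe_inv]
    rw [conj_pow, h2, mul_one, mul_inv_cancel]

/-! ### the element centralizing `E` and moving `t` -/

/-- `E` as a subgroup -/
def E (H : EPre t ε s N) : Subgroup G where
  carrier := {y | ∃ i < 16, y = ε i}
  mul_mem' := by
    rintro _ _ ⟨i, hi, rfl⟩ ⟨j, hj, rfl⟩
    exact ⟨_, xor_lt hi hj, H.mul i hi j hj⟩
  one_mem' := ⟨0, by norm_num, H.zero.symm⟩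
  inv_mem' := by
    rintro _ ⟨i, hi, rfl⟩
    exact ⟨i, hi, inv_eq_of_mul_eq_one_right (H.sq hi)⟩

theorem mem_E (H : EPre t ε s N) {y : G} : y ∈ H.E ↔ ∃ i < 16, y = ε i := Iff.rfl

theorem card_E (H : EPre t ε s N) : Nat.card H.E = 16 := by
  have h1 : Function.Bijective (fun p : Fin 16 => (⟨ε p, p, p.2, rfl⟩ : H.E)) := by
    constructor
    · intro i j h
      exact Fin.ext (H.eq_of i.2 j.2 (congrArg Subtype.val h))
    · rintro ⟨y, i, hi, rfl⟩
      exact ⟨⟨i, hi⟩, rfl⟩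
  rw [← Nat.card_eq_of_bijective _ h1]
  simp

section

variable [Finite G] (H : EPre t ε s N)
include H

/-- a conjugate of `t` in `F` is some `t ε j` -/
theorem conj_t {x : G} (hx : x ∈ H.NF) : ∃ j < 16, x * t * x⁻¹ = t * ε j := by
  obtain ⟨j, hj, h | h⟩ := H.mem_NF.1 hx t H.t_mem
  · exact absurd h (H.tE j hj x)
  · exact ⟨j, hj, h⟩

variable (hx0 : ∃ x, (∀ i < 16, ∃ j < 16, x * ε i * x⁻¹ = ε j) ∧
  ∃ k < 16, k ≠ 0 ∧ x * t * x⁻¹ = t * ε k)
include hx0

theorem exists_move {j : ℕ} (hj : j < 16) : ∃ x ∈ H.NF, x * t * x⁻¹ = t * ε j := by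
  by_cases h0 : j = 0
  · exact ⟨1, H.NF.one_mem, by rw [h0, H.zero]; group⟩
  obtain ⟨x, h1, k, hk, hk0, h2⟩ := hx0
  have hx : x ∈ H.NF := by
    rw [H.mem_NF]
    rintro y ⟨i, hi, rfl | rfl⟩
    · obtain ⟨j, hj, h3⟩ := h1 i hi
      exact ⟨j, hj, Or.inl h3⟩
    · obtain ⟨j, hj, h3⟩ := h1 i hi
      refine ⟨_, xor_lt hk hj, Or.inr ?_⟩
      rw [← H.mul k hk j hj, ← mul_assoc t, ← h2, ← h3]
      group
  have hW : ∀ w : List ℕ, (∀ k ∈ w, k < 5) → (w.map s).prod ∈ H.NF := fun w hw => by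
    rw [H.mem_NF]
    exact fun y hy => H.W_mem_F hw hy
  have hWc : ∀ w : List ℕ, (∀ k ∈ w, k < 5) → ∀ i < 16,
      (w.map s).prod * (t * ε i) * ((w.map s).prod)⁻¹ = t * ε (act w i) := by
    intro w hw i hi
    rw [← mul_assoc, ← H.W_t _ hw, mul_assoc t, H.W_eps _ hw hi]
    group
  have e1 := hWc (wv k) (wv_lt k hk) 1 (by norm_num)
  have e2 := hWc (wv j) (wv_lt j hj) 1 (by norm_num)
  rw [wv_one k hk hk0] at e1
  rw [wv_one j hj h0] at e2
  refine ⟨((wv j).map s).prod * (((wv k).map s).prod)⁻¹ * x,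
    H.NF.mul_mem (H.NF.mul_mem (hW _ (wv_lt j hj)) (H.NF.inv_mem (hW _ (wv_lt k hk)))) hx, ?_⟩
  calc ((wv j).map s).prod * (((wv k).map s).prod)⁻¹ * x * t *
        (((wv j).map s).prod * (((wv k).map s).prod)⁻¹ * x)⁻¹
      = ((wv j).map s).prod * ((((wv k).map s).prod)⁻¹ * (x * t * x⁻¹) * ((wv k).map s).prod) *
        (((wv j).map s).prod)⁻¹ := by group
    _ = ((wv j).map s).prod * (t * ε 1) * (((wv j).map s).prod)⁻¹ := by
      rw [h2, ← e1]; group
    _ = t * ε j := e2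

/-- `N(F)` normalizes `E` -/
theorem NF_E {x : G} (hx : x ∈ H.NF) {i : ℕ} (hi : i < 16) : ∃ j < 16, x * ε i * x⁻¹ = ε j := by
  obtain ⟨j, hj, h | h⟩ := H.mem_NF.1 hx (ε i) ⟨i, hi, Or.inl rfl⟩
  · exact ⟨j, hj, h⟩
  · exfalso
    obtain ⟨y, hy, h1⟩ := H.exists_move hx0 hj
    apply H.tE i hi (x⁻¹ * y)
    calc x⁻¹ * y * t * (x⁻¹ * y)⁻¹ = x⁻¹ * (y * t * y⁻¹) * x := by group
      _ = x⁻¹ * (x * ε i * x⁻¹) * x := by rw [h1, h]
      _ = ε i := by group

/-- `|N(F) : C_{N(F)}(t)| = 16` -/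
theorem index_t : (H.NF ⊓ Subgroup.centralizer {t}).relIndex H.NF = 16 := by
  rw [relIndex_orbit H.NF t (Set.range fun i : Fin 16 => t * ε i)]
  · rw [Nat.card_range_of_injective]
    · simp
    · intro i j h
      exact Fin.ext (H.eq_of i.2 j.2 (mul_left_cancel h))
  · intro y
    constructor
    · rintro ⟨i, rfl⟩
      exact H.exists_move hx0 i.2
    · rintro ⟨k, hk, rfl⟩
      obtain ⟨j, hj, h⟩ := H.conj_t hk
      exact ⟨⟨j, hj⟩, h.symm⟩

end

theorem ab_spec : ∀ k < 2, ∀ i < 12, 4 ≤ i → 4 ≤ gm k i ∧ gm k i < 12 ∧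
    ∃ j < 12, 4 ≤ j ∧ gm k j = i := by decide +kernel

theorem ab_trans : ∀ i < 12, 4 ≤ i → ∃ w ∈ [[], [0], [1], [0, 1], [1, 0], [0, 1, 0], [1, 0, 1],
    [0, 1, 0, 1]], act w 4 = i := by decide +kernel

/-- an orbit of `⟨a, b⟩` of length 8 -/
def S8 (ε : ℕ → G) : Set G := {y | ∃ i < 12, 4 ≤ i ∧ y = ε i}

/-- the stabilizer of `S8` in `N(F) ∩ C(t)` -/
def D (H : EPre t ε s N) : Subgroup G :=
  (H.NF ⊓ Subgroup.centralizer {t}) ⊓ Subgroup.normalizer (S8 ε)

theorem mem_D (H : EPre t ε s N) {x : G} : x ∈ H.D ↔ (x ∈ H.NF ∧ x * t = t * x) ∧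
    ∀ y, y ∈ S8 ε ↔ x * y * x⁻¹ ∈ S8 ε := by
  rw [D, Subgroup.mem_inf, Subgroup.mem_inf, Subgroup.mem_centralizer_singleton_iff]
  rfl

section

variable [Finite G] (H : EPre t ε s N)
include H

theorem s_mem_D {k : ℕ} (hk : k < 2) : s k ∈ H.D := by
  have hk5 : k < 5 := by omega
  rw [H.mem_D]
  refine ⟨⟨H.s_mem hk5, ?_⟩, ?_⟩
  · exact (H.Nt _ (H.sN k hk5)).symm
  · intro y
    constructor
    · rintro ⟨i, hi, hi4, rfl⟩
      obtain ⟨h1, h2, -⟩ := ab_spec k hk i hi hi4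
      exact ⟨gm k i, h2, h1, by rw [H.sε k hk5 i (by omega), mul_inv_cancel_right]⟩
    · rintro ⟨i, hi, hi4, h⟩
      obtain ⟨-, -, j, hj, hj4, h3⟩ := ab_spec k hk i hi hi4
      refine ⟨j, hj, hj4, ?_⟩
      rw [mul_inv_eq_iff_eq_mul, ← h3, ← H.sε k hk5 j (by omega)] at h
      exact mul_left_cancel h

theorem index_D : (H.D ⊓ Subgroup.centralizer {ε 4}).relIndex H.D = 8 := by
  rw [relIndex_orbit H.D (ε 4) (S8 ε)]
  · have h1 : Function.Bijective (fun p : Fin 8 => (⟨ε (4 + p), 4 + p, by omega, by omega, rfl⟩ : S8 ε)) := by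
      constructor
      · intro i j h
        have := H.eq_of (i := 4 + i) (j := 4 + j) (by omega) (by omega) (congrArg Subtype.val h)
        exact Fin.ext (by omega)
      · rintro ⟨y, i, hi, hi4, rfl⟩
        refine ⟨⟨i - 4, by omega⟩, Subtype.ext ?_⟩
        change ε (4 + (i - 4)) = ε i
        rw [Nat.add_sub_cancel' hi4]
    rw [← Nat.card_eq_of_bijective _ h1]
    simp
  · intro y
    constructor
    · rintro ⟨i, hi, hi4, rfl⟩
      obtain ⟨w, hw, h⟩ := ab_trans i hi hi4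
      have hw2 : ∀ k ∈ w, k < 2 := by
        simp only [List.mem_cons, List.not_mem_nil, or_false] at hw
        rcases hw with rfl | rfl | rfl | rfl | rfl | rfl | rfl | rfl <;> simp only [_root_.List.not_mem_nil, _root_.Order.lt_two_iff, _root_.IsEmpty.forall_iff, _root_.implies_true, _root_.List.mem_cons, _root_.or_false, _root_.forall_eq, _root_.zero_le, _root_.Std.le_refl, _root_.forall_eq_or_imp, _root_.and_self]
      refine ⟨(w.map s).prod, ?_, ?_⟩
      · clear h hw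
        induction w with
        | nil => exact H.D.one_mem
        | cons k w ih =>
          rw [List.map_cons, List.prod_cons]
          exact H.D.mul_mem (H.s_mem_D (hw2 k (by simp))) (ih fun k hk => hw2 k (by simp [hk]))
      · rw [H.W_eps w (fun k hk => by have := hw2 k hk; omega) (by norm_num), h, mul_inv_cancel_right]
    · rintro ⟨k, hk, rfl⟩
      exact ((H.mem_D.1 hk).2 _).1 ⟨4, by norm_num, by norm_num, rfl⟩

theorem C_le_D : H.C ≤ H.D := by
  intro x hx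
  have h1 := H.mem_C.1 hx
  rw [H.mem_D]
  refine ⟨⟨H.C_le_NF hx, ?_⟩, ?_⟩
  · exact h1.1.symm
  · intro y
    constructor
    · rintro ⟨i, hi, hi4, rfl⟩
      exact ⟨i, hi, hi4, by rw [h1.2 i (by omega), mul_inv_cancel_right]⟩
    · rintro ⟨i, hi, hi4, h⟩
      refine ⟨i, hi, hi4, ?_⟩
      rw [mul_inv_eq_iff_eq_mul, ← h1.2 i (by omega)] at h
      exact mul_left_cancel h

/-- some element of `N(F)` centralizes `E` and moves `t` -/
theorem exists_centE (hx0 : ∃ x, (∀ i < 16, ∃ j < 16, x * ε i * x⁻¹ = ε j) ∧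
    ∃ k < 16, k ≠ 0 ∧ x * t * x⁻¹ = t * ε k) :
    ∃ x ∈ H.NF, (∀ i < 16, x * ε i = ε i * x) ∧ ∃ k < 16, k ≠ 0 ∧ x * t * x⁻¹ = t * ε k := by
  by_contra hne
  push Not at hne
  have hle : H.NF ≤ Subgroup.normalizer (H.E : Set G) := by
    intro x hx
    rw [Subgroup.mem_normalizer_iff]
    have h1 : Subgroup.map (MulAut.conj x).toMonoidHom H.E = H.E := by
      apply Subgroup.eq_of_le_of_card_ge
      · rintro _ ⟨z, ⟨i, hi, rfl⟩, rfl⟩
        exact H.NF_E hx0 hx hi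
      · exact (Nat.card_congr (H.E.equivMapOfInjective _ (MulAut.conj x).injective).toEquiv).le
    intro y
    constructor
    · rintro ⟨i, hi, rfl⟩
      exact H.NF_E hx0 hx hi
    · intro hy
      have h2 : x * y * x⁻¹ ∈ Subgroup.map (MulAut.conj x).toMonoidHom H.E := by rw [h1]; exact hy
      obtain ⟨z, hz, h3⟩ := h2
      have h4 : x * z * x⁻¹ = x * y * x⁻¹ := h3
      have h5 : z = y := by simpa only [_root_.mul_left_inj, _root_.mul_right_inj] using h4
      exact h5 ▸ hz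
  set f : H.NF →* MulAut H.E := (Subgroup.normalizerMonoidHom H.E).comp (Subgroup.inclusion hle) with hf
  have hker : f.ker = H.C.subgroupOf H.NF := by
    ext x
    rw [Subgroup.mem_subgroupOf, MonoidHom.mem_ker]
    constructor
    · intro h
      have h1 : ∀ i < 16, (x : G) * ε i = ε i * x := by
        intro i hi
        have h2 := congrArg Subtype.val (DFunLike.congr_fun h ⟨ε i, i, hi, rfl⟩)
        have h3 : (x : G) * ε i * (x : G)⁻¹ = ε i := h2
        rw [mul_inv_eq_iff_eq_mul] at h3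
        exact h3
      obtain ⟨k, hk, h4⟩ := H.conj_t x.2
      have hk0 : k = 0 := by
        by_contra hk0
        exact hne x x.2 h1 k hk hk0 h4
      rw [hk0, H.zero, mul_one, mul_inv_eq_iff_eq_mul] at h4
      exact H.mem_C.2 ⟨h4.symm, h1⟩
    · intro h
      apply MulEquiv.ext
      rintro ⟨y, i, hi, rfl⟩
      apply Subtype.ext
      change (x : G) * ε i * (x : G)⁻¹ = ε i
      rw [(H.mem_C.1 h).2 i hi, mul_inv_cancel_right]
  have h1 : H.C.relIndex H.NF ∣ Nat.card (MulAut H.E) := by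
    rw [Subgroup.relIndex, ← hker, Subgroup.index_ker]
    exact Subgroup.card_subgroup_dvd_card _
  have h2 : Nat.card (MulAut H.E) = 20160 := by
    have : Fact (Nat.Prime 2) := ⟨Nat.prime_two⟩
    rw [Cfsg.Agent.Transfer.ElemAbAut.card_mulAut 2 4 _ _ (by rw [H.card_E]; norm_num)]
    · simp only [Fin.prod_univ_succ, _root_.Nat.reducePow, _root_.Fin.isValue, _root_.Fin.coe_ofNat_eq_mod, _root_.Nat.zero_mod, _root_.pow_zero, _root_.Nat.add_one_sub_one, _root_.Fin.val_succ, _root_.zero_add, _root_.pow_one, _root_.Nat.reduceSub, _root_.Nat.reduceAdd, _root_.Finset.univ_unique, _root_.Fin.default_eq_zero, _root_.Fin.val_eq_zero, _root_.Finset.prod_const, _root_.Finset.card_singleton, _root_.Nat.reduceMul]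
    · rintro ⟨_, i, hi, rfl⟩ ⟨_, j, hj, rfl⟩
      apply Subtype.ext
      change ε i * ε j = ε j * ε i
      rw [H.mul i hi j hj, H.mul j hj i hi, Nat.xor_comm]
    · rintro ⟨_, i, hi, rfl⟩
      apply Subtype.ext
      rw [pow_two]
      exact H.sq hi
  have h3 : H.C ≤ H.D ⊓ Subgroup.centralizer {ε 4} := by
    refine le_inf H.C_le_D ?_
    intro x hx
    rw [Subgroup.mem_centralizer_singleton_iff]
    exact (H.mem_C.1 hx).2 4 (by norm_num)
  have h4 := Subgroup.relIndex_mul_relIndex _ _ _ h3 inf_le_left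
  have h5 := Subgroup.relIndex_mul_relIndex _ _ _ H.C_le_D (inf_le_left (a := H.NF ⊓ Subgroup.centralizer {t}))
  have h6 := Subgroup.relIndex_mul_relIndex _ _ _ (H.C_le_D.trans
    (inf_le_left (a := H.NF ⊓ Subgroup.centralizer {t}))) inf_le_left
  rw [H.index_D] at h4
  rw [H.index_t hx0] at h6
  rw [h2, ← h6] at h1
  change H.C.relIndex H.D * _ = _ at h5
  rw [← h5, ← h4] at h1
  have h7 : 128 ∣ 20160 := by
    refine Dvd.dvd.trans ?_ h1
    exact ⟨H.C.relIndex (H.D ⊓ Subgroup.centralizer {ε 4}) *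
      H.D.relIndex (H.NF ⊓ Subgroup.centralizer {t}), by ring⟩
  omega

end

end EPre

end Cfsg.Agent.TypeM

private theorem dce_bc589f69425b : _root_.True := by
  try have : _root_.True := by simp only [_root_.Cfsg.Agent.TypeM.EPre.NF.congr_simp]
  try have : _root_.True := by simp only [_root_.Cfsg.Agent.TypeM.EPre.D.eq_1]
  try have : _root_.True := by simp only [_root_.Cfsg.Agent.TypeM.EPre.C.eq_1]
  try have : _root_.True := by simp only [_root_.Cfsg.Agent.TypeM.EPre.m.eq_1]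
  try have : _root_.True := by simp only [_root_.Cfsg.Agent.TypeM.EPre.NF.eq_1]
  try have : _root_.True := by simp only [_root_.Cfsg.Agent.TypeM.EPre.m.congr_simp]
  try have : _root_.True := by simp only [_root_.Cfsg.Agent.TypeM.EPre.F.congr_simp]
  exact _root_.True.intro
end

-- part: TypeM/Lift
section
set_option linter.all false
open scoped Cfsg.Agent.FastGrp

-- part: TypeM/Enum16
section
/-!
Enumeration of an elementary abelian group of order `2 ^ n` by `0, …, 2 ^ n - 1` with `f i * f j = f (i ^^^ j)`.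
-/

set_option autoImplicit false

namespace Cfsg.Agent.TypeM

theorem comm_of_sq {L : Type*} [Group L] {A : Subgroup L} (hA : ∀ x ∈ A, x * x = 1) {x y : L}
    (hx : x ∈ A) (hy : y ∈ A) : x * y = y * x := by
  have h1 := hA _ (A.mul_mem hx hy)
  have h2 := hA x hx
  have h3 := hA y hy
  calc x * y = x * y * 1 := by rw [mul_one]
    _ = x * (x * y * (x * y)) * y := by
        rw [h1, mul_one]; simp
    _ = (x * x) * y * x * (y * y) := by group
    _ = y * x := by rw [h2, h3, one_mul, mul_one]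

theorem exists_enum {L : Type*} [Group L] [Finite L] (n : ℕ) : ∀ A : Subgroup L, (∀ x ∈ A, x * x = 1) →
    Nat.card A = 2 ^ n → ∃ f : ℕ → L, (∀ i < 2 ^ n, ∀ j < 2 ^ n, f i * f j = f (i ^^^ j)) ∧
      (∀ i < 2 ^ n, f i = 1 → i = 0) ∧ ∀ x, x ∈ A ↔ ∃ i < 2 ^ n, x = f i := by
  induction n with
  | zero =>
    intro A _ hc
    have h1 : A = ⊥ := Subgroup.eq_bot_of_card_eq A (by simpa only [_root_.Subgroup.card_eq_one, _root_.pow_zero] using hc)
    subst h1
    refine ⟨fun _ => 1, by simp, ?_, ?_⟩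
    · intro i hi _; simpa using hi
    · intro x
      rw [Subgroup.mem_bot]
      exact ⟨fun h => ⟨0, by norm_num, h⟩, fun ⟨_, _, h⟩ => h⟩
  | succ n ih =>
    intro A hA hc
    have : Fact (Nat.Prime 2) := ⟨Nat.prime_two⟩
    obtain ⟨B, hB⟩ := Sylow.exists_subgroup_card_pow_prime (G := ↥A) 2 (n := n)
      (by rw [hc]; exact pow_dvd_pow 2 (Nat.le_succ n))
    have hBi : B.index = 2 := by
      have h1 := B.card_mul_index
      rw [hB, hc, pow_succ] at h1
      exact Nat.eq_of_mul_eq_mul_left (by positivity) h1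
    obtain ⟨f, hf1, hf2, hf3⟩ := ih (B.map A.subtype)
      (by rintro _ ⟨x, _, rfl⟩; exact hA _ x.2)
      (by
        rw [← hB]
        exact (Nat.card_congr (B.equivMapOfInjective _ A.subtype_injective).toEquiv).symm)
    obtain ⟨b, hb⟩ : ∃ b : ↥A, b ∉ B := by
      by_contra hcon
      push Not at hcon
      have h1 : B = ⊤ := by ext x; simp [hcon x]
      rw [h1, Subgroup.index_top] at hBi
      omega
    have hfA : ∀ i < 2 ^ n, f i ∈ B.map A.subtype := fun i hi => (hf3 _).mpr ⟨i, hi, rfl⟩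
    have hfA' : ∀ i < 2 ^ n, f i ∈ A := fun i hi => by
      obtain ⟨y, _, hy⟩ := hfA i hi
      rw [← hy]; exact y.2
    have hmod : ∀ i : ℕ, i % 2 ^ n < 2 ^ n := fun i => Nat.mod_lt _ (by positivity)
    have hbb : (b : L) * b = 1 := hA _ b.2
    have hbc : ∀ i < 2 ^ n, (b : L) * f i = f i * b := fun i hi => comm_of_sq hA b.2 (hfA' i hi)
    refine ⟨fun i => if i.testBit n then (b : L) * f (i % 2 ^ n) else f (i % 2 ^ n), ?_, ?_, ?_⟩
    · intro i _ j _
      simp only [Nat.testBit_xor, Nat.xor_mod_two_pow, ← hf1 _ (hmod i) _ (hmod j)]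
      cases i.testBit n <;> cases j.testBit n
      · simp
      · simp [← mul_assoc, hbc _ (hmod i)]
      · simp [mul_assoc]
      · simp only [if_true, Bool.xor_self, if_false, Bool.false_eq_true]
        rw [hbc _ (hmod j)]
        calc (b : L) * f (i % 2 ^ n) * (f (j % 2 ^ n) * b) = f (i % 2 ^ n) * (b * f (j % 2 ^ n)) * b := by
              rw [hbc _ (hmod i)]; group
          _ = f (i % 2 ^ n) * f (j % 2 ^ n) * (b * b) := by rw [hbc _ (hmod j)]; group
          _ = _ := by rw [hbb, mul_one]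
    · intro i hi h
      simp only at h
      cases ht : i.testBit n with
      | true =>
        exfalso
        rw [ht, if_pos rfl] at h
        apply hb
        have h1 : (b : L) = (f (i % 2 ^ n))⁻¹ := eq_inv_of_mul_eq_one_left h
        have h2 : (b : L) ∈ B.map A.subtype := h1 ▸ (B.map A.subtype).inv_mem (hfA _ (hmod i))
        obtain ⟨y, hy, hy'⟩ := h2
        have h3 : y = b := Subtype.ext hy'
        exact h3 ▸ hy
      | false =>
        rw [ht] at h
        have h1 := hf2 _ (hmod i) (by simpa using h)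
        rw [Nat.testBit_eq_decide_div_mod_eq] at ht
        have h2 : i / 2 ^ n < 2 := by
          rw [Nat.div_lt_iff_lt_mul (by positivity), mul_comm]
          rwa [pow_succ] at hi
        have h3 : i / 2 ^ n = 0 := by
          have h4 : ¬ (i / 2 ^ n % 2 = 1) := by
            intro h5
            rw [h5] at ht
            simp at ht
          revert h2 h4
          generalize i / 2 ^ n = q
          intro h2 h4
          omega
        have h4 := Nat.div_add_mod i (2 ^ n)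
        rw [h3, h1] at h4
        omega
    · intro x
      constructor
      · intro hx
        by_cases hxB : (⟨x, hx⟩ : ↥A) ∈ B
        · obtain ⟨k, hk, hk'⟩ := (hf3 x).mp ⟨⟨x, hx⟩, hxB, rfl⟩
          refine ⟨k, lt_of_lt_of_le hk (Nat.pow_le_pow_right (by norm_num) (Nat.le_succ n)), ?_⟩
          simp only
          rw [Nat.testBit_lt_two_pow hk, Nat.mod_eq_of_lt hk]
          simpa using hk'
        · have h1 : b * ⟨x, hx⟩ ∈ B := by
            rw [Subgroup.mul_mem_iff_of_index_two hBi]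
            exact ⟨fun h => absurd h hb, fun h => absurd h hxB⟩
          obtain ⟨k, hk, hk'⟩ := (hf3 ((b : L) * x)).mp ⟨b * ⟨x, hx⟩, h1, rfl⟩
          refine ⟨2 ^ n + k, by rw [pow_succ]; omega, ?_⟩
          simp only
          rw [Nat.testBit_two_pow_add_eq, Nat.testBit_lt_two_pow hk, Nat.add_mod_left, Nat.mod_eq_of_lt hk]
          simp only [Bool.not_false, if_true]
          rw [← hk', ← mul_assoc, hbb, one_mul]
      · rintro ⟨i, _, rfl⟩
        simp only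
        split_ifs
        · exact A.mul_mem b.2 (hfA' _ (hmod i))
        · exact hfA' _ (hmod i)

theorem exists_isE16 {L : Type*} [Group L] [Finite L] (A : Subgroup L) (hA : ∀ x ∈ A, x * x = 1)
    (hc : Nat.card A = 16) : ∃ f : ℕ → L, IsE16 f ∧ ∀ x, x ∈ A ↔ ∃ i < 16, x = f i := by
  obtain ⟨f, h1, h2, h3⟩ := exists_enum 4 A hA (by rw [hc]; norm_num)
  norm_num only [] at h1 h2 h3
  exact ⟨f, ⟨h1, h2⟩, h3⟩

end Cfsg.Agent.TypeM
end

-- part: TypeM/LiftBasic
section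
/-!
# Lifting through an odd kernel, and the automorphisms of `L = K / O(K)` induced by `C(t)`

(piece Lift of Theorem W, S1739)
-/

set_option autoImplicit false

namespace Cfsg.Agent.TypeM

open Subgroup

/-! ### 2-subgroups and their normalizers lift through odd kernels -/

section odd

variable {K L : Type*} [Group K] [Group L]

theorem eq_one_of_two_odd {x : K} (h : TwoElt x) {N : Subgroup K} (hN : Odd (Nat.card N)) (hx : x ∈ N) : x = 1 := by
  obtain ⟨n, hn⟩ := h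
  have h1 : orderOf x ∣ 2 ^ n := orderOf_dvd_of_pow_eq_one hn
  have h2 : orderOf x ∣ Nat.card N := Subgroup.orderOf_dvd_natCard N hx
  have h3 : Nat.Coprime (2 ^ n) (Nat.card N) := Nat.Coprime.pow_left _ (Nat.coprime_two_left.mpr hN)
  have h4 : orderOf x ∣ 1 := by
    rw [← h3.gcd_eq_one]; exact Nat.dvd_gcd h1 h2
  rw [Nat.dvd_one, orderOf_eq_one_iff] at h4
  exact h4

theorem twoElt_of_mem {P : Subgroup K} (hP : IsPGroup 2 P) {x : K} (hx : x ∈ P) : TwoElt x := by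
  obtain ⟨n, hn⟩ := hP ⟨x, hx⟩
  exact ⟨n, by simpa only [_root_.SubmonoidClass.mk_pow, _root_.OneMemClass.coe_one] using congrArg Subtype.val hn⟩

/-- A 2-subgroup lifts through a surjection with odd kernel. -/
theorem exists_lift_two [Finite K] (π : K →* L) (hπ : Function.Surjective π) (hodd : Odd (Nat.card π.ker))
    (A : Subgroup L) (hA : IsPGroup 2 A) : ∃ P : Subgroup K, IsPGroup 2 P ∧ (∀ x ∈ P, π x ∈ A) ∧
      (∀ a ∈ A, ∃ x ∈ P, π x = a) ∧ ∀ x ∈ P, ∀ y ∈ P, π x = π y → x = y := by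
  have : Fact (Nat.Prime 2) := ⟨Nat.prime_two⟩
  let f : ↥(A.comap π) →* ↥A := π.subgroupComap A
  have hf : Function.Surjective f := by
    rintro ⟨a, ha⟩
    obtain ⟨x, rfl⟩ := hπ a
    exact ⟨⟨x, ha⟩, rfl⟩
  let S : Sylow 2 ↥(A.comap π) := default
  have h1 : ((S.mapSurjective hf : Sylow 2 ↥A) : Subgroup ↥A) = ⊤ := by
    have h2 : IsPGroup 2 (⊤ : Subgroup ↥A) := hA.to_subgroup ⊤
    exact ((S.mapSurjective hf).is_maximal' h2 le_top).symm
  refine ⟨(S : Subgroup ↥(A.comap π)).map (A.comap π).subtype, S.2.map _, ?_, ?_, ?_⟩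
  · rintro _ ⟨x, _, rfl⟩; exact x.2
  · intro a ha
    have h2 : (⟨a, ha⟩ : ↥A) ∈ (S : Subgroup ↥(A.comap π)).map f := by
      rw [← Sylow.coe_mapSurjective hf, h1]; exact mem_top _
    obtain ⟨x, hx, hx'⟩ := h2
    exact ⟨x, ⟨x, hx, rfl⟩, congrArg Subtype.val hx'⟩
  · rintro _ ⟨x, hx, rfl⟩ _ ⟨y, hy, rfl⟩ h
    have h2 : TwoElt ((x : K)⁻¹ * y) :=
      twoElt_of_mem (S.2.map (A.comap π).subtype)
        (mul_mem (inv_mem ⟨x, hx, rfl⟩) ⟨y, hy, rfl⟩)
    have h3 : (x : K)⁻¹ * y ∈ π.ker := by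
      rw [MonoidHom.mem_ker, map_mul, map_inv]
      have h' : π (x : K) = π (y : K) := h
      rw [h', inv_mul_cancel]
    have h4 := eq_one_of_two_odd h2 hodd h3
    exact inv_mul_eq_one.mp h4

/-- Elements of `L` normalizing `π(P)` lift to elements normalizing `P`. -/
theorem exists_lift_norm [Finite K] (π : K →* L) (hπ : Function.Surjective π) (hodd : Odd (Nat.card π.ker))
    {A : Subgroup L} {P : Subgroup K} (hP : IsPGroup 2 P) (h1 : ∀ x ∈ P, π x ∈ A) (h2 : ∀ a ∈ A, ∃ x ∈ P, π x = a)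
    {g : L} (hg : ∀ a ∈ A, g * a * g⁻¹ ∈ A) : ∃ x, π x = g ∧ x ∈ normalizer (P : Set K) := by
  have : Fact (Nat.Prime 2) := ⟨Nat.prime_two⟩
  obtain ⟨y, rfl⟩ := hπ g
  obtain ⟨n, hn, hny⟩ := Cfsg.Agent.Lib.LocalCore.exists_mul_mem_normalizer 2 π.ker P
    (Nat.coprime_two_right.mpr hodd) hP (g := y) (by
      intro x hx
      obtain ⟨z, hz, hz'⟩ := h2 _ (hg _ (h1 x hx))
      have h3 : z⁻¹ * (y * x * y⁻¹) ∈ π.ker := by
        rw [MonoidHom.mem_ker, map_mul, map_inv, hz', map_mul, map_mul, map_inv]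
        group
      have h4 : y * x * y⁻¹ = z * (z⁻¹ * (y * x * y⁻¹)) := by group
      rw [h4]
      exact mul_mem (mem_sup_left hz) (mem_sup_right h3))
  exact ⟨n * y, by rw [map_mul, MonoidHom.mem_ker.mp hn, one_mul], hny⟩

end odd

/-! ### the setup -/

/-- `K ≤ C(t)` normal in `C(t)`, `π : K → L` a surjection with odd kernel stable under `C(t)`, `Z(L) = 1`,
`⟨t⟩` is a Sylow 2-subgroup of the centralizer of `K / ker π` in `C(t)`, no involution of `K` is conjugate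
to `t`. -/
structure LHyp {G L : Type*} [Group G] [Group L] (t : G) (K : Subgroup G) (π : K →* L) : Prop where
  tt : t * t = 1
  Kt : ∀ k ∈ K, t * k = k * t
  norm : ∀ c : G, c * t = t * c → ∀ k ∈ K, c * k * c⁻¹ ∈ K
  surj : Function.Surjective π
  odd : Odd (Nat.card π.ker)
  stab : ∀ (c : G) (hc : c * t = t * c) (k : G) (hk : k ∈ K), π ⟨k, hk⟩ = 1 → π ⟨c * k * c⁻¹, norm c hc k hk⟩ = 1
  cent : ∀ l : L, (∀ m : L, l * m = m * l) → l = 1
  nn : ∀ (x : G) (hx : x * t = t * x), TwoElt x → (∀ (k : G) (hk : k ∈ K),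
    π ⟨x * k * x⁻¹, norm x hx k hk⟩ = π ⟨k, hk⟩) → x = 1 ∨ x = t
  nc : ∀ k ∈ K, k * k = 1 → ¬ IsConj t k

namespace LHyp

variable {G L : Type*} [Group G] [Group L] {t : G} {K : Subgroup G} {π : K →* L}

theorem tK (H : LHyp t K π) : t ∉ K := fun h => H.nc t h H.tt (IsConj.refl t)

theorem t1 (H : LHyp t K π) : t ≠ 1 := fun h => H.tK (h ▸ K.one_mem)

/-- conjugation by `c ∈ C(t)` on `K` -/
def cjK (H : LHyp t K π) (c : G) (hc : c * t = t * c) : K →* K where
  toFun k := ⟨c * k * c⁻¹, H.norm c hc k k.2⟩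
  map_one' := Subtype.ext (by simp)
  map_mul' a b := Subtype.ext (by simp only [mul_assoc, _root_.Subgroup.coe_mul, _root_.MulMemClass.mk_mul_mk, _root_.inv_mul_cancel_left])

/-- the endomorphism of `L` induced by `c ∈ C(t)` -/
noncomputable def hom (H : LHyp t K π) (c : G) (hc : c * t = t * c) : L →* L :=
  π.liftOfSurjective H.surj ⟨π.comp (H.cjK c hc), by
    rintro ⟨k, hk⟩ h
    exact H.stab c hc k hk (MonoidHom.mem_ker.mp h)⟩

theorem hom_apply (H : LHyp t K π) (c : G) (hc : c * t = t * c) (k : K) :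
    H.hom c hc (π k) = π (H.cjK c hc k) :=
  π.liftOfRightInverse_comp_apply _ _ _ _

theorem mem_cent {c : G} : c ∈ centralizer ({t} : Set G) ↔ c * t = t * c :=
  mem_centralizer_singleton_iff

/-- The action of `C(t)` on `L`. -/
noncomputable def φ (H : LHyp t K π) : ↥(centralizer ({t} : Set G)) →* MulAut L where
  toFun c := (H.hom c (mem_cent.mp c.2)).toMulEquiv (H.hom (c⁻¹ : ↥(centralizer ({t} : Set G))) (mem_cent.mp (c⁻¹).2))
    (by
      ext l
      obtain ⟨k, rfl⟩ := H.surj l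
      simp only [MonoidHom.comp_apply, hom_apply, MonoidHom.id_apply]
      congr 1
      apply Subtype.ext
      simp only [cjK, mul_assoc, _root_.InvMemClass.coe_inv, _root_.inv_inv, _root_.MonoidHom.coe_mk, _root_.OneHom.coe_mk, _root_.inv_mul_cancel, _root_.mul_one, _root_.inv_mul_cancel_left, _root_.Subtype.coe_eta])
    (by
      ext l
      obtain ⟨k, rfl⟩ := H.surj l
      simp only [MonoidHom.comp_apply, hom_apply, MonoidHom.id_apply]
      congr 1
      apply Subtype.ext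
      simp only [cjK, mul_assoc, _root_.InvMemClass.coe_inv, _root_.inv_inv, _root_.MonoidHom.coe_mk, _root_.OneHom.coe_mk, _root_.mul_inv_cancel, _root_.mul_one, _root_.mul_inv_cancel_left, _root_.Subtype.coe_eta])
  map_one' := by
    ext l
    obtain ⟨k, rfl⟩ := H.surj l
    change H.hom _ _ (π k) = π k
    rw [hom_apply]
    congr 1
    apply Subtype.ext
    simp [cjK]
  map_mul' c d := by
    ext l
    obtain ⟨k, rfl⟩ := H.surj l
    change H.hom _ _ (π k) = H.hom _ _ (H.hom _ _ (π k))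
    rw [hom_apply, hom_apply, hom_apply]
    congr 1
    apply Subtype.ext
    simp only [cjK, mul_assoc, _root_.Subgroup.coe_mul, _root_.mul_inv_rev, _root_.MonoidHom.coe_mk, _root_.OneHom.coe_mk]

theorem φ_apply (H : LHyp t K π) (c : ↥(centralizer ({t} : Set G))) (k : G) (hk : k ∈ K) :
    H.φ c (π ⟨k, hk⟩) = π ⟨c * k * (c : G)⁻¹, H.norm c (mem_cent.mp c.2) k hk⟩ := by
  change H.hom _ _ (π _) = _
  rw [hom_apply]
  rfl

theorem φ_of_mem (H : LHyp t K π) {k : G} (hk : k ∈ K) (hc : k ∈ centralizer ({t} : Set G)) :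
    H.φ ⟨k, hc⟩ = MulAut.conj (π ⟨k, hk⟩) := by
  ext l
  obtain ⟨m, rfl⟩ := H.surj l
  have h1 := H.φ_apply ⟨k, hc⟩ m m.2
  rw [MulAut.conj_apply, ← map_inv, ← map_mul, ← map_mul]
  exact h1

theorem φ_t (H : LHyp t K π) (hc : t ∈ centralizer ({t} : Set G)) : H.φ ⟨t, hc⟩ = 1 := by
  ext l
  obtain ⟨m, rfl⟩ := H.surj l
  have h1 := H.φ_apply ⟨t, hc⟩ m m.2
  refine h1.trans ?_
  change π _ = π m
  congr 1
  apply Subtype.ext
  change t * (m : G) * t⁻¹ = m
  rw [H.Kt m m.2]; group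

theorem conj_inj (H : LHyp t K π) {l m : L} (h : MulAut.conj l = MulAut.conj m) : l = m := by
  have h1 : l⁻¹ * m = 1 := by
    apply H.cent
    intro n
    have h2 : l * (n) * l⁻¹ = m * n * m⁻¹ := by
      have := congrArg (fun f : MulAut L => f n) h
      simpa only [_root_.MulAut.conj_apply] using this
    calc l⁻¹ * m * n = l⁻¹ * (m * n * m⁻¹) * m := by group
      _ = n * (l⁻¹ * m) := by rw [← h2]; group
  exact inv_mul_eq_one.mp h1

/-- 2-elements in the kernel of `φ` -/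
theorem eq_of_φ (H : LHyp t K π) {c : ↥(centralizer ({t} : Set G))} (h2 : TwoElt (c : G)) (h : H.φ c = 1) :
    (c : G) = 1 ∨ (c : G) = t := by
  refine H.nn c (mem_cent.mp c.2) h2 ?_
  intro k hk
  rw [← H.φ_apply c k hk, h]
  rfl

end LHyp

end Cfsg.Agent.TypeM
end

-- part: TypeM/LiftPre
section
/-!
# Lift, part 1: from `ELoc ε s` in `L = K / O(K)` to `EPre t e f N` in `G`
-/

set_option autoImplicit false

namespace Cfsg.Agent.TypeM

open Subgroup

namespace ELoc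

variable {L : Type*} [Group L] {ε s : ℕ → L}

theorem zero (E : ELoc ε s) : ε 0 = 1 := by
  have h := E.mul 0 (by norm_num) 0 (by norm_num)
  simpa using h

theorem sq (E : ELoc ε s) {i : ℕ} (hi : i < 16) : ε i * ε i = 1 := by
  rw [E.mul i hi i hi, Nat.xor_self, E.zero]

theorem eq_of (E : ELoc ε s) {i j : ℕ} (hi : i < 16) (hj : j < 16) (e : ε i = ε j) : i = j := by
  have h1 : ε (i ^^^ j) = 1 := by rw [← E.mul i hi j hj, e, E.sq hj]
  exact Nat.xor_eq_zero_iff.mp (E.inj _ (xor_lt hi hj) h1)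

/-- the group `{ε 0, …, ε 15}` -/
def A (E : ELoc ε s) : Subgroup L where
  carrier := {y | ∃ i < 16, y = ε i}
  mul_mem' := by
    rintro _ _ ⟨i, hi, rfl⟩ ⟨j, hj, rfl⟩
    exact ⟨_, xor_lt hi hj, E.mul i hi j hj⟩
  one_mem' := ⟨0, by norm_num, E.zero.symm⟩
  inv_mem' := by
    rintro _ ⟨i, hi, rfl⟩
    exact ⟨i, hi, inv_eq_of_mul_eq_one_right (E.sq hi)⟩

theorem mem_A (E : ELoc ε s) {y : L} : y ∈ E.A ↔ ∃ i < 16, y = ε i := Iff.rfl

theorem isPGroup_A (E : ELoc ε s) : IsPGroup 2 E.A := by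
  rintro ⟨y, i, hi, rfl⟩
  exact ⟨1, Subtype.ext (by simpa only [pow_two, _root_.pow_one, _root_.Subgroup.coe_mul, _root_.OneMemClass.coe_one] using E.sq hi)⟩

theorem card_A (E : ELoc ε s) : Nat.card E.A = 16 := by
  have h1 : Function.Bijective (fun i : Fin 16 => (⟨ε i, ⟨i, i.2, rfl⟩⟩ : E.A)) := by
    constructor
    · intro i j h
      exact Fin.ext (E.eq_of i.2 j.2 (congrArg Subtype.val h))
    · rintro ⟨y, i, hi, rfl⟩
      exact ⟨⟨i, hi⟩, rfl⟩
  rw [← Nat.card_eq_of_bijective _ h1]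
  simp

end ELoc

theorem TwoElt.mul {G : Type*} [Group G] {x y : G} (hx : TwoElt x) (hy : TwoElt y) (h : x * y = y * x) :
    TwoElt (x * y) := by
  obtain ⟨m, hm⟩ := hx
  obtain ⟨n, hn⟩ := hy
  refine ⟨m + n, ?_⟩
  have hc : Commute x y := h
  rw [hc.mul_pow, pow_add, pow_mul, hm, one_pow, mul_comm (2 ^ m), pow_mul, hn, one_pow, one_mul]

theorem twoElt_of_sq {G : Type*} [Group G] {x : G} (hx : x * x = 1) : TwoElt x := ⟨1, by simpa only [pow_two, _root_.pow_one] using hx⟩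

/-- a lift `e, f` of `ε, s` to `G` -/
structure IsLift {G L : Type*} [Group G] [Group L] {K : Subgroup G} (π : K →* L) (ε s : ℕ → L) (e f : ℕ → G) :
    Prop where
  ev : ∀ i < 16, ∃ h : e i ∈ K, π ⟨e i, h⟩ = ε i
  fv : ∀ k < 5, ∃ h : f k ∈ K, π ⟨f k, h⟩ = s k
  mul : ∀ i < 16, ∀ j < 16, e i * e j = e (i ^^^ j)
  act : ∀ k < 5, ∀ i < 16, f k * e i = e (gm k i) * f k

namespace LHyp

variable {G L : Type*} [Group G] [Group L] {t : G} {K : Subgroup G} {π : K →* L}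

/-- existence of lifts -/
theorem exists_isLift [Finite G] (H : LHyp t K π) {ε s : ℕ → L} (E : ELoc ε s) :
    ∃ e f : ℕ → G, IsLift π ε s e f := by
  obtain ⟨P, hP, h1, h2, h3⟩ := exists_lift_two π H.surj H.odd E.A E.isPGroup_A
  have h4 : ∀ i : ℕ, ∃ x : K, i < 16 → x ∈ P ∧ π x = ε i := by
    intro i
    by_cases hi : i < 16
    · obtain ⟨x, hx, hx'⟩ := h2 (ε i) ⟨i, hi, rfl⟩
      exact ⟨x, fun _ => ⟨hx, hx'⟩⟩
    · exact ⟨1, fun h => absurd h hi⟩
  choose e he using h4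
  have h5 : ∀ k : ℕ, ∃ x : K, k < 5 → x ∈ normalizer (P : Set K) ∧ π x = s k := by
    intro k
    by_cases hk : k < 5
    · obtain ⟨x, hx, hx'⟩ := exists_lift_norm π H.surj H.odd hP h1 h2 (g := s k) (by
        rintro _ ⟨i, hi, rfl⟩
        refine ⟨gm k i, gm_lt k i, ?_⟩
        rw [E.sε k hk i hi]; group)
      exact ⟨x, fun _ => ⟨hx', hx⟩⟩
    · exact ⟨1, fun h => absurd h hk⟩
  choose f hf using h5
  refine ⟨fun i => e i, fun k => f k, ?_, ?_, ?_, ?_⟩
  · exact fun i hi => ⟨(e i).2, (he i hi).2⟩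
  · exact fun k hk => ⟨(f k).2, (hf k hk).2⟩
  · intro i hi j hj
    have h6 : e i * e j = e (i ^^^ j) := by
      apply h3 _ (P.mul_mem (he i hi).1 (he j hj).1) _ (he _ (xor_lt hi hj)).1
      rw [map_mul, (he i hi).2, (he j hj).2, (he _ (xor_lt hi hj)).2, E.mul i hi j hj]
    exact congrArg Subtype.val h6
  · intro k hk i hi
    have h6 : f k * e i * (f k)⁻¹ = e (gm k i) := by
      apply h3 _ ((mem_normalizer_iff.mp (hf k hk).1 _).mp (he i hi).1) _ (he _ (gm_lt k i)).1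
      rw [map_mul, map_mul, map_inv, (hf k hk).2, (he i hi).2, (he _ (gm_lt k i)).2, E.sε k hk i hi]
      group
    have h7 : f k * e i = e (gm k i) * f k := by rw [← h6]; group
    exact congrArg Subtype.val h7

section lift

variable {ε s : ℕ → L} {e f : ℕ → G}

theorem lift_inj (E : ELoc ε s) (I : IsLift π ε s e f) {i : ℕ} (hi : i < 16)
    (h : e i = 1) : i = 0 := by
  obtain ⟨h1, h2⟩ := I.ev i hi
  apply E.inj i hi
  rw [← h2]
  have h3 : (⟨e i, h1⟩ : K) = 1 := Subtype.ext h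
  rw [h3, map_one]

theorem lift_zero (I : IsLift π ε s e f) : e 0 = 1 := by
  have h := I.mul 0 (by norm_num) 0 (by norm_num)
  simpa using h

theorem lift_sq (I : IsLift π ε s e f) {i : ℕ} (hi : i < 16) : e i * e i = 1 := by
  rw [I.mul i hi i hi, Nat.xor_self, lift_zero I]

theorem lift_mem (I : IsLift π ε s e f) {i : ℕ} (hi : i < 16) : e i ∈ K := (I.ev i hi).1

/-- the action of `c ∈ C(t)` on the lift and `φ c` -/
theorem φ_eps (H : LHyp t K π) (I : IsLift π ε s e f) {i j : ℕ} (hi : i < 16) (hj : j < 16)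
    (c : ↥(centralizer ({t} : Set G))) (h : (c : G) * e i * (c : G)⁻¹ = e j) : H.φ c (ε i) = ε j := by
  obtain ⟨h1, h2⟩ := I.ev i hi
  obtain ⟨h3, h4⟩ := I.ev j hj
  rw [← h2, H.φ_apply, ← h4]
  congr 1
  exact Subtype.ext h

/-- An element `l` with `φ c = conj l`, `c` a 2-element, is a 2-element. -/
theorem twoElt_of_φ (H : LHyp t K π) {c : ↥(centralizer ({t} : Set G))} (hc : TwoElt (c : G)) {l : L}
    (h : H.φ c = MulAut.conj l) : TwoElt l := by
  obtain ⟨n, hn⟩ := hc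
  refine ⟨n, ?_⟩
  apply H.conj_inj
  rw [map_pow, ← h, ← map_pow, map_one]
  have h1 : c ^ 2 ^ n = 1 := Subtype.ext (by simpa only [_root_.SubmonoidClass.coe_pow, _root_.OneMemClass.coe_one] using hn)
  rw [h1, map_one]

/-- field `cen` -/
theorem lift_cen (H : LHyp t K π) (E : ELoc ε s) (I : IsLift π ε s e f)
    (o1 : ∀ φ : MulAut L, (∀ i < 16, ∃ j < 16, φ (ε i) = ε j) → φ ∈ (MulAut.conj : L →* MulAut L).range)
    (x : G) (hx : TwoElt x) (hxt : t * x = x * t) (hxe : ∀ i < 16, x * e i = e i * x) :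
    ∃ i < 16, x = e i ∨ x = t * e i := by
  have hxc : x ∈ centralizer ({t} : Set G) := mem_cent.mpr hxt.symm
  have h1 : ∀ i < 16, H.φ ⟨x, hxc⟩ (ε i) = ε i := fun i hi =>
    H.φ_eps I hi hi ⟨x, hxc⟩ (by
      change x * e i * x⁻¹ = e i
      rw [hxe i hi]; group)
  obtain ⟨l, hl⟩ := o1 (H.φ ⟨x, hxc⟩) (fun i hi => ⟨i, hi, h1 i hi⟩)
  have h2 : ∀ i < 16, l * ε i = ε i * l := by
    intro i hi
    have h3 := h1 i hi
    rw [← hl, MulAut.conj_apply] at h3
    calc l * ε i = l * ε i * l⁻¹ * l := by group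
      _ = ε i * l := by rw [h3]
  obtain ⟨i, hi, rfl⟩ := E.cen l (H.twoElt_of_φ (c := ⟨x, hxc⟩) hx hl.symm) h2
  obtain ⟨h3, h4⟩ := I.ev i hi
  have h5 : e i ∈ centralizer ({t} : Set G) := mem_cent.mpr (H.Kt _ h3).symm
  have h6 : H.φ (⟨x, hxc⟩ * ⟨e i, h5⟩) = 1 := by
    rw [map_mul, ← hl, H.φ_of_mem h3 h5, h4, ← map_mul, E.sq hi, map_one]
  have h7 : TwoElt (x * e i) := hx.mul (twoElt_of_sq (lift_sq I hi)) (hxe i hi)
  have h8 : x = (x * e i) * e i := by rw [mul_assoc, lift_sq I hi, mul_one]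
  rcases H.eq_of_φ (c := ⟨x, hxc⟩ * ⟨e i, h5⟩) h7 h6 with h9 | h9
  · refine ⟨i, hi, Or.inl ?_⟩
    have h9' : x * e i = 1 := h9
    rw [h8, h9', one_mul]
  · refine ⟨i, hi, Or.inr ?_⟩
    have h9' : x * e i = t := h9
    rw [h8, h9']

/-- the normalizer of `E` in `K` -/
def NE (K : Subgroup G) (e : ℕ → G) : Subgroup G := K ⊓ normalizer ({y | ∃ i < 16, y = e i} : Set G)

theorem mem_NE {K : Subgroup G} {n : G} (hn : n ∈ NE K e) {i : ℕ} (hi : i < 16) : ∃ j < 16, n * e i * n⁻¹ = e j :=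
  (mem_set_normalizer_iff.mp (mem_inf.mp hn).2 (e i)).mp ⟨i, hi, rfl⟩

theorem pre_of_isLift (H : LHyp t K π) (E : ELoc ε s) (I : IsLift π ε s e f)
    (o1 : ∀ φ : MulAut L, (∀ i < 16, ∃ j < 16, φ (ε i) = ε j) → φ ∈ (MulAut.conj : L →* MulAut L).range) :
    EPre t e f (NE K e) where
  tt := H.tt
  mul := I.mul
  inj := fun i hi h => lift_inj E I hi h
  tε := fun i hi => H.Kt _ (lift_mem I hi)
  εN := fun i hi => by
    refine mem_inf.mpr ⟨lift_mem I hi, mem_set_normalizer_iff.mpr ?_⟩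
    intro x
    have h1 : ∀ j < 16, e i * e j * (e i)⁻¹ = e j := by
      intro j hj
      rw [I.mul i hi j hj, Nat.xor_comm, ← I.mul j hj i hi]; group
    constructor
    · rintro ⟨j, hj, rfl⟩
      exact ⟨j, hj, h1 j hj⟩
    · rintro ⟨j, hj, h2⟩
      refine ⟨j, hj, ?_⟩
      rw [← h1 j hj] at h2
      simpa only [_root_.mul_left_inj, _root_.mul_right_inj] using h2
  sN := fun k hk => by
    refine mem_inf.mpr ⟨(I.fv k hk).1, mem_set_normalizer_iff.mpr ?_⟩
    intro x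
    constructor
    · rintro ⟨j, hj, rfl⟩
      refine ⟨gm k j, gm_lt k j, ?_⟩
      rw [I.act k hk j hj]; group
    · rintro ⟨j, hj, h2⟩
      obtain ⟨i, hi, rfl⟩ := gm_surj k hk j hj
      refine ⟨i, hi, ?_⟩
      have h3 : e (gm k i) = f k * e i * (f k)⁻¹ := by rw [I.act k hk i hi]; group
      rw [h3] at h2
      simpa only [_root_.mul_left_inj, _root_.mul_right_inj] using h2
  tN := fun h => H.tK (mem_inf.mp h).1
  Nt := fun n hn => H.Kt n (mem_inf.mp hn).1
  sε := I.act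
  cen := fun x hx hxt hxe => H.lift_cen E I o1 x hx hxt hxe
  tE := fun i hi g h => H.nc (e i) (lift_mem I hi) (lift_sq I hi) (isConj_iff.mpr ⟨g, h⟩)

/-- **Lift, part 1.** -/
theorem exists_pre [Finite G] (H : LHyp t K π) (E : ELoc ε s)
    (o1 : ∀ φ : MulAut L, (∀ i < 16, ∃ j < 16, φ (ε i) = ε j) → φ ∈ (MulAut.conj : L →* MulAut L).range) :
    ∃ e f : ℕ → G, IsLift π ε s e f ∧ EPre t e f (NE K e) := by
  obtain ⟨e, f, I⟩ := H.exists_isLift E
  exact ⟨e, f, I, H.pre_of_isLift E I o1⟩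

/-- `C(t) ∩ N(E)` acts on `E` as the group generated by the five matrices. -/
theorem exists_word (H : LHyp t K π) (E : ELoc ε s) (I : IsLift π ε s e f)
    (o1 : ∀ φ : MulAut L, (∀ i < 16, ∃ j < 16, φ (ε i) = ε j) → φ ∈ (MulAut.conj : L →* MulAut L).range)
    {c : G} (hct : c * t = t * c) (hc : ∀ i < 16, ∃ j < 16, c * e i * c⁻¹ = e j) :
    ∃ w : List ℕ, (∀ k ∈ w, k < 5) ∧ ∀ i < 16, c * e i * c⁻¹ = e (act w i) := by
  have hcc : c ∈ centralizer ({t} : Set G) := mem_cent.mpr hct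
  have h1 : ∀ i < 16, ∃ j < 16, H.φ ⟨c, hcc⟩ (ε i) = ε j := fun i hi => by
    obtain ⟨j, hj, h2⟩ := hc i hi
    exact ⟨j, hj, H.φ_eps I hi hj ⟨c, hcc⟩ h2⟩
  obtain ⟨l, hl⟩ := o1 _ h1
  obtain ⟨w, hw, hw'⟩ := E.aut l (fun i hi => by
    obtain ⟨j, hj, h2⟩ := h1 i hi
    rw [← hl, MulAut.conj_apply] at h2
    exact ⟨j, hj, h2⟩)
  refine ⟨w, hw, fun i hi => ?_⟩
  obtain ⟨j, hj, h2⟩ := hc i hi
  have h3 := H.φ_eps I hi hj ⟨c, hcc⟩ h2
  rw [← hl, MulAut.conj_apply, hw' i hi] at h3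
  rw [h2, E.eq_of (act_lt w hi) hj h3]

end lift

end LHyp

end Cfsg.Agent.TypeM
end

-- part: TypeM/LiftE32
section
/-!
# Lift, part 2: the elementary abelian subgroups of order 32 of `C(t)` containing `t`
-/

set_option autoImplicit false

namespace Cfsg.Agent.TypeM

open Subgroup
open Cfsg.Agent.SignalizersComponents.RelSylow

theorem card_ker_mul_card_range {A B : Type*} [Group A] [Group B] (f : A →* B) :
    Nat.card f.ker * Nat.card f.range = Nat.card A := by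
  rw [← Nat.card_congr (QuotientGroup.quotientKerEquivRange f).toEquiv, mul_comm]
  exact (Subgroup.card_eq_card_quotient_mul_card_subgroup f.ker).symm

namespace LHyp

variable {G L : Type*} [Group G] [Group L] {t : G} {K : Subgroup G} {π : K →* L}

/-- the group of inner automorphisms -/
abbrev Inn (L : Type*) [Group L] : Subgroup (MulAut L) := (MulAut.conj : L →* MulAut L).range

/-- `φ` on a subgroup of `C(t)` -/
noncomputable def ψ (H : LHyp t K π) {Q : Subgroup G} (hQ : Q ≤ centralizer ({t} : Set G)) : Q →* MulAut L :=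
  H.φ.comp (Subgroup.inclusion hQ)

theorem ker_sub (H : LHyp t K π) {Q : Subgroup G} (hQ : Q ≤ centralizer ({t} : Set G)) (h2 : IsPGroup 2 Q)
    {x : Q} (hx : x ∈ (H.ψ hQ).ker) : (x : G) = 1 ∨ (x : G) = t := by
  have h1 : H.φ (Subgroup.inclusion hQ x) = 1 := MonoidHom.mem_ker.mp hx
  exact H.eq_of_φ (c := Subgroup.inclusion hQ x) (twoElt_of_mem h2 x.2) h1

theorem card_ker_le (H : LHyp t K π) {Q : Subgroup G} (hQ : Q ≤ centralizer ({t} : Set G)) (h2 : IsPGroup 2 Q) :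
    Nat.card (H.ψ hQ).ker ≤ 2 := by
  have h0 : ∀ x : (H.ψ hQ).ker, ((x : Q) : G) ∈ ({1, t} : Set G) := by
    intro x
    rcases H.ker_sub hQ h2 x.2 with h | h
    · exact Or.inl h
    · exact Or.inr h
  have h1 : Nat.card (H.ψ hQ).ker ≤ Nat.card ({1, t} : Set G) :=
    Nat.card_le_card_of_injective (fun x => (⟨((x : Q) : G), h0 x⟩ : ({1, t} : Set G))) (by
      intro x y h
      exact Subtype.ext (Subtype.ext (congrArg (fun z : ({1, t} : Set G) => (z : G)) h)))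
  refine h1.trans ?_
  rw [Nat.card_coe_set_eq]
  refine (Set.ncard_insert_le 1 {t}).trans ?_
  simp

theorem card_le_of_range [Finite L] (H : LHyp t K π) {Q : Subgroup G} (hQ : Q ≤ centralizer ({t} : Set G))
    (h2 : IsPGroup 2 Q) {B : Subgroup (MulAut L)} (hB : (H.ψ hQ).range ≤ B) {n : ℕ} (hn : Nat.card B ≤ n) :
    Nat.card Q ≤ 2 * n := by
  rw [← card_ker_mul_card_range (H.ψ hQ)]
  exact Nat.mul_le_mul (H.card_ker_le hQ h2) ((Subgroup.card_le_of_le hB).trans hn)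

theorem conj_inj' (H : LHyp t K π) : Function.Injective (MulAut.conj : L →* MulAut L) :=
  fun _ _ h => H.conj_inj h

theorem card_range_of_t [Finite L] [Finite G] (H : LHyp t K π) {Q : Subgroup G}
    (hQ : Q ≤ centralizer ({t} : Set G)) (h2 : IsPGroup 2 Q) (ht : t ∈ Q) :
    Nat.card Q = 2 * Nat.card (H.ψ hQ).range := by
  rw [← card_ker_mul_card_range (H.ψ hQ)]
  congr 1
  refine le_antisymm (H.card_ker_le hQ h2) ?_
  have h3 : (⟨t, ht⟩ : Q) ∈ (H.ψ hQ).ker := by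
    rw [MonoidHom.mem_ker]
    exact H.φ_t (hQ ht)
  have h4 : (H.ψ hQ).ker ≠ ⊥ := by
    intro h
    rw [h, mem_bot] at h3
    exact H.t1 (congrArg Subtype.val h3)
  have h5 := (Subgroup.one_lt_card_iff_ne_bot _).mpr h4
  exact h5

/-- The elements of `R` act on `L` as inner automorphisms. -/
theorem range_le_inn [Finite L] [Finite G] (H : LHyp t K π)
    (o2 : ∀ φ : MulAut L, φ * φ = 1 → ∀ A : Subgroup L, (∀ x ∈ A, x * x = 1) → Nat.card A = 8 →
      (∀ x ∈ A, φ x = x) → φ ∈ Inn L)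
    (o3 : ∀ φ ψ : MulAut L, φ ∉ Inn L → ψ ∉ Inn L → φ * ψ ∈ Inn L)
    {M : Subgroup (MulAut L)} (hM : ∀ x ∈ M, x * x = 1) (hc : Nat.card M = 16) : M ≤ Inn L := by
  by_contra hcon
  obtain ⟨σ, hσM, hσ⟩ := SetLike.not_le_iff_exists.mp hcon
  have hcomm : ∀ x ∈ M, ∀ y ∈ M, x * y = y * x := fun x hx y hy => comm_of_sq hM hx hy
  have hidx : ((Inn L).subgroupOf M).index = 2 := by
    rw [Subgroup.index_eq_two_iff]
    refine ⟨⟨σ, hσM⟩, ?_⟩
    rintro ⟨b, hb⟩
    by_cases hbi : b ∈ Inn L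
    · refine Or.inr ⟨?_, ?_⟩
      · exact hbi
      · intro h
        have h1 : b * σ ∈ Inn L := h
        exact hσ ((mul_mem_cancel_left hbi).mp h1)
    · refine Or.inl ⟨?_, ?_⟩
      · exact o3 b σ hbi hσ
      · exact hbi
  have hcA : Nat.card ((Inn L).subgroupOf M) = 8 := by
    have h1 := ((Inn L).subgroupOf M).card_mul_index
    rw [hidx, hc] at h1
    omega
  set A : Subgroup L := M.comap (MulAut.conj : L →* MulAut L) with hA
  have hAc : Nat.card A = 8 := by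
    rw [← hcA]
    refine Nat.card_congr (Equiv.ofBijective
      (fun l : A => (⟨⟨MulAut.conj (l : L), l.2⟩, ⟨l, rfl⟩⟩ : (Inn L).subgroupOf M)) ⟨?_, ?_⟩)
    · intro l m h
      have h1 : (MulAut.conj (l : L)) = MulAut.conj (m : L) :=
        congrArg (fun z : (Inn L).subgroupOf M => ((z : M) : MulAut L)) h
      exact Subtype.ext (H.conj_inj h1)
    · rintro ⟨⟨x, hx⟩, l, hl⟩
      have hl' : MulAut.conj l = x := hl
      subst hl'
      exact ⟨⟨l, hx⟩, rfl⟩
  apply hσ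
  refine o2 σ (hM σ hσM) A ?_ hAc ?_
  · intro x hx
    apply H.conj_inj
    rw [map_mul, map_one]
    exact hM _ hx
  · intro x hx
    apply H.conj_inj
    have h1 : σ * MulAut.conj x = MulAut.conj x * σ := hcomm σ hσM _ hx
    ext m
    have h2 : (σ * MulAut.conj x) (σ⁻¹ m) = (MulAut.conj x * σ) (σ⁻¹ m) := by rw [h1]
    simp only [MulAut.mul_apply, MulAut.conj_apply, map_mul, MulAut.apply_inv_self, map_inv] at h2
    simpa only [_root_.MulAut.conj_apply] using h2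

/-- every 2-subgroup of `C(t)` inducing only automorphisms `conj a`, `a ∈ A`, `|A| = 16`, has order at most 32 -/
theorem card_le_32 [Finite L] (H : LHyp t K π) {Q : Subgroup G} (hQ : Q ≤ centralizer ({t} : Set G))
    (h2 : IsPGroup 2 Q) {A : Subgroup L} (hA : Nat.card A = 16)
    (h : ∀ x (hx : x ∈ centralizer ({t} : Set G)), x ∈ Q → ∃ a ∈ A, H.φ ⟨x, hx⟩ = MulAut.conj a) :
    Nat.card Q ≤ 32 := by
  have h1 := H.card_le_of_range hQ h2 (B := A.map (MulAut.conj : L →* MulAut L)) (n := 16) (by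
    rintro _ ⟨x, rfl⟩
    obtain ⟨a, ha, ha'⟩ := h x (hQ x.2) x.2
    exact ⟨a, ha, ha'.symm⟩) (by
    rw [← hA]
    exact (Nat.card_congr (A.equivMapOfInjective _ H.conj_inj').toEquiv).ge)
  omega

/-- the preimage of `conj A` in `C(t)` -/
noncomputable def Z (H : LHyp t K π) (A : Subgroup L) : Subgroup G :=
  ((A.map (MulAut.conj : L →* MulAut L)).comap H.φ).map (centralizer ({t} : Set G)).subtype

theorem mem_Z (H : LHyp t K π) {A : Subgroup L} {x : G} : x ∈ H.Z A ↔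
    ∃ hx : x ∈ centralizer ({t} : Set G), ∃ a ∈ A, H.φ ⟨x, hx⟩ = MulAut.conj a := by
  constructor
  · rintro ⟨⟨y, hy⟩, ⟨a, ha, ha'⟩, rfl⟩
    exact ⟨hy, a, ha, ha'.symm⟩
  · rintro ⟨hx, a, ha, ha'⟩
    exact ⟨⟨x, hx⟩, ⟨a, ha, ha'.symm⟩, rfl⟩

theorem isMaxP_Z [Finite L] [Finite G] (H : LHyp t K π) {Q : Subgroup G} (h2 : IsPGroup 2 Q) {A : Subgroup L}
    (hA : Nat.card A = 16) (hQZ : Q ≤ H.Z A) (hc : Nat.card Q = 32) : IsMaxP 2 (H.Z A) Q := by
  refine ⟨h2, hQZ, ?_⟩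
  intro R' h3 h4 h5
  have h6 : Nat.card R' ≤ 32 := H.card_le_32 (fun x hx => (H.mem_Z.mp (h4 hx)).1) h3 hA (by
    intro x _ hxR
    obtain ⟨_, a, ha, ha'⟩ := H.mem_Z.mp (h4 hxR)
    exact ⟨a, ha, ha'⟩)
  exact (Subgroup.eq_of_le_of_card_ge h5 (h6.trans hc.ge)).ge

theorem isPGroup_of_sq {R : Subgroup G} (hR : ∀ x ∈ R, x * x = 1) : IsPGroup 2 R := by
  rintro ⟨x, hx⟩
  exact ⟨1, Subtype.ext (by simpa only [pow_two, _root_.pow_one, _root_.MulMemClass.mk_mul_mk, _root_.OneMemClass.coe_one] using hR x hx)⟩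

/-- one of the two alternatives of `e16` -/
theorem exists_conj_of [Finite L] [Finite G] (H : LHyp t K π) {ε s : ℕ → L} {e f : ℕ → G} {N : Subgroup G}
    (E : ELoc ε s) (I : IsLift π ε s e f) (HE : EPre t e f N) {R : Subgroup G}
    (hR : ∀ x ∈ R, x * x = 1) (hc : Nat.card R = 32) (hRC : R ≤ centralizer ({t} : Set G))
    (g : L) (hg : ∀ x (hx : x ∈ centralizer ({t} : Set G)), x ∈ R →
      ∃ l : L, H.φ ⟨x, hx⟩ = MulAut.conj l ∧ ∃ j < 16, g * l * g⁻¹ = ε j) :
    ∃ c, c * t = t * c ∧ ∀ x ∈ R, ∃ i < 16, c * x * c⁻¹ = e i ∨ c * x * c⁻¹ = t * e i := by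
  obtain ⟨⟨k, hk⟩, hkg⟩ := H.surj g
  have hkc : k ∈ centralizer ({t} : Set G) := mem_cent.mpr (H.Kt k hk).symm
  set R' : Subgroup G := R.map (MulAut.conj k).toMonoidHom with hR'
  have hR'Z : R' ≤ H.Z E.A := by
    rintro _ ⟨x, hx, rfl⟩
    have hxc := hRC hx
    obtain ⟨l, hl, j, hj, hlj⟩ := hg x hxc hx
    refine H.mem_Z.mpr ⟨?_, ε j, ⟨j, hj, rfl⟩, ?_⟩
    · exact mul_mem (mul_mem hkc hxc) (inv_mem hkc)
    · have h1 : (⟨(MulAut.conj k).toMonoidHom x, mul_mem (mul_mem hkc hxc) (inv_mem hkc)⟩ :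
          ↥(centralizer ({t} : Set G))) = ⟨k, hkc⟩ * ⟨x, hxc⟩ * ⟨k, hkc⟩⁻¹ := Subtype.ext rfl
      rw [h1, map_mul, map_mul, map_inv, H.φ_of_mem hk hkc, hkg, hl, ← map_inv, ← map_mul, ← map_mul, hlj]
  have hFZ : HE.F ≤ H.Z E.A := by
    rintro y ⟨i, hi, rfl | rfl⟩
    · obtain ⟨h1, h2⟩ := I.ev i hi
      have h3 : e i ∈ centralizer ({t} : Set G) := mem_cent.mpr (H.Kt _ h1).symm
      refine H.mem_Z.mpr ⟨h3, ε i, ⟨i, hi, rfl⟩, ?_⟩
      rw [H.φ_of_mem h1 h3, h2]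
    · obtain ⟨h1, h2⟩ := I.ev i hi
      have h3 : e i ∈ centralizer ({t} : Set G) := mem_cent.mpr (H.Kt _ h1).symm
      have h4 : t ∈ centralizer ({t} : Set G) := mem_cent.mpr rfl
      refine H.mem_Z.mpr ⟨mul_mem h4 h3, ε i, ⟨i, hi, rfl⟩, ?_⟩
      have h5 : (⟨t * e i, mul_mem h4 h3⟩ : ↥(centralizer ({t} : Set G))) = ⟨t, h4⟩ * ⟨e i, h3⟩ := rfl
      rw [h5, map_mul, H.φ_t h4, H.φ_of_mem h1 h3, h2, one_mul]
  have hR'c : Nat.card R' = 32 := (card_map_conj R k).trans hc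
  have hm1 := H.isMaxP_Z (isPGroup_of_sq (R := R') (by
    rintro _ ⟨x, hx, rfl⟩
    rw [← map_mul, hR x hx, map_one])) E.card_A hR'Z hR'c
  have hm2 := H.isMaxP_Z (isPGroup_of_sq (R := HE.F) (fun x hx => HE.F_sq hx)) E.card_A hFZ HE.card_F
  have : Fact (Nat.Prime 2) := ⟨Nat.prime_two⟩
  obtain ⟨c, hc, hcF⟩ := hm1.exists_conj hm2
  have hcc : c ∈ centralizer ({t} : Set G) := (H.mem_Z.mp hc).1
  refine ⟨c * k, mem_cent.mp (mul_mem hcc hkc), ?_⟩
  intro x hx
  have h1 : c * (k * x * k⁻¹) * c⁻¹ ∈ HE.F := by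
    rw [← hcF]
    exact ⟨k * x * k⁻¹, ⟨x, hx, rfl⟩, rfl⟩
  have h2 : c * k * x * (c * k)⁻¹ = c * (k * x * k⁻¹) * c⁻¹ := by group
  rw [h2]
  exact h1

/-- **Lift, part 2**: every elementary abelian subgroup of order 32 containing `t` is conjugate in `C(t)`
to `⟨t⟩E` or `⟨t⟩E'`. -/
theorem exists_conj32 [Finite L] [Finite G] (H : LHyp t K π) {ε s ε' s' : ℕ → L} {e f e' f' : ℕ → G}
    {N N' : Subgroup G} (F : LFacts ε s ε' s') (I : IsLift π ε s e f) (I' : IsLift π ε' s' e' f')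
    (HE : EPre t e f N) (HE' : EPre t e' f' N')
    (o2 : ∀ φ : MulAut L, φ * φ = 1 → ∀ A : Subgroup L, (∀ x ∈ A, x * x = 1) → Nat.card A = 8 →
      (∀ x ∈ A, φ x = x) → φ ∈ Inn L)
    (o3 : ∀ φ ψ : MulAut L, φ ∉ Inn L → ψ ∉ Inn L → φ * ψ ∈ Inn L)
    (R : Subgroup G) (htR : t ∈ R) (hR : ∀ x ∈ R, x * x = 1) (hc : Nat.card R = 32) :
    ∃ c, c * t = t * c ∧ ((∀ x ∈ R, ∃ i < 16, c * x * c⁻¹ = e i ∨ c * x * c⁻¹ = t * e i) ∨
      (∀ x ∈ R, ∃ i < 16, c * x * c⁻¹ = e' i ∨ c * x * c⁻¹ = t * e' i)) := by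
  have hRC : R ≤ centralizer ({t} : Set G) := fun x hx => mem_cent.mpr (comm_of_sq hR hx htR)
  have hR2 := isPGroup_of_sq hR
  have h1 := H.card_range_of_t hRC hR2 htR
  rw [hc] at h1
  have hM16 : Nat.card (H.ψ hRC).range = 16 := by omega
  have hMsq : ∀ x ∈ (H.ψ hRC).range, x * x = 1 := by
    rintro _ ⟨x, rfl⟩
    rw [← map_mul]
    have h2 : x * x = 1 := Subtype.ext (hR x x.2)
    rw [h2, map_one]
  have hinn := H.range_le_inn o2 o3 hMsq hM16
  -- the image in `L`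
  set A : Subgroup L := (H.ψ hRC).range.comap (MulAut.conj : L →* MulAut L) with hA
  have hA16 : Nat.card A = 16 := by
    rw [← hM16]
    refine Nat.card_congr (Equiv.ofBijective
      (fun l : A => (⟨MulAut.conj (l : L), l.2⟩ : (H.ψ hRC).range)) ⟨?_, ?_⟩)
    · intro l m h
      have h1 : (MulAut.conj (l : L)) = MulAut.conj (m : L) :=
        congrArg (fun z : (H.ψ hRC).range => (z : MulAut L)) h
      exact Subtype.ext (H.conj_inj h1)
    · rintro ⟨x, hx⟩
      obtain ⟨l, rfl⟩ := hinn hx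
      exact ⟨⟨l, hx⟩, rfl⟩
  obtain ⟨v, hv, hv'⟩ := exists_isE16 A (by
    intro x hx
    apply H.conj_inj
    rw [map_mul, map_one]
    exact hMsq _ hx) hA16
  have hφ : ∀ x (hx : x ∈ centralizer ({t} : Set G)), x ∈ R → ∃ i < 16, H.φ ⟨x, hx⟩ = MulAut.conj (v i) := by
    intro x hx hxR
    have h2 : H.φ ⟨x, hx⟩ ∈ (H.ψ hRC).range := ⟨⟨x, hxR⟩, rfl⟩
    obtain ⟨l, hl⟩ := hinn h2
    have h3 : l ∈ A := by
      rw [hA, mem_comap]
      exact hl ▸ h2
    obtain ⟨i, hi, rfl⟩ := (hv' l).mp h3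
    exact ⟨i, hi, hl.symm⟩
  obtain ⟨g, hg | hg⟩ := F.e16 v hv
  · obtain ⟨c, hc1, hc2⟩ := H.exists_conj_of F.E I HE hR hc hRC g (by
      intro x hx hxR
      obtain ⟨i, hi, h2⟩ := hφ x hx hxR
      exact ⟨v i, h2, hg i hi⟩)
    exact ⟨c, hc1, Or.inl hc2⟩
  · obtain ⟨c, hc1, hc2⟩ := H.exists_conj_of F.E' I' HE' hR hc hRC g (by
      intro x hx hxR
      obtain ⟨i, hi, h2⟩ := hφ x hx hxR
      exact ⟨v i, h2, hg i hi⟩)
    exact ⟨c, hc1, Or.inr hc2⟩

end LHyp

end Cfsg.Agent.TypeM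
end

-- part: TypeM/Lift
section
/-!
# Lift: from `LHyp` and `LFacts` to the two `EConf`'s in `G` (Theorem W, S1739)
-/

set_option autoImplicit false

namespace Cfsg.Agent.TypeM

open Subgroup

/-- Two involutions congruent modulo an odd normal subgroup `N` are conjugate under `N`. -/
theorem exists_conj_of_odd {K : Type*} [Group K] {N : Subgroup K} (hN : Odd (Nat.card N)) {x y : K}
    (hx : x * x = 1) (hy : y * y = 1) (hxy : x * y ∈ N) : ∃ r ∈ N, r * x * r⁻¹ = y := by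
  have h1 : orderOf (x * y) ∣ Nat.card N := Subgroup.orderOf_dvd_natCard N hxy
  obtain ⟨m, hm⟩ : Odd (orderOf (x * y)) := Odd.of_dvd_nat hN h1
  have hinv : x * (x * y) * x = (x * y)⁻¹ := by
    rw [mul_inv_rev, inv_eq_of_mul_eq_one_right hx, inv_eq_of_mul_eq_one_right hy]
    calc x * (x * y) * x = (x * x) * y * x := by group
      _ = y * x := by rw [hx, one_mul]
  have hx' : x⁻¹ = x := inv_eq_of_mul_eq_one_right hx
  have hpow : ∀ k : ℕ, x * (x * y) ^ k * x = ((x * y) ^ k)⁻¹ := by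
    intro k
    have h2 : x * (x * y) ^ k * x⁻¹ = (x * (x * y) * x⁻¹) ^ k := (conj_pow).symm
    rw [hx'] at h2
    rw [h2, hinv, inv_pow]
  set r := (x * y) ^ (m + 1) with hr
  have hrr : r * r = x * y := by
    rw [hr, ← pow_add]
    have h2 : m + 1 + (m + 1) = orderOf (x * y) + 1 := by omega
    rw [h2, pow_succ, pow_orderOf_eq_one, one_mul]
  refine ⟨r⁻¹, N.inv_mem (N.pow_mem hxy _), ?_⟩
  have h3 : x * r⁻¹ * x = r := by
    have h4 := hpow (m + 1)
    rw [← hr] at h4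
    calc x * r⁻¹ * x = x * (x * r * x) * x := by rw [h4]
      _ = (x * x) * r * (x * x) := by group
      _ = r := by rw [hx, one_mul, mul_one]
  calc r⁻¹ * x * r⁻¹⁻¹ = (x * x) * r⁻¹ * x * r := by rw [hx]; group
    _ = x * (x * r⁻¹ * x) * r := by group
    _ = x * (r * r) := by rw [h3]; group
    _ = (x * x) * y := by rw [hrr]; group
    _ = y := by rw [hx, one_mul]

namespace LHyp

variable {G L : Type*} [Group G] [Group L] {t : G} {K : Subgroup G} {π : K →* L}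

/-- all involutions of `K` are conjugate in `K` to `e 1` -/
theorem exists_conj_e1 (H : LHyp t K π) {ε s : ℕ → L} {e f : ℕ → G} (I : IsLift π ε s e f)
    (one : ∀ x : L, x * x = 1 → x ≠ 1 → ∃ g, g * x * g⁻¹ = ε 1) {k : G} (hk : k ∈ K) (hkk : k * k = 1)
    (hk1 : k ≠ 1) : ∃ c ∈ K, c * k * c⁻¹ = e 1 := by
  have h0 : π ⟨k, hk⟩ ≠ 1 := by
    intro h
    have h1 : (⟨k, hk⟩ : K) = 1 := eq_one_of_two_odd (twoElt_of_sq (Subtype.ext hkk)) H.odd
      (MonoidHom.mem_ker.mpr h)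
    exact hk1 (congrArg Subtype.val h1)
  obtain ⟨g, hg⟩ := one (π ⟨k, hk⟩) (by
    rw [← map_mul]
    have h1 : (⟨k, hk⟩ : K) * ⟨k, hk⟩ = 1 := Subtype.ext hkk
    rw [h1, map_one]) h0
  obtain ⟨k0, rfl⟩ := H.surj g
  obtain ⟨h1, h2⟩ := I.ev 1 (by norm_num)
  obtain ⟨r, _, hr⟩ := exists_conj_of_odd H.odd (x := k0 * ⟨k, hk⟩ * k0⁻¹) (y := ⟨e 1, h1⟩)
    (by
      have h3 : (⟨k, hk⟩ : K) * ⟨k, hk⟩ = 1 := Subtype.ext hkk
      calc k0 * ⟨k, hk⟩ * k0⁻¹ * (k0 * ⟨k, hk⟩ * k0⁻¹) = k0 * (⟨k, hk⟩ * ⟨k, hk⟩) * k0⁻¹ := by group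
        _ = 1 := by rw [h3]; group)
    (Subtype.ext (lift_sq I (by norm_num)))
    (by
      rw [MonoidHom.mem_ker, map_mul, map_mul, map_mul, map_inv, hg, h2]
      have h3 : (⟨e 1, h1⟩ : K) * ⟨e 1, h1⟩ = 1 := Subtype.ext (lift_sq I (by norm_num))
      rw [← h2, ← map_mul, h3, map_one])
  refine ⟨((r * k0 : K) : G), (r * k0).2, ?_⟩
  have h4 := congrArg Subtype.val hr
  have h5 : ((r * (k0 * ⟨k, hk⟩ * k0⁻¹) * r⁻¹ : K) : G) = (r : G) * ((k0 : G) * k * (k0 : G)⁻¹) * (r : G)⁻¹ := rfl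
  rw [h5] at h4
  have h6 : ((r * k0 : K) : G) * k * ((r * k0 : K) : G)⁻¹ = (r : G) * ((k0 : G) * k * (k0 : G)⁻¹) * (r : G)⁻¹ := by
    push_cast
    group
  exact h6.trans h4

theorem exists_conj_te1 (H : LHyp t K π) {ε s : ℕ → L} {e f : ℕ → G} (I : IsLift π ε s e f)
    (one : ∀ x : L, x * x = 1 → x ≠ 1 → ∃ g, g * x * g⁻¹ = ε 1)
    (hfus : ∃ k ∈ K, k * k = 1 ∧ k ≠ 1 ∧ IsConj t (t * k)) : IsConj t (t * e 1) := by
  obtain ⟨k, hk, hkk, hk1, hc⟩ := hfus
  obtain ⟨c, hc', h1⟩ := H.exists_conj_e1 I one hk hkk hk1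
  refine hc.trans (isConj_iff.mpr ⟨c, ?_⟩)
  calc c * (t * k) * c⁻¹ = (c * t) * k * c⁻¹ := by group
    _ = t * (c * k * c⁻¹) := by rw [← H.Kt c hc']; group
    _ = t * e 1 := by rw [h1]

/-- **Lift, summary**: the two configurations `EConf` for `E` and `E'`, the list of the `E₃₂`'s of `C(t)` on `t`,
and the action of `C(t)` on `E`, `E'`. -/
theorem exists_econf [Finite L] [Finite G] (H : LHyp t K π) {ε s ε' s' : ℕ → L} (F : LFacts ε s ε' s')
    (o1 : ∀ φ : MulAut L, (∀ i < 16, ∃ j < 16, φ (ε i) = ε j) → φ ∈ (MulAut.conj : L →* MulAut L).range)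
    (o1' : ∀ φ : MulAut L, (∀ i < 16, ∃ j < 16, φ (ε' i) = ε' j) → φ ∈ (MulAut.conj : L →* MulAut L).range)
    (o2 : ∀ φ : MulAut L, φ * φ = 1 → ∀ A : Subgroup L, (∀ x ∈ A, x * x = 1) → Nat.card A = 8 →
      (∀ x ∈ A, φ x = x) → φ ∈ (MulAut.conj : L →* MulAut L).range)
    (o3 : ∀ φ ψ : MulAut L, φ ∉ (MulAut.conj : L →* MulAut L).range → ψ ∉ (MulAut.conj : L →* MulAut L).range →
      φ * ψ ∈ (MulAut.conj : L →* MulAut L).range)
    (hfus : ∃ k ∈ K, k * k = 1 ∧ k ≠ 1 ∧ IsConj t (t * k)) :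
    ∃ e f e' f' : ℕ → G, IsLift π ε s e f ∧ IsLift π ε' s' e' f' ∧ EConf t e f (NE K e) ∧
      EConf t e' f' (NE K e') ∧
      (∀ R : Subgroup G, t ∈ R → (∀ x ∈ R, x * x = 1) → Nat.card R = 32 → ∃ c, c * t = t * c ∧
        ((∀ x ∈ R, ∃ i < 16, c * x * c⁻¹ = e i ∨ c * x * c⁻¹ = t * e i) ∨
          (∀ x ∈ R, ∃ i < 16, c * x * c⁻¹ = e' i ∨ c * x * c⁻¹ = t * e' i))) ∧
      (∀ c : G, c * t = t * c → (∀ i < 16, ∃ j < 16, c * e i * c⁻¹ = e j) →
        ∃ w : List ℕ, (∀ k ∈ w, k < 5) ∧ ∀ i < 16, c * e i * c⁻¹ = e (act w i)) ∧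
      (∀ c : G, c * t = t * c → (∀ i < 16, ∃ j < 16, c * e' i * c⁻¹ = e' j) →
        ∃ w : List ℕ, (∀ k ∈ w, k < 5) ∧ ∀ i < 16, c * e' i * c⁻¹ = e' (act w i)) := by
  obtain ⟨e, f, I, HE⟩ := H.exists_pre F.E o1
  obtain ⟨e', f', I', HE'⟩ := H.exists_pre F.E' o1'
  have h1 := H.exists_conj32 F I I' HE HE' o2 o3
  have h2 := H.exists_conj_te1 I F.one hfus
  have h3 := H.exists_conj_te1 I' (by
    intro x hx hx1
    obtain ⟨g, hg⟩ := F.one x hx hx1
    exact ⟨g, by rw [hg, F.low 1 (by norm_num)]⟩) hfus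
  refine ⟨e, f, e', f', I, I', HE.toEConf ?_, HE'.toEConf ?_, h1, ?_, ?_⟩
  · exact HE.exists_x0 HE' ⟨1, by norm_num, by norm_num, h2⟩ h1
  · refine HE'.exists_x0 HE ⟨1, by norm_num, by norm_num, h3⟩ ?_
    intro R htR hR hc
    obtain ⟨c, hc1, hc2⟩ := h1 R htR hR hc
    exact ⟨c, hc1, hc2.symm⟩
  · exact fun c hct hc => H.exists_word F.E I o1 hct hc
  · exact fun c hct hc => H.exists_word F.E' I' o1' hct hc

end LHyp

end Cfsg.Agent.TypeM
end

private theorem dce_da14dc78fd1a : _root_.True := by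
  try have : _root_.True := by simp only [_root_.Cfsg.Agent.TypeM.LHyp.cjK.eq_1]
  try have : _root_.True := by simp only [_root_.Cfsg.Agent.TypeM.LHyp.cjK.congr_simp]
  try have : _root_.True := by simp only [_root_.Cfsg.Agent.TypeM.LHyp.hom.congr_simp]
  exact _root_.True.intro
end

section
prune_inst 0xbcfff9afbcaddfffff7e7ffeffdffff9fcffffffdffbfbffedf3ffefdf6be7fbe5fb8f7fec58ff8ef6e0be30f87b53fb7eeeffeb6bdc7ffffd5ff45ffbffdfffffbf8d71f6bc3e1ffe6ffffbf37fff7f000000000000000000000000000041004200000000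

-- part: TypeM/Glue_mg
section
prune_inst 0x4000040000100000000000010000000200000000000000001008001020041800000020000080004001000080000000000000000400000000000000000000000000002000000000000000000000000080c00000000000000000000000000000000000000000
set_option linter.all false
open scoped Cfsg.Agent.FastGrp

-- part: TypeM/SylLift
section
/-!
# Lifting a 2-group through a surjection with kernel of odd order
-/

set_option autoImplicit false

namespace Cfsg.Agent.TypeM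

open Pointwise

/-- A 2-subgroup `R` of `Δ` lifts through a surjection with kernel of odd order to a 2-group `P` above
a given 2-group `F`; elements normalizing `R` lift to elements normalizing `P`. -/
theorem exists_two_lift {Γ Δ : Type*} [Group Γ] [Finite Γ] [Group Δ] (π : Γ →* Δ)
    (hπ : Function.Surjective π) (hk : ∀ x, π x = 1 → Odd (orderOf x)) (R : Subgroup Δ)
    (hR : IsPGroup 2 R) (F : Subgroup Γ) (hF : IsPGroup 2 F) (hFR : ∀ x ∈ F, π x ∈ R) :
    ∃ P : Subgroup Γ, IsPGroup 2 P ∧ F ≤ P ∧ (∀ x ∈ P, π x ∈ R) ∧ (∀ r ∈ R, ∃ x ∈ P, π x = r) ∧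
      (∀ x ∈ P, ∀ y ∈ P, π x = π y → x = y) ∧
      ∀ g : Γ, (∀ r ∈ R, π g * r * (π g)⁻¹ ∈ R) → ∃ o, π o = 1 ∧ ∀ x ∈ P, (o * g) * x * (o * g)⁻¹ ∈ P := by
  have : Fact (Nat.Prime 2) := ⟨Nat.prime_two⟩
  have : Finite Δ := Finite.of_surjective π hπ
  set K := R.comap π with hK
  have hFK : F ≤ K := fun x hx => hFR x hx
  obtain ⟨P', hP'⟩ := (hF.of_equiv (Subgroup.subgroupOfEquivOfLe hFK).symm).exists_le_sylow
  have hsurj : Function.Surjective (π.subgroupComap R) := π.subgroupComap_surjective_of_surjective R hπ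
  -- the image is everything
  have htop : (P' : Subgroup K).map (π.subgroupComap R) = ⊤ := by
    have h2 : IsPGroup 2 (⊤ : Subgroup R) := hR.to_subgroup ⊤
    exact ((P'.mapSurjective hsurj).3 h2 le_top).symm
  have hlift : ∀ r ∈ R, ∃ x : K, x ∈ P' ∧ π x = r := by
    intro r hr
    have h1 : (⟨r, hr⟩ : R) ∈ (P' : Subgroup K).map (π.subgroupComap R) := by rw [htop]; trivial
    obtain ⟨x, hx, h2⟩ := h1
    exact ⟨x, hx, congrArg Subtype.val h2⟩
  have hinj : ∀ x : K, x ∈ P' → π x = 1 → x = 1 := by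
    intro x hx h1
    obtain ⟨n, hn⟩ := P'.2 ⟨x, hx⟩
    have h2 : (x : Γ) ^ 2 ^ n = 1 := by
      have := congrArg (fun y : P' => ((y : K) : Γ)) hn
      simpa only [_root_.SubmonoidClass.mk_pow, _root_.SubmonoidClass.coe_pow, _root_.OneMemClass.coe_one] using this
    have h3 := hk x h1
    have h4 : Nat.Coprime (orderOf (x : Γ)) (2 ^ n) := Nat.Coprime.pow_right n h3.coprime_two_right
    have h5 : orderOf (x : Γ) = 1 := Nat.eq_one_of_dvd_coprimes h4 dvd_rfl (orderOf_dvd_of_pow_eq_one h2)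
    exact Subtype.ext (orderOf_eq_one_iff.1 h5)
  refine ⟨(P' : Subgroup K).map K.subtype, P'.2.map _, ?_, ?_, ?_, ?_, ?_⟩
  · intro x hx
    exact ⟨⟨x, hFK hx⟩, hP' (Subgroup.mem_subgroupOf.2 hx), rfl⟩
  · rintro _ ⟨x, hx, rfl⟩
    exact x.2
  · intro r hr
    obtain ⟨x, hx, h1⟩ := hlift r hr
    exact ⟨x, ⟨x, hx, rfl⟩, h1⟩
  · rintro _ ⟨x, hx, rfl⟩ _ ⟨y, hy, rfl⟩ h
    have h1 := hinj (x * y⁻¹) ((P' : Subgroup K).mul_mem hx ((P' : Subgroup K).inv_mem hy)) (by
      have : π (x : Γ) = π (y : Γ) := h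
      simp only [this, _root_.Subgroup.coe_mul, _root_.InvMemClass.coe_inv, _root_.map_mul, _root_.map_inv, _root_.mul_inv_cancel])
    rw [mul_inv_eq_one] at h1
    rw [h1]
  · intro g hg
    -- `π g` normalizes `R`
    have hg' : ∀ r, π g * r * (π g)⁻¹ ∈ R → r ∈ R := by
      have h1 : R.map (MulAut.conj (π g)).toMonoidHom = R := by
        apply Subgroup.eq_of_le_of_card_ge
        · rintro _ ⟨z, hz, rfl⟩; exact hg z hz
        · exact (Nat.card_congr (R.equivMapOfInjective _ (MulAut.conj (π g)).injective).toEquiv).le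
      intro y hy
      have h2 : π g * y * (π g)⁻¹ ∈ R.map (MulAut.conj (π g)).toMonoidHom := by rw [h1]; exact hy
      obtain ⟨z, hz, h3⟩ := h2
      have h4 : π g * z * (π g)⁻¹ = π g * y * (π g)⁻¹ := h3
      have h5 : z = y := by simpa only [_root_.mul_left_inj, _root_.mul_right_inj] using h4
      exact h5 ▸ hz
    have hgK : g ∈ Subgroup.normalizer (K : Set Γ) := by
      rw [Subgroup.mem_normalizer_iff]
      intro x
      rw [hK, Subgroup.mem_comap, Subgroup.mem_comap, map_mul, map_mul, map_inv]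
      exact ⟨hg _, hg' _⟩
    obtain ⟨r, hr⟩ := MulAction.exists_smul_eq K P' (K.normalizerMonoidHom ⟨g, hgK⟩ • P')
    obtain ⟨q, hq, hqr⟩ := hlift (π r) r.2
    refine ⟨(q : Γ) * (r : Γ)⁻¹, by simp only [hqr, _root_.map_mul, _root_.map_inv, _root_.mul_inv_cancel], ?_⟩
    rintro _ ⟨x, hx, rfl⟩
    have h1 : K.normalizerMonoidHom ⟨g, hgK⟩ x ∈ (K.normalizerMonoidHom ⟨g, hgK⟩ • P' : Sylow 2 K) :=
      Subgroup.smul_mem_pointwise_smul x _ _ hx
    rw [← hr] at h1
    obtain ⟨y, hy, h2⟩ := h1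
    have h3 : (r : Γ) * y * (r : Γ)⁻¹ = g * x * g⁻¹ := congrArg Subtype.val h2
    refine ⟨q * y * q⁻¹, (P' : Subgroup K).mul_mem ((P' : Subgroup K).mul_mem hq hy)
      ((P' : Subgroup K).inv_mem hq), ?_⟩
    change (q : Γ) * y * (q : Γ)⁻¹ = (q : Γ) * (r : Γ)⁻¹ * g * x * ((q : Γ) * (r : Γ)⁻¹ * g)⁻¹
    calc (q : Γ) * y * (q : Γ)⁻¹ = q * ((r : Γ)⁻¹ * (r * y * (r : Γ)⁻¹) * r) * (q : Γ)⁻¹ := by group
      _ = _ := by rw [h3]; group

end Cfsg.Agent.TypeM
end

-- part: TypeM/LemQH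
section
/-!
# Lemma Q in a finite group
-/

set_option autoImplicit false
set_option linter.unusedSectionVars false

namespace Cfsg.Agent.TypeM

namespace UHyp

variable {H : Type*} [Group H] {t : H} {ε s : ℕ → H} {N : Subgroup H} {u : H}

theorem QQ (h : UHyp t ε s N u) {i j i' j' : ℕ} (hi : i < 16) (hj : j < 16) (hi' : i' < 16) (hj' : j' < 16) :
    (ε i * mu s u j) * (ε i' * mu s u j') = ε (i ^^^ i') * mu s u (j ^^^ j') := by
  rw [← h.mul i hi i' hi', ← h.mu_mul hj hj', mul_assoc, ← mul_assoc (mu s u j), h.mu_eps hj hi']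
  simp only [mul_assoc]

theorem Qt (h : UHyp t ε s N u) {i j : ℕ} (hi : i < 16) (hj : j < 16) :
    (ε i * mu s u j) * t = t * (ε (i ^^^ j) * mu s u j) := by
  rw [mul_assoc, h.mu_t hj, ← mul_assoc, ← mul_assoc, ← h.tε i hi, mul_assoc t, h.mul i hi j hj, mul_assoc]

theorem tQtQ (h : UHyp t ε s N u) {i j i' j' : ℕ} (hi : i < 16) (hj : j < 16) (hi' : i' < 16)
    (hj' : j' < 16) : (t * (ε i * mu s u j)) * (t * (ε i' * mu s u j')) =
      ε (i ^^^ j ^^^ i') * mu s u (j ^^^ j') := by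
  calc (t * (ε i * mu s u j)) * (t * (ε i' * mu s u j'))
      = t * ((ε i * mu s u j) * t) * (ε i' * mu s u j') := by simp only [mul_assoc]
    _ = t * (t * (ε (i ^^^ j) * mu s u j)) * (ε i' * mu s u j') := by rw [h.Qt hi hj]
    _ = (t * t) * ((ε (i ^^^ j) * mu s u j) * (ε i' * mu s u j')) := by simp only [mul_assoc]
    _ = _ := by rw [h.tt, one_mul, h.QQ (xor_lt hi hj) hj hi' hj']

/-- the group `⟨t⟩ Q` -/
def R (h : UHyp t ε s N u) : Subgroup H where
  carrier := {y | ∃ i < 16, ∃ j < 16, y = ε i * mu s u j ∨ y = t * (ε i * mu s u j)}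
  mul_mem' := by
    rintro _ _ ⟨i, hi, j, hj, rfl | rfl⟩ ⟨i', hi', j', hj', rfl | rfl⟩
    · exact ⟨_, xor_lt hi hi', _, xor_lt hj hj', Or.inl (h.QQ hi hj hi' hj')⟩
    · refine ⟨_, xor_lt (xor_lt hi hj) hi', _, xor_lt hj hj', Or.inr ?_⟩
      rw [← mul_assoc, h.Qt hi hj, mul_assoc, h.QQ (xor_lt hi hj) hj hi' hj']
    · refine ⟨_, xor_lt hi hi', _, xor_lt hj hj', Or.inr ?_⟩
      rw [mul_assoc, h.QQ hi hj hi' hj']
    · exact ⟨_, xor_lt (xor_lt hi hj) hi', _, xor_lt hj hj', Or.inl (h.tQtQ hi hj hi' hj')⟩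
  one_mem' := ⟨0, by norm_num, 0, by norm_num, Or.inl (by rw [h.eps_zero, h.mu_zero, one_mul])⟩
  inv_mem' := by
    rintro _ ⟨i, hi, j, hj, rfl | rfl⟩
    · refine ⟨i, hi, j, hj, Or.inl (inv_eq_of_mul_eq_one_right ?_)⟩
      rw [h.QQ hi hj hi hj, Nat.xor_self, Nat.xor_self, h.eps_zero, h.mu_zero, one_mul]
    · refine ⟨i ^^^ j, xor_lt hi hj, j, hj, Or.inr (inv_eq_of_mul_eq_one_right ?_)⟩
      rw [h.tQtQ hi hj (xor_lt hi hj) hj, Nat.xor_self, Nat.xor_self, h.eps_zero, h.mu_zero, one_mul]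

theorem mem_R_eps (h : UHyp t ε s N u) {i : ℕ} (hi : i < 16) : ε i ∈ h.R :=
  ⟨i, hi, 0, by norm_num, Or.inl (by rw [h.mu_zero, mul_one])⟩

theorem mem_R_mu (h : UHyp t ε s N u) {i : ℕ} (hi : i < 16) : mu s u i ∈ h.R :=
  ⟨0, by norm_num, i, hi, Or.inl (by rw [h.eps_zero, one_mul])⟩

theorem mem_R_t (h : UHyp t ε s N u) : t ∈ h.R :=
  ⟨0, by norm_num, 0, by norm_num, Or.inr (by rw [h.eps_zero, h.mu_zero, one_mul, mul_one])⟩

theorem R_two (h : UHyp t ε s N u) : IsPGroup 2 h.R := by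
  rintro ⟨_, i, hi, j, hj, rfl | rfl⟩
  · refine ⟨1, Subtype.ext ?_⟩
    change (ε i * mu s u j) ^ 2 ^ 1 = 1
    rw [pow_one, pow_two, h.QQ hi hj hi hj, Nat.xor_self, Nat.xor_self, h.eps_zero, h.mu_zero, one_mul]
  · refine ⟨2, Subtype.ext ?_⟩
    change (t * (ε i * mu s u j)) ^ 2 ^ 2 = 1
    have h1 : (t * (ε i * mu s u j)) ^ 2 = ε j := by
      rw [pow_two, h.tQtQ hi hj hi hj, Nat.xor_self, h.mu_zero, mul_one, Nat.xor_comm i j, Nat.xor_assoc,
        Nat.xor_self, Nat.xor_zero]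
    rw [show (2 : ℕ) ^ 2 = 2 * 2 by norm_num, pow_mul, h1, pow_two, h.sq hj]

/-- the generators normalize `R` -/
theorem s_R (h : UHyp t ε s N u) {k : ℕ} (hk : k < 5) {y : H} (hy : y ∈ h.R) : s k * y * (s k)⁻¹ ∈ h.R := by
  have e : ∀ i < 16, ∀ j < 16, s k * (ε i * mu s u j) * (s k)⁻¹ = ε (gm k i) * mu s u (gm k j) := by
    intro i hi j hj
    rw [mul_inv_eq_iff_eq_mul, ← mul_assoc, h.sε k hk i hi, mul_assoc, h.s_mu hk hj, mul_assoc]
  obtain ⟨i, hi, j, hj, rfl | rfl⟩ := hy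
  · exact ⟨_, gm_lt _ _, _, gm_lt _ _, Or.inl (e i hi j hj)⟩
  · refine ⟨_, gm_lt k i, _, gm_lt k j, Or.inr ?_⟩
    rw [← e i hi j hj, ← mul_assoc (s k), ← h.Nt _ (h.sN k hk)]
    simp only [mul_assoc]

theorem mu_inj (h : UHyp t ε s N u) {i j : ℕ} (hi : i < 16) (hj : j < 16) (e : ε i * mu s u j = 1) :
    i = 0 ∧ j = 0 := by
  have h1 := h.Qt hi hj
  rw [e, one_mul, ← h.mul i hi j hj, h.comm hi hj, mul_assoc, e, mul_one] at h1
  have h2 : ε j = 1 := by simpa using h1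
  have hj0 := h.inj j hj h2
  rw [hj0, h.mu_zero, mul_one] at e
  exact ⟨h.inj i hi e, hj0⟩

end UHyp

namespace EPre

variable {G : Type*} [Group G] [Finite G] {t : G} {ε s : ℕ → G} {N : Subgroup G}

open scoped Classical in
/-- the map `N(F) → N(F) / O(C(F))`, extended by `1` -/
noncomputable def p (H : EPre t ε s N) (x : G) : H.NF ⧸ H.O :=
  if h : x ∈ H.NF then QuotientGroup.mk ⟨x, h⟩ else 1

section

variable (H : EPre t ε s N)
include H

theorem p_of {x : G} (hx : x ∈ H.NF) : H.p x = QuotientGroup.mk ⟨x, hx⟩ := dif_pos hx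

theorem p_mul {x y : G} (hx : x ∈ H.NF) (hy : y ∈ H.NF) : H.p (x * y) = H.p x * H.p y := by
  rw [H.p_of hx, H.p_of hy, H.p_of (H.NF.mul_mem hx hy)]
  rfl

theorem p_one : H.p 1 = 1 := by
  rw [H.p_of H.NF.one_mem]
  rfl

theorem p_eq_one {x : G} (hx : x ∈ H.NF) : H.p x = 1 ↔ x ∈ H.C ∧ x ^ H.m = 1 := by
  rw [H.p_of hx, QuotientGroup.eq_one_iff]
  exact H.mem_O

theorem p_surj (h : H.NF ⧸ H.O) : ∃ x ∈ H.NF, H.p x = h := by
  induction h using QuotientGroup.induction_on with | _ x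
  exact ⟨x, x.2, by rw [H.p_of x.2]⟩

theorem p_inj {x y : G} (hx : x ∈ H.F) (hy : y ∈ H.F) (h : H.p x = H.p y) : x = y := by
  have hyi := H.F.inv_mem hy
  have h1 : H.p (x * y⁻¹) = 1 := by
    have h2 : H.p y * H.p y⁻¹ = 1 := by
      rw [← H.p_mul (H.F_le_NF hy) (H.F_le_NF hyi), mul_inv_cancel, H.p_one]
    rw [H.p_mul (H.F_le_NF hx) (H.F_le_NF hyi), h, h2]
  have h2 := (H.p_eq_one (H.F_le_NF (H.F.mul_mem hx hyi))).1 h1
  exact mul_inv_eq_one.1 (H.F_inf (H.F.mul_mem hx hyi) h2.2)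

theorem t_mem_NF : t ∈ H.NF := H.F_le_NF H.t_mem

theorem eps_mem_F {i : ℕ} (hi : i < 16) : ε i ∈ H.F := ⟨i, hi, Or.inl rfl⟩

theorem eps_mem_NF {i : ℕ} (hi : i < 16) : ε i ∈ H.NF := H.F_le_NF (H.eps_mem_F hi)

/-- an element of `N(F)` commuting modulo `O(C(F))` with an element of `F` commutes with it -/
theorem comm_of_p {x y : G} (hx : x ∈ H.NF) (hy : y ∈ H.F) (h : H.p x * H.p y = H.p y * H.p x) :
    x * y = y * x := by
  have h1 := H.mem_NF.1 hx y hy
  have h2 : H.p (x * y * x⁻¹) = H.p y := by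
    have h3 : H.p (x * y * x⁻¹) * H.p x = H.p y * H.p x := by
      rw [← H.p_mul (H.F_le_NF h1) hx, inv_mul_cancel_right, H.p_mul hx (H.F_le_NF hy), h]
    exact mul_right_cancel h3
  have h3 := H.p_inj h1 hy h2
  rwa [mul_inv_eq_iff_eq_mul] at h3

theorem qhyp (hx0 : ∃ x, (∀ i < 16, ∃ j < 16, x * ε i * x⁻¹ = ε j) ∧
    ∃ k < 16, k ≠ 0 ∧ x * t * x⁻¹ = t * ε k) :
    QHyp (H.p t) (fun i => H.p (ε i)) (fun i => H.p (s i)) ((N.subgroupOf H.NF).map (QuotientGroup.mk' H.O)) where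
  tt := by rw [← H.p_mul H.t_mem_NF H.t_mem_NF, H.tt, H.p_one]
  mul i hi j hj := by
    rw [← H.p_mul (H.eps_mem_NF hi) (H.eps_mem_NF hj), H.mul i hi j hj]
  inj i hi h := by
    change H.p (ε i) = 1 at h
    rw [← H.p_one] at h
    exact H.inj i hi (H.p_inj (H.eps_mem_F hi) H.F.one_mem h)
  tε i hi := by
    rw [← H.p_mul H.t_mem_NF (H.eps_mem_NF hi), H.tε i hi, H.p_mul (H.eps_mem_NF hi) H.t_mem_NF]
  εN i hi := ⟨⟨ε i, H.eps_mem_NF hi⟩, Subgroup.mem_subgroupOf.2 (H.εN i hi), (H.p_of _).symm⟩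
  sN k hk := ⟨⟨s k, H.s_mem hk⟩, Subgroup.mem_subgroupOf.2 (H.sN k hk), (H.p_of _).symm⟩
  tN := by
    rintro ⟨n, hn, h⟩
    have h0 : (n : G) ∈ N := Subgroup.mem_subgroupOf.1 hn
    have h1 : H.p (n : G) = H.p t := by rw [H.p_of n.2]; exact h
    have hti : t⁻¹ = t := inv_eq_of_mul_eq_one_left H.tt
    have h2 : H.p (t⁻¹ * n) = 1 := by
      rw [hti, H.p_mul H.t_mem_NF n.2, h1, ← H.p_mul H.t_mem_NF H.t_mem_NF, H.tt, H.p_one]
    have h3 := (H.p_eq_one (H.NF.mul_mem (H.NF.inv_mem H.t_mem_NF) n.2)).1 h2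
    apply H.tN
    have h4 : t * n = n * t := H.Nt _ h0
    have h5 : (n : G) ^ H.m = t := by
      have h6 : (n : G) = t * (t⁻¹ * n) := by group
      have h7 : Commute t (t⁻¹ * n) := by
        change t * (t⁻¹ * n) = t⁻¹ * n * t
        rw [mul_inv_cancel_left, mul_assoc, ← h4, inv_mul_cancel_left]
      rw [h6, h7.mul_pow, h3.2, mul_one, H.pow_m_F H.t_mem]
    rw [← h5]
    exact N.pow_mem h0 _
  Nt := by
    rintro _ ⟨n, hn, rfl⟩
    have h0 : (n : G) ∈ N := Subgroup.mem_subgroupOf.1 hn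
    have h1 : QuotientGroup.mk' H.O n = H.p (n : G) := (H.p_of n.2).symm
    rw [h1, ← H.p_mul H.t_mem_NF n.2, H.Nt _ h0, H.p_mul n.2 H.t_mem_NF]
  sε k hk i hi := by
    rw [← H.p_mul (H.s_mem hk) (H.eps_mem_NF hi), H.sε k hk i hi,
      H.p_mul (H.eps_mem_NF (gm_lt _ _)) (H.s_mem hk)]
  cen h h1 h2 := by
    obtain ⟨x, hx, rfl⟩ := H.p_surj h
    have hxC : x ∈ H.C := H.mem_C.2 ⟨(H.comm_of_p hx H.t_mem h1.symm).symm,
      fun i hi => H.comm_of_p hx (H.eps_mem_F hi) (h2 i hi)⟩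
    obtain ⟨f, hf, o, hoC, ho, rfl⟩ := H.exists_dec hxC
    have h3 : H.p (f * o) = H.p f := by
      rw [H.p_mul (H.F_le_NF hf) (H.C_le_NF hoC), (H.p_eq_one (H.C_le_NF hoC)).2 ⟨hoC, ho⟩, mul_one]
    obtain ⟨i, hi, rfl | rfl⟩ := hf
    · exact ⟨i, hi, Or.inl h3⟩
    · refine ⟨i, hi, Or.inr ?_⟩
      rw [h3, H.p_mul H.t_mem_NF (H.eps_mem_NF hi)]
  x0 := by
    obtain ⟨x, hx, h1, k, hk, hk0, h2⟩ := H.exists_centE hx0
    refine ⟨H.p x, fun i hi => ?_, k, hk, hk0, ?_⟩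
    · rw [← H.p_mul hx (H.eps_mem_NF hi), h1 i hi, H.p_mul (H.eps_mem_NF hi) hx]
    · rw [mul_inv_eq_iff_eq_mul] at h2
      rw [← H.p_mul hx H.t_mem_NF, h2, H.p_mul (H.NF.mul_mem H.t_mem_NF (H.eps_mem_NF hk)) hx,
        H.p_mul H.t_mem_NF (H.eps_mem_NF hk)]

/-- **Lemma Q**, group part -/
theorem exists_mu (hx0 : ∃ x, (∀ i < 16, ∃ j < 16, x * ε i * x⁻¹ = ε j) ∧
    ∃ k < 16, k ≠ 0 ∧ x * t * x⁻¹ = t * ε k) :
    ∃ μ s' : ℕ → G, (∀ k < 5, ∃ o ∈ H.C, o ^ H.m = 1 ∧ s' k = o * s k) ∧ (∀ i < 16, μ i ∈ H.NF) ∧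
      (∀ i < 16, ∀ j < 16, μ i * μ j = μ (i ^^^ j)) ∧
      (∀ i < 16, ∀ j < 16, ε i * μ j = μ j * ε i) ∧
      (∀ i < 16, ∀ j < 16, ε i * μ j = 1 → i = 0 ∧ j = 0) ∧
      (∀ i < 16, t * μ i = μ i * ε i * t) ∧
      (∀ k < 5, ∀ i < 16, s' k * μ i = μ (gm k i) * s' k) := by
  have hq := H.qhyp hx0
  obtain ⟨u, h1, h2, h3, h4, h5⟩ := hq.exists_u
  have h : UHyp (H.p t) (fun i => H.p (ε i)) (fun i => H.p (s i))
    ((N.subgroupOf H.NF).map (QuotientGroup.mk' H.O)) u := ⟨hq, h1, h2, h3, h4, h5⟩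
  obtain ⟨P, hP2, hFP, hPR, hRP, hPi, hPg⟩ := exists_two_lift (QuotientGroup.mk' H.O)
    (QuotientGroup.mk'_surjective _) (by
      intro x hx
      rw [QuotientGroup.mk'_apply, QuotientGroup.eq_one_iff] at hx
      have := (H.mem_O.1 hx).2
      have h6 : x ^ H.m = 1 := Subtype.ext (by simpa only [_root_.SubmonoidClass.coe_pow, _root_.OneMemClass.coe_one] using this)
      exact H.m_odd.of_dvd_nat (orderOf_dvd_of_pow_eq_one h6)) h.R h.R_two (H.F.subgroupOf H.NF) (by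
      rintro ⟨x, hx⟩
      refine ⟨1, Subtype.ext (Subtype.ext ?_)⟩
      change (x : G) ^ 2 ^ 1 = 1
      rw [pow_one, pow_two]
      exact H.F_sq (Subgroup.mem_subgroupOf.1 hx)) (by
      intro x hx
      have e : QuotientGroup.mk' H.O x = H.p (x : G) := (H.p_of x.2).symm
      rw [e]
      obtain ⟨i, hi, h6 | h6⟩ := Subgroup.mem_subgroupOf.1 hx
      · rw [h6]
        exact h.mem_R_eps hi
      · rw [h6, H.p_mul H.t_mem_NF (H.eps_mem_NF hi)]
        exact h.R.mul_mem h.mem_R_t (h.mem_R_eps hi))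
  have hπ : ∀ x : H.NF, QuotientGroup.mk' H.O x = H.p (x : G) := fun x => (H.p_of x.2).symm
  -- lifts
  have hL : ∀ r ∈ h.R, ∃ x : G, x ∈ P.map H.NF.subtype ∧ H.p x = r := by
    intro r hr
    obtain ⟨x, hx, h6⟩ := hRP r hr
    exact ⟨x, ⟨x, hx, rfl⟩, by rw [← hπ, h6]⟩
  have hI : ∀ x ∈ P.map H.NF.subtype, ∀ y ∈ P.map H.NF.subtype, H.p x = H.p y → x = y := by
    rintro _ ⟨x, hx, rfl⟩ _ ⟨y, hy, rfl⟩ h6
    have h7 := hPi x hx y hy (by rw [hπ, hπ]; exact h6)
    rw [h7]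
  have hNF : ∀ x ∈ P.map H.NF.subtype, x ∈ H.NF := by
    rintro _ ⟨x, hx, rfl⟩
    exact x.2
  have hG : ∀ k < 5, ∃ o, (o ∈ H.C ∧ o ^ H.m = 1) ∧
      ∀ x ∈ P.map H.NF.subtype, (o * s k) * x * (o * s k)⁻¹ ∈ P.map H.NF.subtype := by
    intro k hk
    obtain ⟨o, ho, h6⟩ := hPg ⟨s k, H.s_mem hk⟩ (by
      rw [hπ]
      exact fun r hr => h.s_R hk hr)
    refine ⟨o, ?_, ?_⟩
    · rw [← H.p_eq_one o.2, ← hπ, ho]
    · rintro _ ⟨x, hx, rfl⟩
      exact ⟨_, h6 x hx, rfl⟩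
  have hFP₁ : ∀ x ∈ H.F, x ∈ P.map H.NF.subtype := by
    intro x hx
    exact ⟨⟨x, H.F_le_NF hx⟩, hFP (Subgroup.mem_subgroupOf.2 hx), rfl⟩
  have hεP : ∀ i < 16, ε i ∈ P.map H.NF.subtype := fun i hi => hFP₁ _ (H.eps_mem_F hi)
  have htP : t ∈ P.map H.NF.subtype := hFP₁ _ H.t_mem
  clear hFP₁ hFP hPR hRP hPi hPg
  generalize P.map H.NF.subtype = P₁ at *
  choose! μ hμP hμ using fun i (hi : i < 16) => hL _ (h.mem_R_mu hi)
  choose! o hoC ho using hG
  have hoNF : ∀ k < 5, o k ∈ H.NF := fun k hk => H.C_le_NF (hoC k hk).1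
  have hos : ∀ k < 5, H.p (o k * s k) = H.p (s k) := by
    intro k hk
    rw [H.p_mul (hoNF k hk) (H.s_mem hk), (H.p_eq_one (hoNF k hk)).2 (hoC k hk), one_mul]
  refine ⟨μ, fun k => o k * s k, fun k hk => ⟨o k, (hoC k hk).1, (hoC k hk).2, rfl⟩,
    fun i hi => hNF _ (hμP i hi), ?_, ?_, ?_, ?_, ?_⟩
  · intro i hi j hj
    apply hI _ (P₁.mul_mem (hμP i hi) (hμP j hj)) _ (hμP _ (xor_lt hi hj))
    rw [H.p_mul (hNF _ (hμP i hi)) (hNF _ (hμP j hj)), hμ i hi, hμ j hj, hμ _ (xor_lt hi hj), h.mu_mul hi hj]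
  · intro i hi j hj
    apply hI _ (P₁.mul_mem (hεP i hi) (hμP j hj)) _ (P₁.mul_mem (hμP j hj) (hεP i hi))
    rw [H.p_mul (hNF _ (hεP i hi)) (hNF _ (hμP j hj)), H.p_mul (hNF _ (hμP j hj)) (hNF _ (hεP i hi)), hμ j hj]
    exact (h.mu_eps hj hi).symm
  · intro i hi j hj h6
    apply h.mu_inj hi hj
    rw [← hμ j hj, ← H.p_mul (hNF _ (hεP i hi)) (hNF _ (hμP j hj)), h6, H.p_one]
  · intro i hi
    have h6 := P₁.mul_mem (hμP i hi) (hεP i hi)
    apply hI _ (P₁.mul_mem htP (hμP i hi)) _ (P₁.mul_mem h6 htP)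
    rw [H.p_mul (hNF _ htP) (hNF _ (hμP i hi)), H.p_mul (hNF _ h6) (hNF _ htP),
      H.p_mul (hNF _ (hμP i hi)) (hNF _ (hεP i hi)), hμ i hi]
    have h7 := h.mu_t hi
    have h8 := h.mu_eps hi hi
    have h9 := h.tε i hi
    calc H.p t * mu (fun i => H.p (s i)) u i
        = H.p t * mu (fun i => H.p (s i)) u i * H.p t * H.p t := by
          rw [mul_assoc _ (H.p t) (H.p t), h.tt, mul_one]
      _ = H.p t * (mu (fun i => H.p (s i)) u i * H.p t) * H.p t := by simp only [mul_assoc]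
      _ = H.p t * (H.p t * H.p (ε i) * mu (fun i => H.p (s i)) u i) * H.p t := by rw [h7]
      _ = (H.p t * H.p t) * (H.p (ε i) * mu (fun i => H.p (s i)) u i) * H.p t := by simp only [mul_assoc]
      _ = mu (fun i => H.p (s i)) u i * H.p (ε i) * H.p t := by rw [h.tt, one_mul, h8]
  · intro k hk i hi
    have h6 := ho k hk _ (hμP i hi)
    have h7 : (o k * s k) * μ i * (o k * s k)⁻¹ = μ (gm k i) := by
      apply hI _ h6 _ (hμP _ (gm_lt _ _))
      have hosk : o k * s k ∈ H.NF := H.NF.mul_mem (hoNF k hk) (H.s_mem hk)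
      have h8 : H.p ((o k * s k) * μ i * (o k * s k)⁻¹) * H.p (o k * s k) =
          H.p (μ (gm k i)) * H.p (o k * s k) := by
        rw [← H.p_mul (hNF _ h6) hosk, inv_mul_cancel_right, H.p_mul hosk (hNF _ (hμP i hi)), hos k hk, hμ i hi,
          hμ _ (gm_lt _ _)]
        exact h.s_mu hk hi
      exact mul_right_cancel h8
    rwa [mul_inv_eq_iff_eq_mul] at h7

end

end EPre

end Cfsg.Agent.TypeM
end

-- part: TypeM/LemQF
section
/-!
# Lemma Q: `EConf` implies `QConf`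
-/

set_option autoImplicit false
set_option linter.unusedSectionVars false

namespace Cfsg.Agent.TypeM

/-- part of `QConf` -/
structure QPre {G : Type*} [Group G] (t : G) (ε μ : ℕ → G) : Prop where
  tt : t * t = 1
  εmul : ∀ i < 16, ∀ j < 16, ε i * ε j = ε (i ^^^ j)
  μmul : ∀ i < 16, ∀ j < 16, μ i * μ j = μ (i ^^^ j)
  εμ : ∀ i < 16, ∀ j < 16, ε i * μ j = μ j * ε i
  inj : ∀ i < 16, ∀ j < 16, ε i * μ j = 1 → i = 0 ∧ j = 0
  tε : ∀ i < 16, t * ε i = ε i * t
  tμ : ∀ i < 16, t * μ i = μ i * ε i * t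
  cenF : ∀ x, TwoElt x → t * x = x * t → (∀ i < 16, x * ε i = ε i * x) →
    ∃ i < 16, x = ε i ∨ x = t * ε i

namespace QPre

variable {G : Type*} [Group G] {t : G} {ε μ : ℕ → G} (h : QPre t ε μ)
include h

theorem ε0 : ε 0 = 1 := by
  have := h.εmul 0 (by norm_num) 0 (by norm_num)
  simpa using this

theorem μ0 : μ 0 = 1 := by
  have := h.μmul 0 (by norm_num) 0 (by norm_num)
  simpa using this

theorem εsq {i : ℕ} (hi : i < 16) : ε i * ε i = 1 := by rw [h.εmul i hi i hi, Nat.xor_self, h.ε0]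

theorem μt {i : ℕ} (hi : i < 16) : μ i * t = t * (ε i * μ i) := by
  have h1 := h.tμ i hi
  calc μ i * t = (t * t) * (μ i * t) := by rw [h.tt, one_mul]
    _ = t * (t * μ i) * t := by simp only [mul_assoc]
    _ = t * (μ i * ε i * t) * t := by rw [h1]
    _ = t * (μ i * ε i) * (t * t) := by simp only [mul_assoc]
    _ = _ := by rw [h.tt, mul_one, h.εμ i hi i hi]

theorem QQ {i j i' j' : ℕ} (hi : i < 16) (hj : j < 16) (hi' : i' < 16) (hj' : j' < 16) :
    (ε i * μ j) * (ε i' * μ j') = ε (i ^^^ i') * μ (j ^^^ j') := by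
  rw [← h.εmul i hi i' hi', ← h.μmul j hj j' hj', mul_assoc, ← mul_assoc (μ j), ← h.εμ i' hi' j hj]
  simp only [mul_assoc]

theorem Qt {i j : ℕ} (hi : i < 16) (hj : j < 16) : (ε i * μ j) * t = t * (ε (i ^^^ j) * μ j) := by
  rw [mul_assoc, h.μt hj, ← mul_assoc, ← h.tε i hi, mul_assoc t, ← mul_assoc (ε i), h.εmul i hi j hj]

theorem tQtQ {i j i' j' : ℕ} (hi : i < 16) (hj : j < 16) (hi' : i' < 16)
    (hj' : j' < 16) : (t * (ε i * μ j)) * (t * (ε i' * μ j')) = ε (i ^^^ j ^^^ i') * μ (j ^^^ j') := by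
  calc (t * (ε i * μ j)) * (t * (ε i' * μ j'))
      = t * ((ε i * μ j) * t) * (ε i' * μ j') := by simp only [mul_assoc]
    _ = t * (t * (ε (i ^^^ j) * μ j)) * (ε i' * μ j') := by rw [h.Qt hi hj]
    _ = (t * t) * ((ε (i ^^^ j) * μ j) * (ε i' * μ j')) := by simp only [mul_assoc]
    _ = _ := by rw [h.tt, one_mul, h.QQ (xor_lt hi hj) hj hi' hj']

/-- the group `⟨t⟩ Q` -/
def R (h : QPre t ε μ) : Subgroup G where
  carrier := {y | ∃ i < 16, ∃ j < 16, y = ε i * μ j ∨ y = t * (ε i * μ j)}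
  mul_mem' := by
    rintro _ _ ⟨i, hi, j, hj, rfl | rfl⟩ ⟨i', hi', j', hj', rfl | rfl⟩
    · exact ⟨_, xor_lt hi hi', _, xor_lt hj hj', Or.inl (h.QQ hi hj hi' hj')⟩
    · refine ⟨_, xor_lt (xor_lt hi hj) hi', _, xor_lt hj hj', Or.inr ?_⟩
      rw [← mul_assoc, h.Qt hi hj, mul_assoc, h.QQ (xor_lt hi hj) hj hi' hj']
    · refine ⟨_, xor_lt hi hi', _, xor_lt hj hj', Or.inr ?_⟩
      rw [mul_assoc, h.QQ hi hj hi' hj']
    · exact ⟨_, xor_lt (xor_lt hi hj) hi', _, xor_lt hj hj', Or.inl (h.tQtQ hi hj hi' hj')⟩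
  one_mem' := ⟨0, by norm_num, 0, by norm_num, Or.inl (by rw [h.ε0, h.μ0, one_mul])⟩
  inv_mem' := by
    rintro _ ⟨i, hi, j, hj, rfl | rfl⟩
    · refine ⟨i, hi, j, hj, Or.inl (inv_eq_of_mul_eq_one_right ?_)⟩
      rw [h.QQ hi hj hi hj, Nat.xor_self, Nat.xor_self, h.ε0, h.μ0, one_mul]
    · refine ⟨i ^^^ j, xor_lt hi hj, j, hj, Or.inr (inv_eq_of_mul_eq_one_right ?_)⟩
      rw [h.tQtQ hi hj (xor_lt hi hj) hj, Nat.xor_self, Nat.xor_self, h.ε0, h.μ0, one_mul]

theorem mem_R_eps {i : ℕ} (hi : i < 16) : ε i ∈ h.R :=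
  ⟨i, hi, 0, by norm_num, Or.inl (by rw [h.μ0, mul_one])⟩

theorem mem_R_mu {i : ℕ} (hi : i < 16) : μ i ∈ h.R :=
  ⟨0, by norm_num, i, hi, Or.inl (by rw [h.ε0, one_mul])⟩

theorem mem_R_t : t ∈ h.R :=
  ⟨0, by norm_num, 0, by norm_num, Or.inr (by rw [h.ε0, h.μ0, one_mul, mul_one])⟩

theorem Qsq {i j : ℕ} (hi : i < 16) (hj : j < 16) : (ε i * μ j) * (ε i * μ j) = 1 := by
  rw [h.QQ hi hj hi hj, Nat.xor_self, Nat.xor_self, h.ε0, h.μ0, one_mul]

theorem tQsq {i j : ℕ} (hi : i < 16) (hj : j < 16) : (t * (ε i * μ j)) * (t * (ε i * μ j)) = ε j := by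
  rw [h.tQtQ hi hj hi hj, Nat.xor_self, h.μ0, mul_one, Nat.xor_comm i j, Nat.xor_assoc,
    Nat.xor_self, Nat.xor_zero]

theorem R_two : IsPGroup 2 h.R := by
  rintro ⟨_, i, hi, j, hj, rfl | rfl⟩
  · refine ⟨1, Subtype.ext ?_⟩
    change (ε i * μ j) ^ 2 ^ 1 = 1
    rw [pow_one, pow_two, h.Qsq hi hj]
  · refine ⟨2, Subtype.ext ?_⟩
    change (t * (ε i * μ j)) ^ 2 ^ 2 = 1
    have h1 : (t * (ε i * μ j)) ^ 2 = ε j := by rw [pow_two, h.tQsq hi hj]
    rw [show (2 : ℕ) ^ 2 = 2 * 2 by norm_num, pow_mul, h1, pow_two, h.εsq hj]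

/-- `C(E) ∩ N(⟨t⟩ Q)`-like group: centralizer of `Q` extended by `t` -/
def K (h : QPre t ε μ) : Subgroup G where
  carrier := {g | (∀ i < 16, g * ε i = ε i * g) ∧
    ((∀ j < 16, g * μ j = μ j * g) ∨ (∀ j < 16, g * μ j = ε j * μ j * g))}
  mul_mem' := by
    rintro g g' ⟨h1, h2⟩ ⟨h1', h2'⟩
    refine ⟨fun i hi => by rw [mul_assoc, h1' i hi, ← mul_assoc, h1 i hi, mul_assoc], ?_⟩
    rcases h2 with h2 | h2 <;> rcases h2' with h2' | h2'
    · left; intro j hj
      rw [mul_assoc, h2' j hj, ← mul_assoc, h2 j hj, mul_assoc]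
    · right; intro j hj
      rw [mul_assoc, h2' j hj, ← mul_assoc, ← mul_assoc, h1 j hj, mul_assoc (ε j), h2 j hj]
      simp only [mul_assoc]
    · right; intro j hj
      rw [mul_assoc, h2' j hj, ← mul_assoc, h2 j hj]
      simp only [mul_assoc]
    · left; intro j hj
      rw [mul_assoc, h2' j hj, ← mul_assoc, ← mul_assoc, h1 j hj, mul_assoc (ε j), h2 j hj, ← mul_assoc,
        ← mul_assoc, h.εsq hj, one_mul, mul_assoc]
  one_mem' := ⟨fun i _ => by rw [one_mul, mul_one], Or.inl fun j _ => by rw [one_mul, mul_one]⟩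
  inv_mem' := by
    rintro g ⟨h1, h2⟩
    have h3 : ∀ i < 16, g⁻¹ * ε i = ε i * g⁻¹ := fun i hi => by
      rw [inv_mul_eq_iff_eq_mul, ← mul_assoc, h1 i hi, mul_inv_cancel_right]
    refine ⟨h3, ?_⟩
    rcases h2 with h2 | h2
    · left; intro j hj
      rw [inv_mul_eq_iff_eq_mul, ← mul_assoc, h2 j hj, mul_inv_cancel_right]
    · right; intro j hj
      rw [inv_mul_eq_iff_eq_mul, ← mul_assoc, ← mul_assoc, h1 j hj, mul_assoc (ε j), h2 j hj, ← mul_assoc,
        ← mul_assoc, h.εsq hj, one_mul, mul_inv_cancel_right]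

theorem t_mem_K : t ∈ h.K := ⟨h.tε, Or.inr fun j hj => by rw [h.tμ j hj, h.εμ j hj j hj]⟩

theorem ε_mem_K {i : ℕ} (hi : i < 16) : ε i ∈ h.K :=
  ⟨fun j hj => by rw [h.εmul i hi j hj, h.εmul j hj i hi, Nat.xor_comm], Or.inl fun j hj => h.εμ i hi j hj⟩

theorem μ_mem_K {i : ℕ} (hi : i < 16) : μ i ∈ h.K :=
  ⟨fun j hj => (h.εμ j hj i hi).symm, Or.inl fun j hj => by rw [h.μmul i hi j hj, h.μmul j hj i hi, Nat.xor_comm]⟩

theorem R_le_K : h.R ≤ h.K := by
  rintro _ ⟨i, hi, j, hj, rfl | rfl⟩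
  · exact h.K.mul_mem (h.ε_mem_K hi) (h.μ_mem_K hj)
  · exact h.K.mul_mem h.t_mem_K (h.K.mul_mem (h.ε_mem_K hi) (h.μ_mem_K hj))

/-- 2-elements of `K` normalizing `⟨t⟩Q` lie in `⟨t⟩Q` -/
theorem mem_R_of {g : G} (hg : g ∈ h.K) (h2 : ∃ T : Subgroup G, IsPGroup 2 T ∧ h.R ≤ T ∧ g ∈ T)
    (hn : ∀ r ∈ h.R, g * r * g⁻¹ ∈ h.R) : g ∈ h.R := by
  obtain ⟨T, hT, hRT, hgT⟩ := h2
  have h3 : (g * t * g⁻¹) * (g * t * g⁻¹) = 1 := by
    have : (g * t * g⁻¹) * (g * t * g⁻¹) = g * (t * t) * g⁻¹ := by group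
    rw [this, h.tt]; group
  -- `g t g⁻¹ = t ε i`
  obtain ⟨i, hi, h4⟩ : ∃ i < 16, g * t * g⁻¹ = t * ε i := by
    obtain ⟨i, hi, j, hj, h4 | h4⟩ := hn t h.mem_R_t
    · exfalso
      -- then `t ∈ Q`
      have h5 : t = g⁻¹ * (ε i * μ j) * g := by rw [← h4]; group
      have h6 : ∀ k < 16, (g * t * g⁻¹) * μ k = μ k * (g * t * g⁻¹) := by
        intro k hk
        rw [h4, mul_assoc, h.μmul j hj k hk, Nat.xor_comm, ← h.μmul k hk j hj, ← mul_assoc, h.εμ i hi k hk,
          mul_assoc]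
      have h7 : g * t * g⁻¹ ∈ h.K := h.K.mul_mem (h.K.mul_mem hg h.t_mem_K) (h.K.inv_mem hg)
      have h8 : t * μ 1 = μ 1 * t := by
        have h9 := h6 1 (by norm_num)
        rcases hg.2 with h10 | h10
        · have h11 := h10 1 (by norm_num)
          calc t * μ 1 = g⁻¹ * ((g * t * g⁻¹) * (g * μ 1)) := by group
            _ = g⁻¹ * ((g * t * g⁻¹) * μ 1 * g) := by rw [h11]; group
            _ = g⁻¹ * (μ 1 * (g * t * g⁻¹) * g) := by rw [h9]
            _ = g⁻¹ * (μ 1 * g) * t := by group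
            _ = μ 1 * t := by rw [← h11]; group
        · have h11 := h10 1 (by norm_num)
          have h12 : g⁻¹ * (ε 1 * μ 1) * g = μ 1 := by
            rw [mul_assoc, ← h11]; group
          have h13 : (g * t * g⁻¹) * ε 1 = ε 1 * (g * t * g⁻¹) := by
            rw [h4, mul_assoc, ← h.εμ 1 (by norm_num) j hj, ← mul_assoc, ← mul_assoc, h.εmul i hi 1 (by norm_num),
              h.εmul 1 (by norm_num) i hi, Nat.xor_comm]
          calc t * μ 1 = g⁻¹ * ((g * t * g⁻¹) * (g * μ 1)) := by group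
            _ = g⁻¹ * ((g * t * g⁻¹) * ε 1 * μ 1 * g) := by rw [h11]; group
            _ = g⁻¹ * (ε 1 * (g * t * g⁻¹) * μ 1 * g) := by rw [h13]
            _ = g⁻¹ * (ε 1 * ((g * t * g⁻¹) * μ 1) * g) := by group
            _ = g⁻¹ * (ε 1 * (μ 1 * (g * t * g⁻¹)) * g) := by rw [h9]
            _ = (g⁻¹ * (ε 1 * μ 1) * g) * t := by group
            _ = μ 1 * t := by rw [h12]
      have h9 := h.tμ 1 (by norm_num)
      rw [h8, mul_left_inj] at h9
      have h10 : ε 1 * μ 0 = 1 := by rw [h.μ0, mul_one]; simpa using h9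
      exact absurd (h.inj 1 (by norm_num) 0 (by norm_num) h10).1 (by norm_num)
    · rw [h4, h.tQsq hi hj] at h3
      have h5 := h.inj j hj 0 (by norm_num) (by rw [h.μ0, mul_one, h3])
      rw [h5.1, h.μ0, mul_one] at h4
      exact ⟨i, hi, h4⟩
  -- `g' = μ i g` commutes with `t`
  have h5 : t * (μ i * g) = (μ i * g) * t := by
    rw [mul_inv_eq_iff_eq_mul] at h4
    symm
    calc (μ i * g) * t = μ i * (g * t) := mul_assoc _ _ _
      _ = (μ i * t) * (ε i * g) := by rw [h4]; simp only [mul_assoc]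
      _ = t * ((μ i * ε i) * (ε i * g)) := by rw [h.μt hi, h.εμ i hi i hi, mul_assoc]
      _ = t * (μ i * ((ε i * ε i) * g)) := by simp only [mul_assoc]
      _ = t * (μ i * g) := by rw [h.εsq hi, one_mul]
  have h6 : ∀ j < 16, (μ i * g) * ε j = ε j * (μ i * g) := fun j hj => by
    rw [mul_assoc, hg.1 j hj, ← mul_assoc, ← h.εμ j hj i hi, mul_assoc]
  have h7 : TwoElt (μ i * g) := by
    obtain ⟨n, hn⟩ := hT ⟨μ i * g, T.mul_mem (hRT (h.mem_R_mu hi)) hgT⟩
    exact ⟨n, congrArg Subtype.val hn⟩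
  have h8 : μ i * g ∈ h.R := by
    obtain ⟨k, hk, h9 | h9⟩ := h.cenF _ h7 h5 h6
    · rw [h9]; exact h.mem_R_eps hk
    · rw [h9]; exact h.R.mul_mem h.mem_R_t (h.mem_R_eps hk)
  have h9 : g = (μ i)⁻¹ * (μ i * g) := by group
  rw [h9]
  exact h.R.mul_mem (h.R.inv_mem (h.mem_R_mu hi)) h8

/-- 2-elements of `C(Q)` lie in `Q` -/
theorem cenQ [Finite G] {x : G} (hx : TwoElt x) (h1 : ∀ i < 16, x * ε i = ε i * x)
    (h2 : ∀ i < 16, x * μ i = μ i * x) : ∃ i < 16, ∃ j < 16, x = ε i * μ j := by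
  have : Fact (Nat.Prime 2) := ⟨Nat.prime_two⟩
  obtain ⟨T, hT⟩ := (h.R_two.of_equiv (Subgroup.subgroupOfEquivOfLe h.R_le_K).symm).exists_le_sylow
  have hRT : h.R ≤ (T : Subgroup h.K).map h.K.subtype := fun y hy =>
    ⟨⟨y, h.R_le_K hy⟩, hT (Subgroup.mem_subgroupOf.2 hy), rfl⟩
  have hT2 : IsPGroup 2 ((T : Subgroup h.K).map h.K.subtype) := T.2.map _
  -- `T = R`
  have hTR : ∀ y : h.K, y ∈ T → (y : G) ∈ h.R := by
    by_contra hne
    have hlt : (h.R.subgroupOf ((T : Subgroup h.K).map h.K.subtype)) < ⊤ := by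
      rw [lt_top_iff_ne_top]
      intro h3
      apply hne
      intro y hy
      have h4 : (⟨(y : G), ⟨y, hy, rfl⟩⟩ : ((T : Subgroup h.K).map h.K.subtype)) ∈
        (h.R.subgroupOf ((T : Subgroup h.K).map h.K.subtype)) := by rw [h3]; trivial
      exact Subgroup.mem_subgroupOf.1 h4
    have := hT2.isNilpotent
    have hN := Group.normalizerCondition_of_isNilpotent (G := ((T : Subgroup h.K).map h.K.subtype)) _ hlt
    obtain ⟨g, hg, hgn⟩ := SetLike.exists_of_lt hN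
    apply hgn
    rw [Subgroup.mem_subgroupOf]
    refine h.mem_R_of ?_ ⟨_, hT2, hRT, g.2⟩ ?_
    · obtain ⟨y, hy, h3⟩ := g.2
      rw [← h3]
      exact y.2
    · intro r hr
      have h3 := (Subgroup.mem_normalizer_iff.1 hg ⟨r, hRT hr⟩).1 (Subgroup.mem_subgroupOf.2 hr)
      exact Subgroup.mem_subgroupOf.1 h3
  have hxK : x ∈ h.K := ⟨h1, Or.inl h2⟩
  obtain ⟨n, hn⟩ := hx
  have hz : IsPGroup 2 (Subgroup.zpowers (⟨x, hxK⟩ : h.K)) := by
    rintro ⟨_, k, rfl⟩
    refine ⟨n, Subtype.ext ?_⟩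
    have hn' : (⟨x, hxK⟩ : h.K) ^ 2 ^ n = 1 := Subtype.ext (by simpa only [_root_.SubmonoidClass.mk_pow, _root_.OneMemClass.coe_one] using hn)
    change ((⟨x, hxK⟩ : h.K) ^ k) ^ 2 ^ n = 1
    rw [← zpow_natCast, ← zpow_mul, mul_comm, zpow_mul, zpow_natCast, hn', one_zpow]
  obtain ⟨T', hT'⟩ := hz.exists_le_sylow
  obtain ⟨g, hg⟩ := MulAction.exists_smul_eq h.K T T'
  have h3 : (⟨x, hxK⟩ : h.K) ∈ T' := hT' (Subgroup.mem_zpowers _)
  rw [← hg] at h3
  obtain ⟨y, hy, h4⟩ := h3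
  have h5 : (g : G) * y * (g : G)⁻¹ = x := congrArg Subtype.val h4
  have h6 : (g : G) * y = x * g := by rw [← h5]; group
  have hy' := hTR y hy
  have hgμ : ∀ j < 16, (g : G) * μ j * (g : G)⁻¹ = μ j ∨ (g : G) * μ j * (g : G)⁻¹ = ε j * μ j := by
    intro j hj
    rcases g.2.2 with h7 | h7
    · left; rw [mul_inv_eq_iff_eq_mul]; exact h7 j hj
    · right; rw [mul_inv_eq_iff_eq_mul]; exact h7 j hj
  have hgε : ∀ i < 16, (g : G) * ε i * (g : G)⁻¹ = ε i := fun i hi => by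
    rw [mul_inv_eq_iff_eq_mul]; exact g.2.1 i hi
  obtain ⟨i, hi, j, hj, h7 | h7⟩ := hy'
  · rw [h7] at h5
    have h8 : x = ((g : G) * ε i * (g : G)⁻¹) * ((g : G) * μ j * (g : G)⁻¹) := by rw [← h5]; group
    rw [hgε i hi] at h8
    rcases hgμ j hj with h9 | h9
    · exact ⟨i, hi, j, hj, by rw [h8, h9]⟩
    · exact ⟨i ^^^ j, xor_lt hi hj, j, hj, by rw [h8, h9, ← mul_assoc, h.εmul i hi j hj]⟩
  · exfalso
    -- `y` commutes with `μ 1`
    have h8 : x * ((g : G) * μ 1 * (g : G)⁻¹) = ((g : G) * μ 1 * (g : G)⁻¹) * x := by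
      rcases hgμ 1 (by norm_num) with h9 | h9
      · rw [h9]; exact h2 1 (by norm_num)
      · rw [h9, ← mul_assoc, h1 1 (by norm_num), mul_assoc, h2 1 (by norm_num), ← mul_assoc]
    have h9 : (y : G) * μ 1 = μ 1 * y := by
      calc (y : G) * μ 1 = (g : G)⁻¹ * (((g : G) * y * (g : G)⁻¹) * ((g : G) * μ 1 * (g : G)⁻¹)) * g := by group
        _ = (g : G)⁻¹ * (((g : G) * μ 1 * (g : G)⁻¹) * ((g : G) * y * (g : G)⁻¹)) * g := by rw [h5, h8]
        _ = μ 1 * y := by group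
    have h10 : (ε i * μ j) * μ 1 = μ 1 * (ε i * μ j) := by
      rw [mul_assoc, h.μmul j hj 1 (by norm_num), Nat.xor_comm, ← h.μmul 1 (by norm_num) j hj, ← mul_assoc,
        h.εμ i hi 1 (by norm_num), mul_assoc]
    rw [h7, mul_assoc, h10, ← mul_assoc, ← mul_assoc (μ 1), mul_left_inj] at h9
    have h11 := h.tμ 1 (by norm_num)
    rw [h9, mul_left_inj] at h11
    have h12 : ε 1 * μ 0 = 1 := by rw [h.μ0, mul_one]; simpa using h11
    exact absurd (h.inj 1 (by norm_num) 0 (by norm_num) h12).1 (by norm_num)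

end QPre

/-- **Lemma Q**. -/
theorem EPre.exists_qconf {G : Type*} [Group G] [Finite G] {t : G} {ε s : ℕ → G} {N : Subgroup G}
    (H : EPre t ε s N) (hx0 : ∃ x, (∀ i < 16, ∃ j < 16, x * ε i * x⁻¹ = ε j) ∧
      ∃ k < 16, k ≠ 0 ∧ x * t * x⁻¹ = t * ε k) :
    ∃ μ s' : ℕ → G, QConf t ε μ s' ∧ (∀ i < 16, μ i ∈ H.NF) ∧
      ∀ k < 5, ∃ o ∈ H.C, o ^ H.m = 1 ∧ s' k = o * s k := by
  obtain ⟨μ, s', h1, h2, h3, h4, h5, h6, h7⟩ := H.exists_mu hx0
  have hQ : QPre t ε μ := ⟨H.tt, H.mul, h3, h4, h5, H.tε, h6, H.cen⟩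
  refine ⟨μ, s', ⟨H.tt, H.mul, h3, h4, h5, H.tε, h6, ?_, ?_, h7, H.cen, ?_⟩, h2, h1⟩
  · intro k hk
    obtain ⟨o, ho, -, h8⟩ := h1 k hk
    rw [h8, mul_assoc, ← H.Nt _ (H.sN k hk), ← mul_assoc, ← (H.mem_C.1 ho).1, mul_assoc]
  · intro k hk i hi
    obtain ⟨o, ho, -, h8⟩ := h1 k hk
    rw [h8, mul_assoc, H.sε k hk i hi, ← mul_assoc, (H.mem_C.1 ho).2 _ (gm_lt _ _), mul_assoc]
  · intro x hx h8 h9
    exact hQ.cenQ hx h8 h9

/-- Lemma Q for `EConf`. -/
theorem EConf.exists_qconf {G : Type*} [Group G] [Finite G] {t : G} {ε s : ℕ → G} {N : Subgroup G}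
    (H : EConf t ε s N) : ∃ μ s' : ℕ → G, QConf t ε μ s' := by
  have H' : EPre t ε s N := ⟨H.tt, H.mul, H.inj, H.tε, H.εN, H.sN, H.tN, H.Nt, H.sε, H.cen, H.tE⟩
  obtain ⟨μ, s', h, -⟩ := H'.exists_qconf H.x0
  exact ⟨μ, s', h⟩

end Cfsg.Agent.TypeM
end

-- part: TypeM/WThree
section
/-!
# Theorem W, step [W3']

From a configuration `QConf t ε μ s` and an involution `y` acting diagonally by the matrix `gm 0`, with `t y`
conjugate to `t`, an element `a` with `a (t y) a⁻¹ = t` and `a Q a⁻¹ = Q` or `Q'`.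
-/

set_option autoImplicit false

namespace Cfsg.Agent.TypeM.WThree

open Subgroup Cfsg.Agent.TypeM.WThreeAbs

variable {G : Type*} [Group G] {t : G} {ε μ s : ℕ → G}

section

variable (H : QConf t ε μ s)
include H

theorem eps_zero : ε 0 = 1 := by
  have h := H.εmul 0 (by norm_num) 0 (by norm_num)
  simpa using h

theorem mu_zero : μ 0 = 1 := by
  have h := H.μmul 0 (by norm_num) 0 (by norm_num)
  simpa using h

theorem eps_sq {i : ℕ} (hi : i < 16) : ε i * ε i = 1 := by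
  rw [H.εmul i hi i hi, Nat.xor_self, eps_zero H]

theorem mu_sq {i : ℕ} (hi : i < 16) : μ i * μ i = 1 := by
  rw [H.μmul i hi i hi, Nat.xor_self, mu_zero H]

theorem mul_form {i j k l : ℕ} (hi : i < 16) (hj : j < 16) (hk : k < 16) (hl : l < 16) :
    (ε i * μ j) * (ε k * μ l) = ε (i ^^^ k) * μ (j ^^^ l) := by
  rw [← H.εmul i hi k hk, ← H.μmul j hj l hl]
  calc ε i * μ j * (ε k * μ l) = ε i * (μ j * ε k) * μ l := by group
    _ = ε i * (ε k * μ j) * μ l := by rw [H.εμ k hk j hj]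
    _ = ε i * ε k * (μ j * μ l) := by group

theorem eq_of {i j k l : ℕ} (hi : i < 16) (hj : j < 16) (hk : k < 16) (hl : l < 16)
    (h : ε i * μ j = ε k * μ l) : i = k ∧ j = l := by
  have h1 : (ε i * μ j) * (ε k * μ l) = 1 := by
    rw [h, mul_form H hk hl hk hl, Nat.xor_self, Nat.xor_self, eps_zero H, mu_zero H, one_mul]
  rw [mul_form H hi hj hk hl] at h1
  obtain ⟨h2, h3⟩ := H.inj _ (xor_lt hi hk) _ (xor_lt hj hl) h1
  exact ⟨Nat.xor_eq_zero_iff.1 h2, Nat.xor_eq_zero_iff.1 h3⟩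

end

/-- The group `Q`. -/
def QQ (H : QConf t ε μ s) : Subgroup G where
  carrier := {x | ∃ i < 16, ∃ j < 16, x = ε i * μ j}
  one_mem' := ⟨0, by norm_num, 0, by norm_num, by rw [eps_zero H, mu_zero H, one_mul]⟩
  mul_mem' := by
    rintro _ _ ⟨i, hi, j, hj, rfl⟩ ⟨k, hk, l, hl, rfl⟩
    exact ⟨_, xor_lt hi hk, _, xor_lt hj hl, mul_form H hi hj hk hl⟩
  inv_mem' := by
    rintro _ ⟨i, hi, j, hj, rfl⟩
    refine ⟨i, hi, j, hj, inv_eq_of_mul_eq_one_left ?_⟩
    rw [mul_form H hi hj hi hj, Nat.xor_self, Nat.xor_self, eps_zero H, mu_zero H, one_mul]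

theorem mem_QQ {H : QConf t ε μ s} {x : G} : x ∈ QQ H ↔ ∃ i < 16, ∃ j < 16, x = ε i * μ j := Iff.rfl

section

variable (H : QConf t ε μ s)
include H

theorem QQ_comm : ∀ x ∈ QQ H, ∀ y ∈ QQ H, x * y = y * x := by
  rintro _ ⟨i, hi, j, hj, rfl⟩ _ ⟨k, hk, l, hl, rfl⟩
  rw [mul_form H hi hj hk hl, mul_form H hk hl hi hj, Nat.xor_comm i, Nat.xor_comm j]

theorem QQ_sq : ∀ x ∈ QQ H, x * x = 1 := by
  rintro _ ⟨i, hi, j, hj, rfl⟩
  rw [mul_form H hi hj hi hj, Nat.xor_self, Nat.xor_self, eps_zero H, mu_zero H, one_mul]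

theorem eps_mem {i : ℕ} (hi : i < 16) : ε i ∈ QQ H := ⟨i, hi, 0, by norm_num, by rw [mu_zero H, mul_one]⟩

theorem mu_mem {i : ℕ} (hi : i < 16) : μ i ∈ QQ H := ⟨0, by norm_num, i, hi, by rw [eps_zero H, one_mul]⟩

/-- orders of subgroups of `Q` given by a table -/
theorem card_sub {S : Subgroup G} (c : Fin 16 → Fin 16 → Bool)
    (h : ∀ x, x ∈ S ↔ ∃ i j : Fin 16, c i j = true ∧ x = ε i * μ j) :
    Nat.card S = (Finset.univ.filter (fun p : Fin 16 × Fin 16 => c p.1 p.2 = true)).card := by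
  have h1 : Function.Bijective (fun p : {p : Fin 16 × Fin 16 // c p.1 p.2 = true} =>
      (⟨ε p.1.1 * μ p.1.2, (h _).2 ⟨p.1.1, p.1.2, p.2, rfl⟩⟩ : S)) := by
    constructor
    · rintro ⟨⟨i, j⟩, hp⟩ ⟨⟨k, l⟩, hq⟩ he
      have h2 : ε i * μ j = ε k * μ l := congrArg Subtype.val he
      obtain ⟨h3, h4⟩ := eq_of H i.2 j.2 k.2 l.2 h2
      have h3' : i = k := Fin.ext h3
      have h4' : j = l := Fin.ext h4
      subst h3' h4'
      rfl
    · rintro ⟨x, hx⟩
      obtain ⟨i, j, hc, rfl⟩ := (h x).1 hx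
      exact ⟨⟨(i, j), hc⟩, rfl⟩
  rw [← Nat.card_eq_of_bijective _ h1, Nat.card_eq_fintype_card, Fintype.card_subtype]

theorem card_QQ : Nat.card (QQ H) = 2 ^ 8 := by
  rw [card_sub H (fun _ _ => true)]
  · decide +kernel
  · intro x
    constructor
    · rintro ⟨i, hi, j, hj, rfl⟩
      exact ⟨⟨i, hi⟩, ⟨j, hj⟩, rfl, rfl⟩
    · rintro ⟨i, j, _, rfl⟩
      exact ⟨i, i.2, j, j.2, rfl⟩

theorem t_form {i j : ℕ} (hi : i < 16) (hj : j < 16) : t * (ε i * μ j) = ε (i ^^^ j) * μ j * t := by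
  calc t * (ε i * μ j) = (t * ε i) * μ j := by group
    _ = ε i * (t * μ j) := by rw [H.tε i hi]; group
    _ = ε i * (μ j * ε j) * t := by rw [H.tμ j hj]; group
    _ = ε i * (ε j * μ j) * t := by rw [H.εμ j hj j hj]
    _ = ε (i ^^^ j) * μ j * t := by rw [← H.εmul i hi j hj]; group

theorem QQ_t : ∀ x ∈ QQ H, t * x * t⁻¹ ∈ QQ H := by
  rintro _ ⟨i, hi, j, hj, rfl⟩
  refine ⟨_, xor_lt hi hj, j, hj, ?_⟩
  rw [t_form H hi hj]; group

theorem comm_t_iff {x : G} (hx : x ∈ QQ H) : x * t = t * x ↔ ∃ i < 16, x = ε i := by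
  obtain ⟨i, hi, j, hj, rfl⟩ := hx
  constructor
  · intro h
    rw [t_form H hi hj] at h
    have h1 := eq_of H hi hj (xor_lt hi hj) hj (mul_right_cancel h)
    have h2 : j = 0 := by
      have := h1.1
      have h3 : i ^^^ (i ^^^ j) = i ^^^ i := by rw [← this]
      rwa [← Nat.xor_assoc, Nat.xor_self, Nat.zero_xor] at h3
    exact ⟨i, hi, by rw [h2, mu_zero H, mul_one]⟩
  · rintro ⟨k, hk, h⟩
    rw [h, H.tε k hk]

theorem card_E : Nat.card (QQ H ⊓ centralizer {t} : Subgroup G) = 2 ^ 4 := by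
  rw [card_sub H (fun _ j => decide (j = 0))]
  · decide +kernel
  · intro x
    constructor
    · rintro ⟨hx, hxt⟩
      obtain ⟨i, hi, rfl⟩ := (comm_t_iff H hx).1 (mem_centralizer_singleton_iff.1 hxt)
      exact ⟨⟨i, hi⟩, 0, by simp, by simp [mu_zero H]⟩
    · rintro ⟨i, j, h, rfl⟩
      have h0 : j = 0 := by simpa using h
      subst h0
      refine ⟨⟨i, i.2, 0, by norm_num, rfl⟩, mem_centralizer_singleton_iff.2 ?_⟩
      simp only [Fin.val_zero, mu_zero H, mul_one]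
      exact (H.tε i i.2).symm

theorem fr (tE : ∀ i < 16, ∀ g : G, g * t * g⁻¹ ≠ ε i) : Fr t (QQ H) where
  comm := QQ_comm H
  sq := QQ_sq H
  tt := H.tt
  tQ := QQ_t H
  card := card_QQ H
  cardE := card_E H
  centE := by
    intro g hg hgt hc
    obtain ⟨i, hi, h | h⟩ := H.cenF g hg hgt.symm
      (fun i hi => hc (ε i) (eps_mem H hi) (H.tε i hi).symm)
    · left; rw [h]; exact eps_mem H hi
    · right
      rw [h, H.tε i hi, mul_assoc, H.tt, mul_one]
      exact eps_mem H hi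
  notE := by
    intro g x hx hxt
    obtain ⟨i, hi, rfl⟩ := (comm_t_iff H hx).1 hxt
    exact tE i hi g

omit H

theorem gm_gm : ∀ i < 16, gm 0 (gm 0 i) = i := by decide +kernel

theorem gm_fix : ∀ j < 16, gm 0 j = j → ∃ k < 16, k ^^^ gm 0 k = j := by decide +kernel

include H

/-- **(a)** The involution `y`. -/
theorem exists_y [Finite G] (N : Subgroup G) (hs : s 0 ∈ N) (hε : ∀ i < 16, ε i ∈ N) :
    ∃ y ∈ N, y * y = 1 ∧ y * t = t * y ∧ (∀ i < 16, y * ε i = ε (gm 0 i) * y) ∧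
      (∀ i < 16, y * μ i = μ (gm 0 i) * y) := by
  obtain ⟨n, m, hm, hnm⟩ := Nat.exists_eq_two_pow_mul_odd (n := orderOf (s 0)) (orderOf_pos (s 0)).ne'
  obtain ⟨r, rfl⟩ := hm
  -- `s 0 ^ 2` centralises `Q`
  have h2ε : ∀ i < 16, Commute (s 0 * s 0) (ε i) := by
    intro i hi
    show s 0 * s 0 * ε i = ε i * (s 0 * s 0)
    rw [mul_assoc, H.sε 0 (by norm_num) i hi, ← mul_assoc, H.sε 0 (by norm_num) _ (gm_lt 0 i), gm_gm i hi, mul_assoc]
  have h2μ : ∀ i < 16, Commute (s 0 * s 0) (μ i) := by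
    intro i hi
    show s 0 * s 0 * μ i = μ i * (s 0 * s 0)
    rw [mul_assoc, H.sμ 0 (by norm_num) i hi, ← mul_assoc, H.sμ 0 (by norm_num) _ (gm_lt 0 i), gm_gm i hi, mul_assoc]
  set y0 := s 0 * (s 0 * s 0) ^ r with hy0
  have hy0' : y0 = s 0 ^ (2 * r + 1) := by
    rw [hy0, ← pow_two, ← pow_mul, pow_succ', mul_comm]
  have hy0two : TwoElt y0 := ⟨n, by rw [hy0', ← pow_mul, mul_comm, ← hnm, pow_orderOf_eq_one]⟩
  have hyε : ∀ i < 16, y0 * ε i = ε (gm 0 i) * y0 := by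
    intro i hi
    rw [hy0, mul_assoc, ((h2ε i hi).pow_left r).eq, ← mul_assoc, H.sε 0 (by norm_num) i hi, mul_assoc]
  have hyμ : ∀ i < 16, y0 * μ i = μ (gm 0 i) * y0 := by
    intro i hi
    rw [hy0, mul_assoc, ((h2μ i hi).pow_left r).eq, ← mul_assoc, H.sμ 0 (by norm_num) i hi, mul_assoc]
  have hst : Commute (s 0) t := H.st 0 (by norm_num)
  have hyt : y0 * t = t * y0 := by rw [hy0']; exact (hst.pow_left _).eq
  have hyN : y0 ∈ N := by rw [hy0']; exact N.pow_mem hs _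
  -- `y0 ^ 2 = ε j`
  have hyyε : ∀ i < 16, y0 * y0 * ε i = ε i * (y0 * y0) := by
    intro i hi
    rw [mul_assoc, hyε i hi, ← mul_assoc, hyε _ (gm_lt 0 i), gm_gm i hi, mul_assoc]
  have hyyμ : ∀ i < 16, y0 * y0 * μ i = μ i * (y0 * y0) := by
    intro i hi
    rw [mul_assoc, hyμ i hi, ← mul_assoc, hyμ _ (gm_lt 0 i), gm_gm i hi, mul_assoc]
  have hyytwo : TwoElt (y0 * y0) := by
    obtain ⟨k, hk⟩ := hy0two
    refine ⟨k, ?_⟩
    rw [← pow_two, ← pow_mul, mul_comm, pow_mul, hk, one_pow]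
  obtain ⟨j, hj, hjj⟩ : ∃ j < 16, y0 * y0 = ε j := by
    obtain ⟨j, hj, h | h⟩ := H.cenF (y0 * y0) hyytwo
      (by rw [← mul_assoc, ← hyt, mul_assoc, ← hyt, ← mul_assoc]) hyyε
    · exact ⟨j, hj, h⟩
    · exfalso
      have h1 := hyyμ 1 (by norm_num)
      rw [h] at h1
      have h2 : t * ε j * μ 1 = t * (ε j * μ 1) := by group
      rw [h2, t_form H hj (by norm_num)] at h1
      have h3 : μ 1 * (t * ε j) = ε j * μ 1 * t := by
        rw [H.tε j hj, ← mul_assoc, ← H.εμ j hj 1 (by norm_num)]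
      rw [h3] at h1
      have h4 := (eq_of H (xor_lt hj (by norm_num)) (by norm_num) hj (by norm_num) (mul_right_cancel h1)).1
      have h5 : j ^^^ (j ^^^ 1) = j ^^^ j := by rw [h4]
      rw [← Nat.xor_assoc, Nat.xor_self, Nat.zero_xor] at h5
      exact absurd h5 (by norm_num)
  have hjfix : gm 0 j = j := by
    have h1 := hyε j hj
    have h2 : y0 * ε j = ε j * y0 := by rw [← hjj]; exact (mul_assoc y0 y0 y0).symm
    rw [h2] at h1
    have h3 := mul_right_cancel h1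
    have h4 : ε j * μ 0 = ε (gm 0 j) * μ 0 := by rw [← h3]
    exact (eq_of H hj (by norm_num) (gm_lt 0 j) (by norm_num) h4).1.symm
  obtain ⟨k, hk, hkj⟩ := gm_fix j hj hjfix
  have hεy : ε k * y0 = y0 * ε (gm 0 k) := by
    rw [hyε _ (gm_lt 0 k), gm_gm k hk]
  refine ⟨y0 * ε k, N.mul_mem hyN (hε k hk), ?_, ?_, ?_, ?_⟩
  · calc y0 * ε k * (y0 * ε k) = y0 * (ε k * y0) * ε k := by group
      _ = (y0 * y0) * (ε (gm 0 k) * ε k) := by rw [hεy]; group
      _ = ε j * ε (gm 0 k ^^^ k) := by rw [hjj, H.εmul _ (gm_lt 0 k) k hk]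
      _ = 1 := by rw [Nat.xor_comm, hkj, eps_sq H hj]
  · rw [mul_assoc, ← H.tε k hk, ← mul_assoc, hyt, mul_assoc]
  · intro i hi
    rw [mul_assoc, H.εmul k hk i hi, Nat.xor_comm, ← H.εmul i hi k hk, ← mul_assoc, hyε i hi, mul_assoc]
  · intro i hi
    rw [mul_assoc, H.εμ k hk i hi, ← mul_assoc, hyμ i hi, mul_assoc]

/-- `t y` acts on `Q`. -/
theorem ty_form {y : G} (hyε : ∀ i < 16, y * ε i = ε (gm 0 i) * y) (hyμ : ∀ i < 16, y * μ i = μ (gm 0 i) * y)
    {i j : ℕ} (hi : i < 16) (hj : j < 16) :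
    t * y * (ε i * μ j) = ε (gm 0 i ^^^ gm 0 j) * μ (gm 0 j) * (t * y) := by
  calc t * y * (ε i * μ j) = t * (y * ε i) * μ j := by group
    _ = t * ε (gm 0 i) * (y * μ j) := by rw [hyε i hi]; group
    _ = t * (ε (gm 0 i) * μ (gm 0 j)) * y := by rw [hyμ j hj]; group
    _ = ε (gm 0 i ^^^ gm 0 j) * μ (gm 0 j) * (t * y) := by
        rw [t_form H (gm_lt 0 i) (gm_lt 0 j)]; group

theorem QQ_ty {y : G} (hyε : ∀ i < 16, y * ε i = ε (gm 0 i) * y) (hyμ : ∀ i < 16, y * μ i = μ (gm 0 i) * y) :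
    ∀ x ∈ QQ H, (t * y) * x * (t * y)⁻¹ ∈ QQ H := by
  rintro _ ⟨i, hi, j, hj, rfl⟩
  refine ⟨_, xor_lt (gm_lt 0 i) (gm_lt 0 j), _, gm_lt 0 j, ?_⟩
  rw [ty_form H hyε hyμ hi hj]; group

theorem card_ty {y : G} (hyε : ∀ i < 16, y * ε i = ε (gm 0 i) * y) (hyμ : ∀ i < 16, y * μ i = μ (gm 0 i) * y) :
    Nat.card (QQ H ⊓ centralizer {t * y} : Subgroup G) = 2 ^ 4 := by
  rw [card_sub H (fun i j => decide (gm 0 i ^^^ gm 0 j = i) && decide (gm 0 j = j))]
  · decide +kernel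
  · intro x
    constructor
    · rintro ⟨⟨i, hi, j, hj, rfl⟩, hxt⟩
      have h1 := mem_centralizer_singleton_iff.1 hxt
      rw [ty_form H hyε hyμ hi hj] at h1
      have h2 := eq_of H hi hj (xor_lt (gm_lt 0 i) (gm_lt 0 j)) (gm_lt 0 j) (mul_right_cancel h1)
      refine ⟨⟨i, hi⟩, ⟨j, hj⟩, ?_, rfl⟩
      simp only [Bool.and_eq_true, decide_eq_true_eq]
      exact ⟨h2.1.symm, h2.2.symm⟩
    · rintro ⟨i, j, h, rfl⟩
      simp only [Bool.and_eq_true, decide_eq_true_eq] at h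
      refine ⟨⟨i, i.2, j, j.2, rfl⟩, mem_centralizer_singleton_iff.2 ?_⟩
      rw [ty_form H hyε hyμ i.2 j.2, h.1, h.2]

/-- **(b)** The element `a`. -/
theorem exists_conj [Finite G] {ε' μ' s' : ℕ → G} (H' : QConf t ε' μ' s')
    (tE : ∀ i < 16, ∀ g : G, g * t * g⁻¹ ≠ ε i) (tE' : ∀ i < 16, ∀ g : G, g * t * g⁻¹ ≠ ε' i)
    (h1 : ∀ R : Subgroup G, t ∈ R → (∀ x ∈ R, x * x = 1) → Nat.card R = 32 → ∃ c, c * t = t * c ∧
      ((∀ x ∈ R, ∃ i < 16, c * x * c⁻¹ = ε i ∨ c * x * c⁻¹ = t * ε i) ∨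
        (∀ x ∈ R, ∃ i < 16, c * x * c⁻¹ = ε' i ∨ c * x * c⁻¹ = t * ε' i)))
    {y : G} (hyy : y * y = 1) (hyt : y * t = t * y) (hyε : ∀ i < 16, y * ε i = ε (gm 0 i) * y)
    (hyμ : ∀ i < 16, y * μ i = μ (gm 0 i) * y) (hty : IsConj (t * y) t) :
    ∃ a : G, a * (t * y) * a⁻¹ = t ∧
      ((∀ i < 16, ∀ j < 16, ∃ k < 16, ∃ l < 16, a * (ε i * μ j) * a⁻¹ = ε k * μ l) ∨
        (∀ i < 16, ∀ j < 16, ∃ k < 16, ∃ l < 16, a * (ε i * μ j) * a⁻¹ = ε' k * μ' l)) := by
  obtain ⟨g, hg⟩ := isConj_iff.1 hty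
  have ss : t * y * (t * y) = 1 := by
    calc t * y * (t * y) = t * (y * t) * y := by group
      _ = (t * t) * (y * y) := by rw [hyt]; group
      _ = 1 := by rw [H.tt, hyy, one_mul]
  have ht : t⁻¹ = t := inv_eq_of_mul_eq_one_left H.tt
  have hsQ := QQ_ty H hyε hyμ
  have hcards := card_ty H hyε hyμ
  -- the group `C_Q(ty)⟨ty⟩`
  have hsE : ∀ x ∈ QQ H ⊓ centralizer {t * y}, (t * y) * x * (t * y)⁻¹ ∈ QQ H ⊓ centralizer {t * y} := by
    intro x hx
    have h2 := mem_centralizer_singleton_iff.1 hx.2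
    rw [← h2, mul_inv_cancel_right]
    exact hx
  let F1 : Subgroup G := Qs (QQ H ⊓ centralizer {t * y}) (t * y) ss hsE
  have htyQ : t * y ∉ QQ H := by
    intro h
    have h2 : QQ H ⊓ centralizer {t * y} = QQ H := by
      rw [inf_eq_left]
      intro x hx
      exact mem_centralizer_singleton_iff.2 (QQ_comm H x hx _ h)
    rw [h2, card_QQ H] at hcards
    norm_num at hcards
  have hF1 : Nat.card F1 = 32 := by
    rw [card_double (H := QQ H ⊓ centralizer {t * y}) (K := F1) (s := t * y) (fun x hx => Or.inl hx)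
      (Or.inr (by rw [ss]; exact Subgroup.one_mem _)) (fun h => htyQ h.1) (fun x hx => hx), hcards]
    norm_num
  have hF1sq : ∀ x ∈ F1, x * x = 1 := by
    rintro x (hx | hx)
    · exact QQ_sq H x hx.1
    · have h2 := mem_centralizer_singleton_iff.1 hx.2
      have h3 : Commute (x * (t * y)) (t * y) := h2
      have h4 : Commute x (t * y) := by
        have := h3.mul_left (Commute.refl (t * y)).inv_left
        rwa [mul_inv_cancel_right] at this
      have h5 := QQ_sq H _ hx.1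
      calc x * x = x * x * (t * y * (t * y)) := by rw [ss, mul_one]
        _ = x * (x * (t * y)) * (t * y) := by group
        _ = x * ((t * y) * x) * (t * y) := by rw [h4.eq]
        _ = (x * (t * y)) * (x * (t * y)) := by group
        _ = 1 := h5
  obtain ⟨c, hct, hc⟩ := h1 (F1.map (MulAut.conj g).toMonoidHom)
    ⟨t * y, Or.inr (by rw [ss]; exact Subgroup.one_mem _), hg⟩ (by
      rintro _ ⟨x, hx, rfl⟩
      rw [← map_mul, hF1sq x hx, map_one]) (by
      rw [Subgroup.card_map_of_injective (MulAut.conj g).injective, hF1])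
  have hcg : (c * g) * (t * y) * (c * g)⁻¹ = t := by
    calc (c * g) * (t * y) * (c * g)⁻¹ = c * (g * (t * y) * g⁻¹) * c⁻¹ := by group
      _ = t := by rw [hg, hct]; group
  have e : ∀ x, (c * g) * x * (c * g)⁻¹ = c * (g * x * g⁻¹) * c⁻¹ := fun x => by group
  have hmem : ∀ x ∈ QQ H, x * (t * y) = (t * y) * x → g * x * g⁻¹ ∈ F1.map (MulAut.conj g).toMonoidHom :=
    fun x hx hxt => ⟨x, Or.inl ⟨hx, mem_centralizer_singleton_iff.2 hxt⟩, rfl⟩
  rcases hc with hc | hc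
  · obtain ⟨a, ha, hQ⟩ := WThreeAbs.exists_conj (fr H tE) (QQ_comm H) (QQ_sq H) (card_QQ H) ss hsQ hcards hcg (by
      intro x hx hxt
      obtain ⟨i, hi, h | h⟩ := hc _ (hmem x hx hxt)
      · left; rw [e, h]; exact eps_mem H hi
      · right; rw [e, h, H.tε i hi, mul_assoc, H.tt, mul_one]; exact eps_mem H hi)
    refine ⟨a, ha, Or.inl fun i hi j hj => ?_⟩
    exact hQ _ ⟨i, hi, j, hj, rfl⟩
  · obtain ⟨a, ha, hQ⟩ := WThreeAbs.exists_conj (fr H' tE') (QQ_comm H) (QQ_sq H) (card_QQ H) ss hsQ hcards hcg (by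
      intro x hx hxt
      obtain ⟨i, hi, h | h⟩ := hc _ (hmem x hx hxt)
      · left; rw [e, h]; exact eps_mem H' hi
      · right; rw [e, h, H'.tε i hi, mul_assoc, H.tt, mul_one]; exact eps_mem H' hi)
    refine ⟨a, ha, Or.inr fun i hi j hj => ?_⟩
    exact hQ _ ⟨i, hi, j, hj, rfl⟩

/-- Transport of a configuration. -/
theorem conj_QConf (c : G) :
    QConf (c⁻¹ * t * c) (fun i => c⁻¹ * ε i * c) (fun i => c⁻¹ * μ i * c) (fun i => c⁻¹ * s i * c) := by
  have e : ∀ x y : G, (c⁻¹ * x * c) * (c⁻¹ * y * c) = c⁻¹ * (x * y) * c := fun x y => by group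
  have hp : ∀ (x : G) (n : ℕ), (c * x * c⁻¹) ^ n = c * x ^ n * c⁻¹ := fun x n => conj_pow
  have htwo : ∀ x, TwoElt x → TwoElt (c * x * c⁻¹) := by
    rintro x ⟨n, hn⟩
    exact ⟨n, by rw [hp, hn]; group⟩
  have hcomm : ∀ x y : G, c⁻¹ * y * c * x = x * (c⁻¹ * y * c) → y * (c * x * c⁻¹) = c * x * c⁻¹ * y := by
    intro x y h
    calc y * (c * x * c⁻¹) = c * (c⁻¹ * y * c * x) * c⁻¹ := by group
      _ = c * x * c⁻¹ * y := by rw [h]; group
  refine ⟨?_, ?_, ?_, ?_, ?_, ?_, ?_, ?_, ?_, ?_, ?_, ?_⟩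
  · rw [e, H.tt]; group
  · intro i hi j hj
    rw [e, H.εmul i hi j hj]
  · intro i hi j hj
    rw [e, H.μmul i hi j hj]
  · intro i hi j hj
    rw [e, e, H.εμ i hi j hj]
  · intro i hi j hj h
    rw [e] at h
    apply H.inj i hi j hj
    calc ε i * μ j = c * (c⁻¹ * (ε i * μ j) * c) * c⁻¹ := by group
      _ = 1 := by rw [h]; group
  · intro i hi
    rw [e, e, H.tε i hi]
  · intro i hi
    rw [e, e, e, H.tμ i hi]
  · intro k hk
    rw [e, e, H.st k hk]
  · intro k hk i hi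
    rw [e, e, H.sε k hk i hi]
  · intro k hk i hi
    rw [e, e, H.sμ k hk i hi]
  · intro x hx hxt hxε
    obtain ⟨i, hi, h⟩ := H.cenF (c * x * c⁻¹) (htwo x hx) (hcomm x t hxt)
      (fun i hi => (hcomm x _ (hxε i hi).symm).symm)
    refine ⟨i, hi, ?_⟩
    rcases h with h | h
    · left; rw [← h]; group
    · right; rw [e, ← h]; group
  · intro x hx hxε hxμ
    obtain ⟨i, hi, j, hj, h⟩ := H.cenQ (c * x * c⁻¹) (htwo x hx)
      (fun i hi => (hcomm x _ (hxε i hi).symm).symm) (fun i hi => (hcomm x _ (hxμ i hi).symm).symm)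
    refine ⟨i, hi, j, hj, ?_⟩
    rw [e, ← h]; group

end

end Cfsg.Agent.TypeM.WThree
end

-- part: TypeM/Glue
section
/-!
# Theorem W: gluing [W1], [W2], [W3]

From `LHyp t K π`, `LFacts` and the facts on automorphisms of `L`: the elementary abelian groups
`Q = {e i * μ j}`, `Q' = {e' i * μ' j}` and on each of them a second frame for `t * y`, `y ∈ K`.
-/

set_option autoImplicit false

namespace Cfsg.Agent.TypeM.Glue

open Subgroup Cfsg.Agent.TypeM.WThree

section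

variable {G : Type*} [Group G] {t : G} {K : Subgroup G}

/-- `(k o)^n ∈ K o^n` if `o` normalises `K` -/
theorem pow_mem_mul {o k : G} (ho : ∀ x ∈ K, o * x * o⁻¹ ∈ K) (hk : k ∈ K) (n : ℕ) :
    (k * o) ^ n * (o ^ n)⁻¹ ∈ K := by
  have hon : ∀ n : ℕ, ∀ x ∈ K, o ^ n * x * (o ^ n)⁻¹ ∈ K := by
    intro n
    induction n with
    | zero => intro x hx; simpa using hx
    | succ n ih =>
      intro x hx
      have h1 := ih _ (ho x hx)
      have e : o ^ (n + 1) * x * (o ^ (n + 1))⁻¹ = o ^ n * (o * x * o⁻¹) * (o ^ n)⁻¹ := by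
        rw [pow_succ]; group
      rw [e]; exact h1
  induction n with
  | zero => simp
  | succ n ih =>
    have e : (k * o) ^ (n + 1) * (o ^ (n + 1))⁻¹ = ((k * o) ^ n * (o ^ n)⁻¹) * (o ^ n * k * (o ^ n)⁻¹) := by
      rw [pow_succ, pow_succ]; group
    rw [e]
    exact K.mul_mem ih (hon n k hk)

/-- An involution in `K⟨o⟩`, `o` of odd order normalising `K`, is in `K`. -/
theorem mem_of_sup [Finite G] {o y : G} (ho : ∀ x ∈ K, o * x * o⁻¹ ∈ K) {r : ℕ} (hr : Odd r) (hor : o ^ r = 1)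
    (hy : y ∈ K ⊔ zpowers o) (hyy : y * y = 1) : y ∈ K := by
  have hoN : zpowers o ≤ normalizer (K : Set G) := by
    rw [zpowers_le]
    exact WThreeAbs.mem_norm ho
  have h1 : y ∈ ((K ⊔ zpowers o : Subgroup G) : Set G) := hy
  rw [coe_mul_of_right_le_normalizer_left K (zpowers o) hoN] at h1
  obtain ⟨k, hk, o', ho', h2⟩ := h1
  have h2' : k * o' = y := h2
  obtain ⟨n, rfl⟩ := mem_zpowers_iff.1 ho'
  have ho'K : ∀ x ∈ K, o ^ n * x * (o ^ n)⁻¹ ∈ K := fun x hx =>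
    (mem_normalizer_iff.1 (hoN ho') x).1 hx
  have h3 := pow_mem_mul ho'K hk r
  have h4 : (o ^ n) ^ r = 1 := by
    rw [← zpow_natCast, ← zpow_mul, mul_comm, zpow_mul, zpow_natCast, hor, one_zpow]
  rw [h2', h4, inv_one, mul_one] at h3
  obtain ⟨q, rfl⟩ := hr
  rw [pow_succ, pow_mul, pow_two, hyy, one_pow, one_mul] at h3
  exact h3

end

variable {G : Type*} [Group G] {t : G} {ε μ s ε' μ' s' : ℕ → G}

/-- The action on `E` of the normaliser in `C(t)` is by words. -/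
def Aut (t : G) (ε : ℕ → G) : Prop :=
  ∀ c : G, c * t = t * c → (∀ i < 16, ∃ j < 16, c * ε i * c⁻¹ = ε j) →
    ∃ w : List ℕ, (∀ k ∈ w, k < 5) ∧ ∀ i < 16, c * ε i * c⁻¹ = ε (act w i)

/-- Every `E₃₂` on `t` is conjugate in `C(t)` to `⟨t⟩E` or `⟨t⟩E'`. -/
def E32 (t : G) (ε ε' : ℕ → G) : Prop :=
  ∀ R : Subgroup G, t ∈ R → (∀ x ∈ R, x * x = 1) → Nat.card R = 32 → ∃ c, c * t = t * c ∧
    ((∀ x ∈ R, ∃ i < 16, c * x * c⁻¹ = ε i ∨ c * x * c⁻¹ = t * ε i) ∨
      (∀ x ∈ R, ∃ i < 16, c * x * c⁻¹ = ε' i ∨ c * x * c⁻¹ = t * ε' i))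

theorem E32.symm (h : E32 t ε ε') : E32 t ε' ε := by
  intro R h1 h2 h3
  obtain ⟨c, hc, h⟩ := h R h1 h2 h3
  exact ⟨c, hc, h.symm⟩

theorem aut_conj (h : Aut t ε) (a : G) : Aut (a⁻¹ * t * a) (fun i => a⁻¹ * ε i * a) := by
  intro c hct hc
  have e : ∀ x : G, a * c * a⁻¹ * x * (a * c * a⁻¹)⁻¹ = a * (c * (a⁻¹ * x * a) * c⁻¹) * a⁻¹ := fun x => by group
  obtain ⟨w, hw, h1⟩ := h (a * c * a⁻¹)
    (by
      calc a * c * a⁻¹ * t = a * (c * (a⁻¹ * t * a)) * a⁻¹ := by group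
        _ = t * (a * c * a⁻¹) := by rw [hct]; group)
    (by
      intro i hi
      obtain ⟨j, hj, h2⟩ := hc i hi
      refine ⟨j, hj, ?_⟩
      rw [e, h2]; group)
  refine ⟨w, hw, fun i hi => ?_⟩
  have h2 := h1 i hi
  rw [e] at h2
  show c * (a⁻¹ * ε i * a) * c⁻¹ = a⁻¹ * ε (act w i) * a
  rw [← h2]; group

/-- The data of the second frame. -/
def Second (t : G) (ε μ : ℕ → G) : Prop :=
  ∃ y : G, ∃ ε'' μ'' s'' : ℕ → G, y * y = 1 ∧ y * t = t * y ∧ (∀ i < 16, y * ε i = ε (gm 0 i) * y) ∧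
    (∀ i < 16, y * μ i = μ (gm 0 i) * y) ∧ QConf (t * y) ε'' μ'' s'' ∧ Aut (t * y) ε'' ∧
    (∀ i < 16, ∀ j < 16, ∃ k < 16, ∃ l < 16, ε'' i * μ'' j = ε k * μ l)

theorem second [Finite G] (H : QConf t ε μ s) (H' : QConf t ε' μ' s')
    (tE : ∀ i < 16, ∀ g : G, g * t * g⁻¹ ≠ ε i) (tE' : ∀ i < 16, ∀ g : G, g * t * g⁻¹ ≠ ε' i)
    (h1 : E32 t ε ε') (ha : Aut t ε) (ha' : Aut t ε') {y : G} (hyy : y * y = 1) (hyt : y * t = t * y)
    (hyε : ∀ i < 16, y * ε i = ε (gm 0 i) * y) (hyμ : ∀ i < 16, y * μ i = μ (gm 0 i) * y)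
    (hty : IsConj (t * y) t) : Second t ε μ := by
  obtain ⟨a, hat, h⟩ := exists_conj H H' tE tE' h1 hyy hyt hyε hyμ hty
  have hat' : a⁻¹ * t * a = t * y := by
    calc a⁻¹ * t * a = a⁻¹ * (a * (t * y) * a⁻¹) * a := by rw [hat]
      _ = t * y := by group
  have key : ∀ {ε₁ μ₁ s₁ : ℕ → G} (H₁ : QConf t ε₁ μ₁ s₁), Aut t ε₁ →
      (∀ i < 16, ∀ j < 16, ∃ k < 16, ∃ l < 16, a * (ε i * μ j) * a⁻¹ = ε₁ k * μ₁ l) → Second t ε μ := by
    intro ε₁ μ₁ s₁ H₁ hA hm
    have hc := conj_QConf H₁ a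
    have hA' := aut_conj hA a
    rw [hat'] at hc hA'
    have hmap : (QQ H).map (MulAut.conj a).toMonoidHom = QQ H₁ := by
      refine Subgroup.eq_of_le_of_card_ge ?_ ?_
      · rintro _ ⟨x, ⟨i, hi, j, hj, rfl⟩, rfl⟩
        exact hm i hi j hj
      · rw [Subgroup.card_map_of_injective (MulAut.conj a).injective, card_QQ H, card_QQ H₁]
    refine ⟨y, _, _, _, hyy, hyt, hyε, hyμ, hc, hA', ?_⟩
    intro i hi j hj
    have h2 : ε₁ i * μ₁ j ∈ (QQ H).map (MulAut.conj a).toMonoidHom := by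
      rw [hmap]; exact ⟨i, hi, j, hj, rfl⟩
    obtain ⟨x, ⟨k, hk, l, hl, rfl⟩, h3⟩ := h2
    have h3' : a * (ε k * μ l) * a⁻¹ = ε₁ i * μ₁ j := h3
    refine ⟨k, hk, l, hl, ?_⟩
    calc a⁻¹ * ε₁ i * a * (a⁻¹ * μ₁ j * a) = a⁻¹ * (ε₁ i * μ₁ j) * a := by group
      _ = ε k * μ l := by rw [← h3']; group
  rcases h with h | h
  · exact key H ha h
  · exact key H' ha' h

variable {L : Type*} [Group L] {K : Subgroup G} {π : K →* L}

/-- The involution `y` of `K`, for the configuration made from `e`, `f`. -/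
theorem exists_y_mem [Finite G] {ε s : ℕ → L} (H : LHyp t K π)
    (one : ∀ x : L, x * x = 1 → x ≠ 1 → ∃ g, g * x * g⁻¹ = ε 1)
    {e f μ σ : ℕ → G} (I : IsLift π ε s e f) (HE : EPre t e f (LHyp.NE K e)) (hQ : QConf t e μ σ)
    (hσ : ∀ k < 5, ∃ o ∈ HE.C, o ^ HE.m = 1 ∧ σ k = o * f k)
    (hfus : ∃ k ∈ K, k * k = 1 ∧ k ≠ 1 ∧ IsConj t (t * k)) :
    ∃ y ∈ K, y * y = 1 ∧ y * t = t * y ∧ (∀ i < 16, y * e i = e (gm 0 i) * y) ∧
      (∀ i < 16, y * μ i = μ (gm 0 i) * y) ∧ IsConj (t * y) t := by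
  obtain ⟨o, ho, hom, h0⟩ := hσ 0 (by norm_num)
  have hot : o * t = t * o := ((HE.mem_C.1 ho).1).symm
  have hoK : ∀ x ∈ K, o * x * o⁻¹ ∈ K := H.norm o hot
  have hf0 : f 0 ∈ K := (I.fv 0 (by norm_num)).1
  have he : ∀ i < 16, e i ∈ K := fun i hi => (I.ev i hi).1
  obtain ⟨y, hyN, hyy, hyt, hyε, hyμ⟩ := exists_y hQ (K ⊔ zpowers o)
    (by
      rw [h0]
      exact Subgroup.mul_mem _ (le_sup_right (a := K) (mem_zpowers o)) (le_sup_left (a := K) hf0))
    (fun i hi => le_sup_left (a := K) (he i hi))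
  have hyK : y ∈ K := mem_of_sup hoK HE.m_odd hom hyN hyy
  refine ⟨y, hyK, hyy, hyt, hyε, hyμ, ?_⟩
  have hy1 : y ≠ 1 := by
    rintro rfl
    have h1 := hyε 4 (by norm_num)
    rw [one_mul, mul_one] at h1
    have h2 := HE.eq_of (i := 4) (j := gm 0 4) (by norm_num) (gm_lt 0 4) h1
    exact absurd h2 (by decide +kernel)
  obtain ⟨c, hc, hcy⟩ := H.exists_conj_e1 I one hyK hyy hy1
  have h2 := H.exists_conj_te1 I one hfus
  refine (isConj_iff.2 ⟨c, ?_⟩ : IsConj (t * y) (t * e 1)).trans h2.symm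
  calc c * (t * y) * c⁻¹ = (c * t) * y * c⁻¹ := by group
    _ = t * (c * y * c⁻¹) := by rw [← H.Kt c hc]; group
    _ = t * e 1 := by rw [hcy]

/-- **Summary of [W1], [W2], [W3]**: the two configurations `Q`, `Q'` and their second frames. -/
theorem exists_frames [Finite L] [Finite G] (H : LHyp t K π) {ε s ε' s' : ℕ → L} (F : LFacts ε s ε' s')
    (o1 : ∀ φ : MulAut L, (∀ i < 16, ∃ j < 16, φ (ε i) = ε j) → φ ∈ (MulAut.conj : L →* MulAut L).range)
    (o1' : ∀ φ : MulAut L, (∀ i < 16, ∃ j < 16, φ (ε' i) = ε' j) → φ ∈ (MulAut.conj : L →* MulAut L).range)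
    (o2 : ∀ φ : MulAut L, φ * φ = 1 → ∀ A : Subgroup L, (∀ x ∈ A, x * x = 1) → Nat.card A = 8 →
      (∀ x ∈ A, φ x = x) → φ ∈ (MulAut.conj : L →* MulAut L).range)
    (o3 : ∀ φ ψ : MulAut L, φ ∉ (MulAut.conj : L →* MulAut L).range → ψ ∉ (MulAut.conj : L →* MulAut L).range →
      φ * ψ ∈ (MulAut.conj : L →* MulAut L).range)
    (hfus : ∃ k ∈ K, k * k = 1 ∧ k ≠ 1 ∧ IsConj t (t * k)) :
    ∃ e f μ σ e' f' μ' σ' : ℕ → G, IsLift π ε s e f ∧ IsLift π ε' s' e' f' ∧
      QConf t e μ σ ∧ QConf t e' μ' σ' ∧ EPre t e f (LHyp.NE K e) ∧ EPre t e' f' (LHyp.NE K e') ∧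
      E32 t e e' ∧ Aut t e ∧ Aut t e' ∧ Second t e μ ∧ Second t e' μ' ∧
      (∀ k < 5, ∃ o : G, (∃ r : ℕ, Odd r ∧ o ^ r = 1) ∧ o * t = t * o ∧ (∀ i < 16, o * e i = e i * o) ∧
        σ k = o * f k) ∧
      (∀ k < 5, ∃ o : G, (∃ r : ℕ, Odd r ∧ o ^ r = 1) ∧ o * t = t * o ∧ (∀ i < 16, o * e' i = e' i * o) ∧
        σ' k = o * f' k) := by
  obtain ⟨e, f, e', f', I, I', HC, HC', h32, haut, haut'⟩ := H.exists_econf F o1 o1' o2 o3 hfus
  have HE : EPre t e f (LHyp.NE K e) :=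
    ⟨HC.tt, HC.mul, HC.inj, HC.tε, HC.εN, HC.sN, HC.tN, HC.Nt, HC.sε, HC.cen, HC.tE⟩
  have HE' : EPre t e' f' (LHyp.NE K e') :=
    ⟨HC'.tt, HC'.mul, HC'.inj, HC'.tε, HC'.εN, HC'.sN, HC'.tN, HC'.Nt, HC'.sε, HC'.cen, HC'.tE⟩
  obtain ⟨μ, σ, hQ, _, hσ⟩ := HE.exists_qconf HC.x0
  obtain ⟨μ', σ', hQ', _, hσ'⟩ := HE'.exists_qconf HC'.x0
  have one' : ∀ x : L, x * x = 1 → x ≠ 1 → ∃ g, g * x * g⁻¹ = ε' 1 := by
    intro x hx hx1
    obtain ⟨g, hg⟩ := F.one x hx hx1
    exact ⟨g, by rw [hg, F.low 1 (by norm_num)]⟩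
  obtain ⟨y, _, hyy, hyt, hyε, hyμ, hty⟩ := exists_y_mem H F.one I HE hQ hσ hfus
  obtain ⟨y', _, hyy', hyt', hyε', hyμ', hty'⟩ := exists_y_mem H one' I' HE' hQ' hσ' hfus
  refine ⟨e, f, μ, σ, e', f', μ', σ', I, I', hQ, hQ', HE, HE', h32, haut, haut', ?_, ?_, ?_, ?_⟩
  · exact second hQ hQ' HC.tE HC'.tE h32 haut haut' hyy hyt hyε hyμ hty
  · exact second hQ' hQ HC'.tE HC.tE (E32.symm h32) haut' haut hyy' hyt' hyε' hyμ' hty'
  · intro k hk
    obtain ⟨o, ho, hom, h⟩ := hσ k hk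
    exact ⟨o, ⟨_, HE.m_odd, hom⟩, (HE.mem_C.1 ho).1.symm, (HE.mem_C.1 ho).2, h⟩
  · intro k hk
    obtain ⟨o, ho, hom, h⟩ := hσ' k hk
    exact ⟨o, ⟨_, HE'.m_odd, hom⟩, (HE'.mem_C.1 ho).1.symm, (HE'.mem_C.1 ho).2, h⟩

end Cfsg.Agent.TypeM.Glue
end

-- part: TypeM/WFourLin
section
/-!
# Linear algebra on bit vectors and the relation "`g` acts on `Q` by the matrix `L`"

A linear map is the list of the images of `1, 2, 4, …`; `Acts q g L`: `g * q v = q (L v) * g` for all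
`v < 256`, where `q v` is an elementary abelian group of order `2^8`.
-/

set_option autoImplicit false

namespace Cfsg.Agent.TypeM.WFour

/-- apply the linear map with columns `L` to the bit vector `v` -/
def app : List ℕ → ℕ → ℕ
  | [], _ => 0
  | x :: L, v => Nat.xor (Nat.mul (Nat.mod v 2) x) (app L (Nat.div v 2))

/-- composition `M ∘ N` -/
def comp (M N : List ℕ) : List ℕ := N.map (app M)

def idL : List ℕ := [1, 2, 4, 8, 16, 32, 64, 128]

theorem app_nil (v : ℕ) : app [] v = 0 := rfl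

theorem app_cons (x : ℕ) (L : List ℕ) (v : ℕ) :
    app (x :: L) v = (v % 2 * x) ^^^ app L (v / 2) := rfl

theorem app_zero (L : List ℕ) : app L 0 = 0 := by
  induction L with
  | nil => rfl
  | cons x L ih => rw [app_cons]; simpa using ih

theorem xor_div_two (v w : ℕ) : (v ^^^ w) / 2 = v / 2 ^^^ w / 2 := by
  have := Nat.shiftRight_xor_distrib (a := v) (b := w) (i := 1)
  simpa [Nat.shiftRight_eq_div_pow] using this

theorem app_xor (L : List ℕ) : ∀ v w : ℕ, app L (v ^^^ w) = app L v ^^^ app L w := by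
  induction L with
  | nil => intro v w; simp [app_nil]
  | cons x L ih =>
    intro v w
    rw [app_cons, app_cons, app_cons, xor_div_two, ih]
    have h : (v ^^^ w) % 2 * x = (v % 2 * x) ^^^ (w % 2 * x) := by
      rw [Nat.xor_mod_two_eq]
      rcases Nat.mod_two_eq_zero_or_one v with hv | hv <;>
        rcases Nat.mod_two_eq_zero_or_one w with hw | hw <;>
        simp [Nat.add_mod, hv, hw]
    rw [h]
    generalize v % 2 * x = p
    generalize w % 2 * x = q
    generalize app L (v / 2) = r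
    generalize app L (w / 2) = s
    rw [Nat.xor_assoc, Nat.xor_assoc, ← Nat.xor_assoc q, Nat.xor_comm q, Nat.xor_assoc r]

theorem xor_lt {v w : ℕ} (hv : v < 256) (hw : w < 256) : v ^^^ w < 256 :=
  Nat.xor_lt_two_pow (n := 8) hv hw

theorem app_lt {L : List ℕ} (hL : ∀ x ∈ L, x < 256) (v : ℕ) : app L v < 256 := by
  induction L generalizing v with
  | nil => simp [app_nil]
  | cons x L ih =>
    rw [app_cons]
    refine xor_lt ?_ (ih (fun y hy => hL y (by simp [hy])) _)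
    have := hL x (by simp)
    rcases Nat.mod_two_eq_zero_or_one v with hv | hv <;> simp [hv, this]

theorem app_map {f : ℕ → ℕ} (f0 : f 0 = 0)
    (fadd : ∀ v < 256, ∀ w < 256, f (v ^^^ w) = f v ^^^ f w) {L : List ℕ}
    (hL : ∀ x ∈ L, x < 256) (v : ℕ) : f (app L v) = app (L.map f) v := by
  induction L generalizing v with
  | nil => simp [app_nil, f0]
  | cons x L ih =>
    have hx := hL x (by simp)
    rw [app_cons, List.map_cons, app_cons, fadd _ _ _ (app_lt (fun y hy => hL y (by simp [hy])) _),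
      ih (fun y hy => hL y (by simp [hy]))]
    · congr 1
      rcases Nat.mod_two_eq_zero_or_one v with hv | hv <;> simp [hv, f0]
    · rcases Nat.mod_two_eq_zero_or_one v with hv | hv <;> simp [hv, hx]

theorem app_comp (M N : List ℕ) (v : ℕ) : app M (app N v) = app (comp M N) v := by
  induction N generalizing v with
  | nil => simp [comp, app_nil, app_zero]
  | cons x N ih =>
    rw [comp, List.map_cons, app_cons, app_cons, app_xor, ih]
    congr 1
    rcases Nat.mod_two_eq_zero_or_one v with hv | hv <;> simp [hv, app_zero]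

theorem comp_assoc (L M N : List ℕ) : comp (comp L M) N = comp L (comp M N) := by
  change List.map (app (comp L M)) N = List.map (app L) (List.map (app M) N)
  rw [List.map_map]
  apply List.map_congr_left
  intro x _
  exact (app_comp L M x).symm

theorem app_id : ∀ v < 256, app idL v = v := by decide +kernel

theorem comp_id {L : List ℕ} (h : L.length = 8) : comp L idL = L := by
  match L, h with
  | [a, b, c, d, e, f, g, k], _ => simp only [comp, idL, app_cons, app_nil, _root_.List.map_cons, _root_.Nat.mod_succ, _root_.one_mul, _root_.Nat.reduceDiv, _root_.Nat.zero_mod, _root_.MulZeroClass.zero_mul, _root_.Nat.zero_div, _root_.LawfulXor.xor_self, _root_.LawfulXor.xor_zero, _root_.Nat.mod_self, _root_.Order.lt_two_iff, _root_.zero_le, _root_.Nat.div_self, _root_.zero_xor, _root_.Nat.reduceMod, _root_.List.map_nil]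

theorem ext_of {L L' : List ℕ} (h : L.length = 8) (h' : L'.length = 8)
    (he : ∀ v < 256, app L v = app L' v) : L = L' := by
  rw [← comp_id h, ← comp_id h', comp, comp]
  apply List.map_congr_left
  intro x hx
  apply he
  simp [idL] at hx
  omega

theorem comp_length (M N : List ℕ) : (comp M N).length = N.length := by simp [comp]

theorem comp_lt {M : List ℕ} (hM : ∀ x ∈ M, x < 256) (N : List ℕ) : ∀ x ∈ comp M N, x < 256 := by
  intro x hx
  rw [comp, List.mem_map] at hx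
  obtain ⟨y, _, rfl⟩ := hx
  exact app_lt hM y

/-! ### actions -/

variable {G : Type*} [Group G]

/-- `q v`, `v < 256`, is an elementary abelian group -/
structure QS (q : ℕ → G) : Prop where
  mul : ∀ v < 256, ∀ w < 256, q v * q w = q (v ^^^ w)
  inj : ∀ v < 256, q v = 1 → v = 0

/-- `g` acts on `Q` by the matrix `L` -/
structure Acts (q : ℕ → G) (g : G) (L : List ℕ) : Prop where
  len : L.length = 8
  lt : ∀ x ∈ L, x < 256
  act : ∀ v < 256, g * q v = q (app L v) * g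

variable {q : ℕ → G}

namespace QS

variable (hq : QS q)
include hq

theorem zero : q 0 = 1 := by
  have := hq.mul 0 (by norm_num) 0 (by norm_num)
  simpa using this

theorem sq {v : ℕ} (hv : v < 256) : q v * q v = 1 := by
  rw [hq.mul v hv v hv, Nat.xor_self, hq.zero]

theorem inv {v : ℕ} (hv : v < 256) : (q v)⁻¹ = q v := inv_eq_of_mul_eq_one_left (hq.sq hv)

theorem comm {v w : ℕ} (hv : v < 256) (hw : w < 256) : q v * q w = q w * q v := by
  rw [hq.mul v hv w hw, hq.mul w hw v hv, Nat.xor_comm]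

theorem eq {v w : ℕ} (hv : v < 256) (hw : w < 256) (h : q v = q w) : v = w := by
  have h1 : q (v ^^^ w) = 1 := by rw [← hq.mul v hv w hw, h, hq.sq hw]
  exact Nat.xor_eq_zero_iff.mp (hq.inj _ (xor_lt hv hw) h1)

end QS

namespace Acts

theorem app_lt {g : G} {L : List ℕ} (h : Acts q g L) (v : ℕ) : app L v < 256 := WFour.app_lt h.lt v

theorem one : Acts q 1 idL :=
  ⟨rfl, by simp only [idL, _root_.List.mem_cons, _root_.List.not_mem_nil, _root_.or_false, _root_.forall_eq_or_imp, _root_.Nat.one_lt_ofNat, _root_.Nat.reduceLT, _root_.forall_eq, _root_.and_self], fun v hv => by rw [app_id v hv, one_mul, mul_one]⟩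

theorem mul {g g' : G} {L L' : List ℕ} (h : Acts q g L) (h' : Acts q g' L') :
    Acts q (g * g') (comp L L') := by
  refine ⟨by rw [comp_length, h'.len], comp_lt h.lt _, fun v hv => ?_⟩
  rw [mul_assoc, h'.act v hv, ← mul_assoc, h.act _ (h'.app_lt v), mul_assoc, app_comp]

theorem unique (hq : QS q) {g : G} {L L' : List ℕ} (h : Acts q g L) (h' : Acts q g L') :
    L = L' := by
  refine ext_of h.len h'.len fun v hv => ?_
  apply hq.eq (h.app_lt v) (h'.app_lt v)
  exact mul_right_cancel ((h.act v hv).symm.trans (h'.act v hv))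

theorem inj (hq : QS q) {g : G} {L : List ℕ} (h : Acts q g L) {v w : ℕ} (hv : v < 256)
    (hw : w < 256) (e : app L v = app L w) : v = w := by
  apply hq.eq hv hw
  have h1 := h.act v hv
  rw [e, ← h.act w hw] at h1
  exact mul_left_cancel h1

theorem surj (hq : QS q) {g : G} {L : List ℕ} (h : Acts q g L) {v : ℕ} (hv : v < 256) :
    ∃ w < 256, app L w = v := by
  have hinj : Function.Injective (fun w : Fin 256 => (⟨app L w, h.app_lt w⟩ : Fin 256)) := by
    intro x y e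
    exact Fin.ext (h.inj hq x.2 y.2 (Fin.mk.inj e))
  obtain ⟨w, hw⟩ := (Finite.injective_iff_surjective.mp hinj) ⟨v, hv⟩
  exact ⟨w, w.2, Fin.mk.inj hw⟩

theorem inv {g : G} {L L' : List ℕ} (h : Acts q g L) (hl : L'.length = 8)
    (h' : ∀ x ∈ L', x < 256) (e : comp L L' = idL) : Acts q g⁻¹ L' := by
  refine ⟨hl, h', fun v hv => ?_⟩
  have h1 := h.act _ (WFour.app_lt h' v)
  rw [app_comp, e, app_id v hv] at h1
  rw [inv_mul_eq_iff_eq_mul, ← mul_assoc, h1, mul_inv_cancel_right]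

/-- the matrix of the inverse exists -/
theorem exists_inv (hq : QS q) {g : G} {L : List ℕ} (h : Acts q g L) :
    ∃ L', Acts q g⁻¹ L' ∧ comp L L' = idL ∧ comp L' L = idL := by
  choose! f hf hf' using fun v (hv : v < 256) => h.surj hq hv
  have f0 : f 0 = 0 := h.inj hq (hf 0 (by norm_num)) (by norm_num) (by
    rw [hf' 0 (by norm_num), app_zero])
  have fadd : ∀ v < 256, ∀ w < 256, f (v ^^^ w) = f v ^^^ f w := by
    intro v hv w hw
    apply h.inj hq (hf _ (xor_lt hv hw)) (xor_lt (hf v hv) (hf w hw))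
    rw [app_xor, hf' v hv, hf' w hw, hf' _ (xor_lt hv hw)]
  have hid : ∀ x ∈ idL, x < 256 := by simp only [idL, _root_.List.mem_cons, _root_.List.not_mem_nil, _root_.or_false, _root_.forall_eq_or_imp, _root_.Nat.one_lt_ofNat, _root_.Nat.reduceLT, _root_.forall_eq, _root_.and_self]
  have hl : (idL.map f).length = 8 := by simp [idL]
  have hlt : ∀ x ∈ idL.map f, x < 256 := by
    intro x hx
    rw [List.mem_map] at hx
    obtain ⟨y, hy, rfl⟩ := hx
    exact hf y (hid y hy)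
  have e : comp L (idL.map f) = idL := by
    rw [comp, List.map_map]
    conv_rhs => rw [← List.map_id idL]
    apply List.map_congr_left
    intro x hx
    exact hf' x (hid x hx)
  have h1 := h.inv hl hlt e
  refine ⟨_, h1, e, ?_⟩
  have h2 : Acts q (g⁻¹ * g) (comp (idL.map f) L) := h1.mul h
  rw [inv_mul_cancel] at h2
  exact h2.unique hq Acts.one

/-- multiplication by an element centralizing `Q` -/
theorem cmul {g c : G} {L : List ℕ} (h : Acts q g L) (hc : Acts q c idL) : Acts q (c * g) L := by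
  have h1 := hc.mul h
  have : comp idL L = L := by
    rw [comp]
    conv_rhs => rw [← List.map_id L]
    apply List.map_congr_left
    intro x hx
    exact app_id x (h.lt x hx)
  rwa [this] at h1

theorem mulc {g c : G} {L : List ℕ} (h : Acts q g L) (hc : Acts q c idL) : Acts q (g * c) L := by
  have h1 := h.mul hc
  rwa [comp_id h.len] at h1

theorem q_acts (hq : QS q) {v : ℕ} (hv : v < 256) : Acts q (q v) idL :=
  ⟨rfl, by simp only [idL, _root_.List.mem_cons, _root_.List.not_mem_nil, _root_.or_false, _root_.forall_eq_or_imp, _root_.Nat.one_lt_ofNat, _root_.Nat.reduceLT, _root_.forall_eq, _root_.and_self], fun w hw => by rw [app_id w hw, hq.comm hv hw]⟩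

theorem inv_id {c : G} (hc : Acts q c idL) : Acts q c⁻¹ idL :=
  hc.inv rfl hc.lt (comp_id rfl)

theorem pow_id {c : G} (hc : Acts q c idL) (n : ℕ) : Acts q (c ^ n) idL := by
  induction n with
  | zero => rw [pow_zero]; exact Acts.one
  | succ n ih => rw [pow_succ]; exact ih.mulc hc

end Acts

end Cfsg.Agent.TypeM.WFour
end

-- part: TypeM/WFourBase
section
/-!
# Step W4 of Theorem W of S1739: the elements of `N(Q)` commuting with `t` modulo `C(Q)`
-/

set_option autoImplicit false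

namespace Cfsg.Agent.TypeM.WFour

open Cfsg.Agent.TypeM

variable {G : Type*} [Group G]

/-- `Q = {ε i * μ j}` -/
def qv (ε μ : ℕ → G) (v : ℕ) : G := ε (v % 16) * μ (v / 16)

theorem xor_mod16 (v w : ℕ) : (v ^^^ w) % 16 = v % 16 ^^^ w % 16 := by
  have := Nat.xor_mod_two_pow (a := v) (b := w) (n := 4)
  simpa using this

theorem xor_div16 (v w : ℕ) : (v ^^^ w) / 16 = v / 16 ^^^ w / 16 := by
  have := Nat.shiftRight_xor_distrib (a := v) (b := w) (i := 4)
  simpa [Nat.shiftRight_eq_div_pow] using this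

theorem lt16 (v : ℕ) : v % 16 < 16 := Nat.mod_lt _ (by norm_num)

theorem div16 {v : ℕ} (hv : v < 256) : v / 16 < 16 := by omega

/-- `t` -/
def tL : List ℕ := [1, 2, 4, 8, 17, 34, 68, 136]

/-- the diagonal action of `s k` -/
def dgL (k : ℕ) : List ℕ :=
  [gm k 1, gm k 2, gm k 4, gm k 8, 16 * gm k 1, 16 * gm k 2, 16 * gm k 4, 16 * gm k 8]

/-- matrix of a word -/
def wm : List ℕ → List ℕ
  | [] => idL
  | k :: w => comp (dgL k) (wm w)

theorem tL_spec : ∀ v < 256, app tL v % 16 = v % 16 ^^^ v / 16 ∧ app tL v / 16 = v / 16 := by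
  decide +kernel

private noncomputable def _root_.Cfsg.Agent.LsF.f561fd8_0 : {f // @Cfsg.Agent.TypeM.WFour.app = f} := ⟨_, by first | (delta Cfsg.Agent.TypeM.WFour.app List.brecOn List.brecOn.go Cfsg.Agent.TypeM.WFour.app._f; (try delta Cfsg.Agent.TypeM.WFour.app.match_1); (try delta List.casesOn); first | dsimp -zeta only | exact rfl) | exact rfl⟩
private noncomputable def _root_.Cfsg.Agent.LsF.f561fd8_1 : {f // @Cfsg.Agent.TypeM.gm = f} := ⟨_, by first | (delta Cfsg.Agent.TypeM.gm; rewrite [Cfsg.Agent.LsF.nmul_pat, Cfsg.Agent.LsF.nand_pat, Cfsg.Agent.LsF.nshr_pat, Cfsg.Agent.LsF.getD_eq]; exact rfl) | exact rfl⟩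
private noncomputable def _root_.Cfsg.Agent.LsF.f561fd8_2 : {f // @Cfsg.Agent.TypeM.WFour.dgL = f} := ⟨_, by first | (delta Cfsg.Agent.TypeM.WFour.dgL; rewrite [Cfsg.Agent.LsF.f561fd8_1.2, Cfsg.Agent.LsF.nmul_pat]; exact rfl) | exact rfl⟩
theorem dgL_spec : ∀ k < 5, ∀ v < 256,
    app (dgL k) v % 16 = gm k (v % 16) ∧ app (dgL k) v / 16 = gm k (v / 16) := by
  (set_option synthInstance.maxSize 100000 in exact Cfsg.Agent.Lib.Refl.of (by ((try (rewrite [Cfsg.Agent.LsF.f561fd8_0.2, Cfsg.Agent.LsF.f561fd8_2.2, Cfsg.Agent.LsF.f561fd8_1.2, Cfsg.Agent.LsF.ndiv_pat, Cfsg.Agent.LsF.nmod_pat])); decide +kernel)))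

theorem dgL_lt : ∀ k < 5, ∀ x ∈ dgL k, x < 256 := by decide +kernel

variable {t : G} {ε μ s : ℕ → G}

theorem qs (h : QConf t ε μ s) : QS (qv ε μ) := by
  constructor
  · intro v hv w hw
    have h1 := h.εmul _ (lt16 v) _ (lt16 w)
    have h2 := h.μmul _ (div16 hv) _ (div16 hw)
    have h3 := h.εμ _ (lt16 w) _ (div16 hv)
    rw [qv, qv, qv, xor_mod16, xor_div16, ← h1, ← h2]
    calc ε (v % 16) * μ (v / 16) * (ε (w % 16) * μ (w / 16))
        = ε (v % 16) * (μ (v / 16) * ε (w % 16)) * μ (w / 16) := by group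
      _ = ε (v % 16) * (ε (w % 16) * μ (v / 16)) * μ (w / 16) := by rw [h3]
      _ = _ := by group
  · intro v hv e
    obtain ⟨h1, h2⟩ := h.inj _ (lt16 v) _ (div16 hv) e
    omega

theorem acts_t (h : QConf t ε μ s) : Acts (qv ε μ) t tL := by
  refine ⟨rfl, by simp only [tL, _root_.List.mem_cons, _root_.List.not_mem_nil, _root_.or_false, _root_.forall_eq_or_imp, _root_.Nat.one_lt_ofNat, _root_.Nat.reduceLT, _root_.forall_eq, _root_.and_self], fun v hv => ?_⟩
  obtain ⟨e1, e2⟩ := tL_spec v hv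
  rw [qv, qv, e1, e2, ← h.εmul _ (lt16 v) _ (div16 hv), ← mul_assoc, h.tε _ (lt16 v), mul_assoc,
    h.tμ _ (div16 hv), ← h.εμ _ (div16 hv) _ (div16 hv)]
  simp only [mul_assoc]

theorem acts_s (h : QConf t ε μ s) {k : ℕ} (hk : k < 5) : Acts (qv ε μ) (s k) (dgL k) := by
  refine ⟨rfl, dgL_lt k hk, fun v hv => ?_⟩
  obtain ⟨e1, e2⟩ := dgL_spec k hk v hv
  rw [qv, qv, e1, e2, ← mul_assoc, h.sε k hk _ (lt16 v), mul_assoc, h.sμ k hk _ (div16 hv),
    mul_assoc]

theorem acts_word (h : QConf t ε μ s) (w : List ℕ) (hw : ∀ k ∈ w, k < 5) :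
    Acts (qv ε μ) (w.map s).prod (wm w) := by
  induction w with
  | nil => exact Acts.one
  | cons k w ih =>
    rw [List.map_cons, List.prod_cons]
    exact (acts_s h (hw k (by simp))).mul (ih fun k hk => hw k (by simp [hk]))

theorem tt_id : comp tL tL = idL := by decide +kernel

theorem tL_fix : ∀ v < 256, app tL v = v → v < 16 := by decide +kernel

/-- an element centralizing `Q` (as seen by `qv`) -/
theorem cen_of_acts (h : QConf t ε μ s) {c : G} (hc : Acts (qv ε μ) c idL) :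
    (∀ i < 16, c * ε i = ε i * c) ∧ (∀ i < 16, c * μ i = μ i * c) := by
  have hμ0 : μ 0 = 1 := by
    have := h.μmul 0 (by norm_num) 0 (by norm_num); simpa using this
  have hε0 : ε 0 = 1 := by
    have := h.εmul 0 (by norm_num) 0 (by norm_num); simpa using this
  constructor
  · intro i hi
    have h1 := hc.act i (by omega)
    rw [app_id i (by omega), qv, Nat.mod_eq_of_lt hi, Nat.div_eq_of_lt hi, hμ0, mul_one] at h1
    exact h1
  · intro i hi
    have h1 := hc.act (16 * i) (by omega)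
    rw [app_id _ (by omega), qv, Nat.mul_mod_right, Nat.mul_div_cancel_left _ (by norm_num), hε0,
      one_mul] at h1
    exact h1

theorem exists_twoElt_pow [Finite G] (r : G) : ∃ l : ℕ, TwoElt (r ^ (2 * l + 1)) := by
  obtain ⟨k, m, hm, e⟩ := Nat.exists_eq_two_pow_mul_odd (orderOf_pos r).ne'
  obtain ⟨l, rfl⟩ := hm
  refine ⟨l, k, ?_⟩
  rw [← pow_mul, mul_comm, ← e, pow_orderOf_eq_one]

/-- an involution acting as `t` is conjugate to `t` under `C(Q)` -/
theorem conj_t [Finite G] (h : QConf t ε μ s) {X : G} (hX : X * X = 1)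
    (hXa : Acts (qv ε μ) X tL) : ∃ c, Acts (qv ε μ) c idL ∧ c * X * c⁻¹ = t := by
  have hq := qs h
  have hr : Acts (qv ε μ) (X * t) idL := by
    have := hXa.mul (acts_t h); rwa [tt_id] at this
  obtain ⟨l, hl⟩ := exists_twoElt_pow (X * t)
  obtain ⟨hc1, hc2⟩ := cen_of_acts h (hr.pow_id (2 * l + 1))
  obtain ⟨i, hi, j, hj, e⟩ := h.cenQ _ hl hc1 hc2
  have htr : t * (X * t) = (X * t)⁻¹ * t := by
    rw [mul_inv_rev, inv_eq_of_mul_eq_one_left h.tt, inv_eq_of_mul_eq_one_left hX]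
    simp [mul_assoc]
  have htrn : ∀ n : ℕ, t * (X * t) ^ n = ((X * t) ^ n)⁻¹ * t := by
    intro n
    induction n with
    | zero => simp
    | succ n ih =>
      rw [pow_succ, ← mul_assoc, ih, mul_assoc, htr, ← mul_assoc, ← mul_inv_rev, ← pow_succ',
        ← pow_succ]
  -- `r ^ (2 l + 1) = q v`
  set v := i + 16 * j with hv
  have hv256 : v < 256 := by omega
  have ev : (X * t) ^ (2 * l + 1) = qv ε μ v := by
    rw [e, qv]; congr 2 <;> omega
  have hvt : app tL v = v := by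
    apply hq.eq ((acts_t h).app_lt v) hv256
    have h1 := (acts_t h).act v hv256
    rw [← ev, htrn, ev, hq.inv hv256] at h1
    exact (mul_right_cancel h1).symm
  have hv16 := tL_fix v hv256 hvt
  have hμ : qv ε μ (16 * v) * t * (qv ε μ (16 * v))⁻¹ = qv ε μ v * t := by
    have h256 : 16 * v < 256 := by omega
    rw [hq.inv h256, mul_assoc, (acts_t h).act _ h256, ← mul_assoc,
      hq.mul _ h256 _ ((acts_t h).app_lt _)]
    congr 2
    have : ∀ v < 16, 16 * v ^^^ app tL (16 * v) = v := by decide +kernel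
    exact this v hv16
  have hcomm : qv ε μ v * (X * t) = (X * t) * qv ε μ v := by
    rw [← ev]; exact (pow_mul_comm' _ _)
  have key : (X * t) ^ (l + 1) * (qv ε μ v * t) * ((X * t) ^ (l + 1))⁻¹ = X := by
    have h1 : t * ((X * t) ^ (l + 1))⁻¹ = (X * t) ^ (l + 1) * t := by
      rw [mul_inv_eq_iff_eq_mul, mul_assoc, htrn, mul_inv_cancel_left]
    have h2 : (X * t) ^ (l + 1) * qv ε μ v * (X * t) ^ (l + 1) = X * t := by
      have h3 : qv ε μ v * (X * t) ^ (l + 1) = (X * t) ^ (l + 1) * qv ε μ v :=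
        ((show Commute (qv ε μ v) (X * t) from hcomm).pow_right (l + 1)).eq
      rw [mul_assoc, h3, ← mul_assoc, ← pow_add, ← ev]
      have h4 : (X * t) ^ (2 * l + 1) * (X * t) ^ (2 * l + 1) = 1 := by
        rw [ev, hq.sq hv256]
      rw [show l + 1 + (l + 1) = 1 + (2 * l + 1) by ring, pow_add, pow_one, mul_assoc, h4, mul_one]
    calc (X * t) ^ (l + 1) * (qv ε μ v * t) * ((X * t) ^ (l + 1))⁻¹
        = (X * t) ^ (l + 1) * qv ε μ v * (t * ((X * t) ^ (l + 1))⁻¹) := by group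
      _ = ((X * t) ^ (l + 1) * qv ε μ v * (X * t) ^ (l + 1)) * t := by rw [h1]; group
      _ = X := by rw [h2, mul_assoc, h.tt, mul_one]
  have h256 : 16 * v < 256 := by omega
  rw [← hμ] at key
  obtain ⟨d, hd, hdX⟩ : ∃ d, Acts (qv ε μ) d idL ∧ d * t * d⁻¹ = X :=
    ⟨(X * t) ^ (l + 1) * qv ε μ (16 * v), (hr.pow_id (l + 1)).mulc (Acts.q_acts hq h256), by
      refine Eq.trans ?_ key
      group⟩
  exact ⟨d⁻¹, hd.inv_id, by rw [← hdX]; group⟩

/-- an element whose matrix commutes with `t` may be replaced by one commuting with `t` -/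
theorem exists_comm [Finite G] (h : QConf t ε μ s) {g : G} {L : List ℕ} (hg : Acts (qv ε μ) g L)
    (hL : comp L tL = comp tL L) : ∃ g', Acts (qv ε μ) g' L ∧ g' * t = t * g' := by
  obtain ⟨L', h1, h2, h3⟩ := hg.exists_inv (qs h)
  have hX : Acts (qv ε μ) (g * t * g⁻¹) tL := by
    have h4 := (hg.mul (acts_t h)).mul h1
    rwa [hL, comp_assoc, h2, comp_id rfl] at h4
  obtain ⟨c, hc, e⟩ := conj_t h (X := g * t * g⁻¹) (by
    rw [show g * t * g⁻¹ * (g * t * g⁻¹) = g * (t * t) * g⁻¹ by group, h.tt]; group) hX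
  refine ⟨c * g, hg.cmul hc, ?_⟩
  calc c * g * t = (c * (g * t * g⁻¹) * c⁻¹) * (c * g) := by group
    _ = t * (c * g) := by rw [e]

/-! ### forbidden matrices -/

theorem app_append (A B : List ℕ) (v : ℕ) :
    app (A ++ B) v = app A v ^^^ app B (v / 2 ^ A.length) := by
  induction A generalizing v with
  | nil => simp [app_nil]
  | cons x A ih =>
    rw [List.cons_append, app_cons, ih, app_cons, List.length_cons, pow_succ', Nat.xor_assoc,
      Nat.div_div_eq_div_mul]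

theorem app_take4 {L : List ℕ} (hl : L.length = 8) {v : ℕ} (hv : v < 16) :
    app L v = app (L.take 4) v := by
  conv_lhs => rw [← List.take_append_drop 4 L]
  rw [app_append, List.length_take, hl]
  have : v / 2 ^ min 4 8 = 0 := by norm_num; omega
  rw [this, app_zero, Nat.xor_zero]

theorem tL_xor : ∀ v < 256, app tL v ^^^ v = v / 16 := by decide +kernel

theorem qv_eps (h : QConf t ε μ s) {i : ℕ} (hi : i < 16) : qv ε μ i = ε i := by
  have hμ0 : μ 0 = 1 := by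
    have := h.μmul 0 (by norm_num) 0 (by norm_num); simpa using this
  rw [qv, Nat.mod_eq_of_lt hi, Nat.div_eq_of_lt hi, hμ0, mul_one]

/-- a matrix commuting with `t` and trivial on `E` -/
theorem triv_E [Finite G] (h : QConf t ε μ s) {g' : G} {L : List ℕ}
    (hg' : Acts (qv ε μ) g' L) (hgt : g' * t = t * g') (hL : comp L tL = comp tL L)
    (hfix : ∀ v < 16, app L v = v) : L = idL ∨ L = tL := by
  have hq := qs h
  have hsm : ∀ v < 256, app L v ^^^ v < 16 := by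
    intro v hv
    have h1 : app L (app tL v) = app tL (app L v) := by rw [app_comp, hL, app_comp]
    have h2 : app L (app tL v ^^^ v) = app tL (app L v) ^^^ app L v := by rw [app_xor, h1]
    rw [tL_xor v hv, tL_xor _ (hg'.app_lt v), hfix _ (div16 hv)] at h2
    have h3 := xor_div16 (app L v) v
    rw [← h2, Nat.xor_self] at h3
    omega
  have hLL : comp L L = idL := by
    refine ext_of (by rw [comp_length, hg'.len]) rfl fun v hv => ?_
    rw [app_id v hv, ← app_comp]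
    have h1 := hfix _ (hsm v hv)
    rw [app_xor] at h1
    have h2 := congrArg (· ^^^ app L v) h1
    simp only [Nat.xor_assoc, Nat.xor_self, Nat.xor_zero] at h2
    rw [h2, Nat.xor_comm v, ← Nat.xor_assoc, Nat.xor_self, Nat.zero_xor]
  obtain ⟨l, hl⟩ := exists_twoElt_pow g'
  have hpow : ∀ l : ℕ, Acts (qv ε μ) (g' ^ (2 * l + 1)) L := by
    intro l
    induction l with
    | zero => simpa using hg'
    | succ l ih =>
      have h1 : Acts (qv ε μ) (g' * g') idL := by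
        have := hg'.mul hg'; rwa [hLL] at this
      have h2 := ih.mulc h1
      have : g' ^ (2 * l + 1) * (g' * g') = g' ^ (2 * (l + 1) + 1) := by
        rw [← pow_two, ← pow_add]
        congr 1
      rwa [this] at h2
  have hLa := hpow l
  obtain ⟨i, hi, e⟩ := h.cenF _ hl
    ((show Commute t g' from hgt.symm).pow_right _).eq (fun i hi => by
      have h1 := hLa.act i (by omega)
      rw [hfix i hi, qv_eps h hi] at h1
      exact h1)
  have hi256 : i < 256 := by omega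
  rcases e with e | e
  · have h1 := Acts.q_acts hq hi256
    rw [qv_eps h hi, ← e] at h1
    exact Or.inl (hLa.unique hq h1)
  · have h1 := (acts_t h).mulc (Acts.q_acts hq hi256)
    rw [qv_eps h hi, ← e] at h1
    exact Or.inr (hLa.unique hq h1)

/-! ### words -/

theorem id_comp {L : List ℕ} (hL : ∀ x ∈ L, x < 256) : comp idL L = L := by
  rw [comp]
  conv_rhs => rw [← List.map_id L]
  apply List.map_congr_left
  intro x hx
  exact app_id x (hL x hx)

theorem dgL_lt' (k : ℕ) : ∀ x ∈ dgL k, x < 256 := by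
  intro x hx
  have h := gm_lt k
  simp only [dgL, List.mem_cons, List.not_mem_nil, or_false] at hx
  rcases hx with rfl | rfl | rfl | rfl | rfl | rfl | rfl | rfl
  · have := h 1; omega
  · have := h 2; omega
  · have := h 4; omega
  · have := h 8; omega
  · have := h 1; omega
  · have := h 2; omega
  · have := h 4; omega
  · have := h 8; omega

theorem wm_len (w : List ℕ) : (wm w).length = 8 := by
  induction w with
  | nil => rfl
  | cons k w ih => rw [wm, comp_length, ih]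

theorem wm_lt (w : List ℕ) : ∀ x ∈ wm w, x < 256 := by
  cases w with
  | nil => simp only [wm, idL, _root_.List.mem_cons, _root_.List.not_mem_nil, _root_.or_false, _root_.forall_eq_or_imp, _root_.Nat.one_lt_ofNat, _root_.Nat.reduceLT, _root_.forall_eq, _root_.and_self]
  | cons k w => exact comp_lt (dgL_lt' k) _

theorem wm_append (u v : List ℕ) : wm (u ++ v) = comp (wm u) (wm v) := by
  induction u with
  | nil => exact (id_comp (wm_lt v)).symm
  | cons k u ih => rw [List.cons_append, wm, ih, wm, comp_assoc]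

theorem dg_sq : ∀ k < 5, comp (dgL k) (dgL k) = idL := by decide +kernel

theorem wm_one (k : ℕ) : wm [k] = dgL k := comp_id rfl

/-- inverse word -/
theorem wm_rev (w : List ℕ) (hw : ∀ k ∈ w, k < 5) : comp (wm w) (wm w.reverse) = idL := by
  induction w with
  | nil => rfl
  | cons k w ih =>
    rw [List.reverse_cons, wm_append, wm, wm_one, comp_assoc, ← comp_assoc (wm w),
      ih fun k hk => hw k (by simp [hk]), id_comp (dgL_lt' k), dg_sq k (hw k (by simp))]

theorem wm_rev' (w : List ℕ) (hw : ∀ k ∈ w, k < 5) : comp (wm w.reverse) (wm w) = idL := by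
  have := wm_rev w.reverse (fun k hk => hw k (by simpa using hk))
  rwa [List.reverse_reverse] at this

theorem dgL_app {k : ℕ} (hk : k < 5) {i : ℕ} (hi : i < 16) : app (dgL k) i = gm k i := by
  obtain ⟨h1, h2⟩ := dgL_spec k hk i (by omega)
  rw [Nat.mod_eq_of_lt hi] at h1
  rw [Nat.div_eq_of_lt hi] at h2
  have h3 : ∀ k < 5, gm k 0 = 0 := by decide +kernel
  rw [h3 k hk] at h2
  omega

theorem wm_app (w : List ℕ) (hw : ∀ k ∈ w, k < 5) {i : ℕ} (hi : i < 16) :
    app (wm w) i = act w i := by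
  induction w with
  | nil => rw [wm, app_id i (by omega), act_nil]
  | cons k w ih =>
    have hw' : ∀ k ∈ w, k < 5 := fun k hk => hw k (by simp [hk])
    rw [wm, ← app_comp, ih hw', act_cons, dgL_app (hw k (by simp)) (act_lt w hi)]

theorem tL_dg : ∀ k < 5, comp tL (dgL k) = comp (dgL k) tL := by decide +kernel

theorem tL_wm (w : List ℕ) (hw : ∀ k ∈ w, k < 5) : comp tL (wm w) = comp (wm w) tL := by
  induction w with
  | nil => rfl
  | cons k w ih =>
    rw [wm, ← comp_assoc, tL_dg k (hw k (by simp)), comp_assoc,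
      ih fun k hk => hw k (by simp [hk]), comp_assoc]

theorem word_t (h : QConf t ε μ s) (w : List ℕ) (hw : ∀ k ∈ w, k < 5) :
    (w.map s).prod * t = t * (w.map s).prod := by
  induction w with
  | nil => simp
  | cons k w ih =>
    rw [List.map_cons, List.prod_cons, mul_assoc, ih fun k hk => hw k (by simp [hk]),
      ← mul_assoc, ← mul_assoc, h.st k (hw k (by simp))]

/-- **(C2)** an element of `N(Q)` whose matrix commutes with `t` lies in `⟨t⟩ × A₇` modulo `C(Q)` -/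
theorem real_comm [Finite G] (h : QConf t ε μ s)
    (aut : ∀ c : G, c * t = t * c → (∀ i < 16, ∃ j < 16, c * ε i * c⁻¹ = ε j) →
      ∃ w : List ℕ, (∀ k ∈ w, k < 5) ∧ ∀ i < 16, c * ε i * c⁻¹ = ε (act w i))
    {g : G} {L : List ℕ} (hg : Acts (qv ε μ) g L) (hL : comp L tL = comp tL L) :
    ∃ w : List ℕ, (∀ k ∈ w, k < 5) ∧ (L = wm w ∨ L = comp tL (wm w)) := by
  have hq := qs h
  obtain ⟨g', hg', hgt⟩ := exists_comm h hg hL
  have hlt : ∀ i < 16, app L i < 16 := by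
    intro i hi
    apply tL_fix _ (hg.app_lt i)
    have h1 : ∀ i < 16, app tL i = i := by decide +kernel
    rw [app_comp, ← hL, ← app_comp, h1 i hi]
  have hgε : ∀ i < 16, g' * ε i * g'⁻¹ = ε (app L i) := by
    intro i hi
    have h1 := hg'.act i (by omega)
    rw [qv_eps h hi, qv_eps h (hlt i hi)] at h1
    rw [h1, mul_inv_cancel_right]
  obtain ⟨w, hw, he⟩ := aut g' hgt fun i hi => ⟨_, hlt i hi, hgε i hi⟩
  have hLw : ∀ i < 16, app L i = act w i := by
    intro i hi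
    have h1 := hgε i hi
    rw [he i hi] at h1
    have h2 := hq.eq (v := act w i) (w := app L i)
      (by have := act_lt w hi; omega) (by have := hlt i hi; omega)
      (by rw [qv_eps h (act_lt w hi), qv_eps h (hlt i hi), h1])
    exact h2.symm
  have hrev : ∀ k ∈ w.reverse, k < 5 := fun k hk => hw k (by simpa using hk)
  -- `g'' = w⁻¹ g'`
  have h2 := (acts_word h w.reverse hrev).mul hg'
  have hcomm : comp (comp (wm w.reverse) L) tL = comp tL (comp (wm w.reverse) L) := by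
    rw [comp_assoc, hL, ← comp_assoc, ← comp_assoc, tL_wm _ hrev]
  have h3 := triv_E h h2 (by rw [mul_assoc, hgt, ← mul_assoc, word_t h _ hrev, mul_assoc]) hcomm
    (fun i hi => by
      rw [← app_comp, hLw i hi, ← wm_app w hw hi, app_comp, wm_rev' w hw, app_id i (by omega)])
  have h4 : ∀ M, comp (wm w.reverse) L = M → L = comp (wm w) M := by
    intro M e
    rw [← e, ← comp_assoc, wm_rev w hw, id_comp hg.lt]
  refine ⟨w, hw, ?_⟩
  rcases h3 with e | e
  · left; rw [h4 _ e, comp_id (wm_len w)]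
  · right; rw [h4 _ e, tL_wm w hw]

end Cfsg.Agent.TypeM.WFour
end

-- part: TypeM/WFourMat
section
/-!
# Step W4 of Theorem W of S1739: finite checks

`A₇` acts on 7 points; the 35 lines of `E` correspond to the 35 triples.  `triple u v` is the bit mask
of the triple of the line through `u, v`.  A matrix in `GL₄(2)` lies in `A₇` iff it preserves
disjointness for two explicit pairs of lines (`inA`).
-/

set_option autoImplicit false

namespace Cfsg.Agent.TypeM.WFour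

open Cfsg.Agent.TypeM

def tripT : ℕ := 0x1a0d685431264343263154680d1a001a0046232c49701570152c4946231a000d460034612a13582a615813460d3400682334001952450e1952450e68233400542c611900074a3219612c54324a070031492a5207001c642a5231491c640700267013454a1c0029702645131c4a29004315580e326429004315580e3264290043702a19192a7043004c162525164c0026156152615226154c000b380b384c00312c58452c314558160b00620b1662005449130e5449130e253862002538620068464668321c1c32250b0b25005151000d230d234a644a6416381638510051001a1a3434070729294c4c62625151000000000000000000000000000000000000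

def triple (u v : ℕ) : ℕ := (tripT >>> (8 * (16 * u + v))) &&& 127

/-- the five generators on the 7 points -/
def p7 (k i : ℕ) : ℕ :=
  ([[0, 5, 3, 2, 4, 1, 6], [6, 3, 2, 1, 4, 5, 0], [3, 6, 2, 0, 4, 5, 1], [4, 1, 3, 2, 0, 5, 6],
    [6, 2, 1, 3, 4, 5, 0]].getD k []).getD i 0

private noncomputable def _root_.Cfsg.Agent.LsF.f561fd8_3 : {f // @Cfsg.Agent.TypeM.WFour.triple = f} := ⟨_, by first | (delta Cfsg.Agent.TypeM.WFour.triple; rewrite [Cfsg.Agent.LsF.nadd_pat, Cfsg.Agent.LsF.nmul_pat, Cfsg.Agent.LsF.nand_pat, Cfsg.Agent.LsF.nshr_pat]; exact rfl) | exact rfl⟩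
private noncomputable def _root_.Cfsg.Agent.LsF.f561fd8_4 : {f // @Cfsg.Agent.TypeM.WFour.p7 = f} := ⟨_, by first | (delta Cfsg.Agent.TypeM.WFour.p7; rewrite [Cfsg.Agent.LsF.getD_eq]; exact rfl) | exact rfl⟩
theorem triple_gm : ∀ k < 5, ∀ i < 7, ∀ u < 16, ∀ v < 16,
    (triple (gm k u) (gm k v)).testBit (p7 k i) = (triple u v).testBit i := by (set_option synthInstance.maxSize 100000 in exact Cfsg.Agent.Lib.Refl.of (by ((try (rewrite [Cfsg.Agent.LsF.f561fd8_3.2, Cfsg.Agent.LsF.f561fd8_1.2, Cfsg.Agent.LsF.f561fd8_4.2, Cfsg.Agent.LsF.testBit_eq])); decide +kernel)))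

theorem p7_surj : ∀ k < 5, ∀ j < 7, ∃ i < 7, p7 k i = j := by decide +kernel

theorem triple_lt (u v : ℕ) : triple u v < 2 ^ 7 :=
  Nat.lt_of_le_of_lt Nat.and_le_right (by norm_num)

/-- disjoint lines -/
def dj (u v u' v' : ℕ) : Prop := ∀ i < 7, (triple u v).testBit i = true →
  (triple u' v').testBit i = false

theorem dj_iff (u v u' v' : ℕ) : dj u v u' v' ↔ triple u v &&& triple u' v' = 0 := by
  constructor
  · intro h
    apply Nat.eq_of_testBit_eq
    intro i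
    rw [Nat.testBit_and, Nat.zero_testBit]
    by_cases hi : i < 7
    · by_cases h1 : (triple u v).testBit i = true
      · rw [h i hi h1, Bool.and_false]
      · simp only [Bool.not_eq_true] at h1
        rw [h1, Bool.false_and]
    · have : (triple u v).testBit i = false :=
        Nat.testBit_eq_false_of_lt (lt_of_lt_of_le (triple_lt u v)
          (Nat.pow_le_pow_right (by norm_num) (by omega)))
      rw [this, Bool.false_and]
  · intro h i _ h1
    have := congrArg (fun n => n.testBit i) h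
    simpa [Nat.testBit_and, h1] using this

theorem dj_gm {k : ℕ} (hk : k < 5) {u v u' v' : ℕ} (hu : u < 16) (hv : v < 16) (hu' : u' < 16)
    (hv' : v' < 16) (h : dj u v u' v') : dj (gm k u) (gm k v) (gm k u') (gm k v') := by
  intro j hj h1
  obtain ⟨i, hi, rfl⟩ := p7_surj k hk j hj
  rw [triple_gm k hk i hi u hu v hv] at h1
  rw [triple_gm k hk i hi u' hu' v' hv']
  exact h i hi h1

theorem dj_act (w : List ℕ) (hw : ∀ k ∈ w, k < 5) {u v u' v' : ℕ} (hu : u < 16) (hv : v < 16)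
    (hu' : u' < 16) (hv' : v' < 16) (h : dj u v u' v') :
    dj (act w u) (act w v) (act w u') (act w v') := by
  induction w with
  | nil => exact h
  | cons k w ih =>
    have hw' : ∀ k ∈ w, k < 5 := fun k hk => hw k (by simp [hk])
    simp only [act_cons]
    exact dj_gm (hw k (by simp)) (act_lt w hu) (act_lt w hv) (act_lt w hu') (act_lt w hv') (ih hw')

/-- the criterion for a matrix `M` (images of `1, 2, 4, 8`) to lie in `A₇` -/
def inA (M : List ℕ) : Bool :=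
  (triple (app M 1) (app M 2) &&& triple (app M 4) (app M 8) == 0) &&
    (triple (app M 1) (app M 2) &&& triple (app M 5) (app M 11) == 0)

/-- the matrix on `E` of a word -/
def em (w : List ℕ) : List ℕ := [act w 1, act w 2, act w 4, act w 8]

theorem em_app (w : List ℕ) (hw : ∀ k ∈ w, k < 5) {i : ℕ} (hi : i < 16) : app (em w) i = act w i := by
  have hlt : ∀ i < 16, act w i < 16 := fun i hi => act_lt w hi
  have h0 : app (em w) i = app ((wm w).take 4) i := by
    have : (wm w).take 4 = em w := by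
      have h := wm_len w
      have e1 := wm_app w hw (i := 1) (by norm_num)
      have e2 := wm_app w hw (i := 2) (by norm_num)
      have e4 := wm_app w hw (i := 4) (by norm_num)
      have e8 := wm_app w hw (i := 8) (by norm_num)
      rw [em, ← e1, ← e2, ← e4, ← e8]
      generalize wm w = L at h
      match L, h with
      | [a, b, c, d, e, f, g, k], _ => simp only [app_cons, app_nil, _root_.List.take_succ_cons, _root_.List.take_zero, _root_.Nat.mod_succ, _root_.one_mul, _root_.Nat.reduceDiv, _root_.Nat.zero_mod, _root_.MulZeroClass.zero_mul, _root_.Nat.zero_div, _root_.LawfulXor.xor_self, _root_.LawfulXor.xor_zero, _root_.Nat.mod_self, _root_.Order.lt_two_iff, _root_.zero_le, _root_.Nat.div_self, _root_.zero_xor, _root_.Nat.reduceMod]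
    rw [this]
  rw [h0, ← app_take4 (wm_len w) hi, wm_app w hw hi]

theorem inA_word (w : List ℕ) (hw : ∀ k ∈ w, k < 5) : inA (em w) = true := by
  have h1 := (dj_iff _ _ _ _).mp (dj_act w hw (u := 1) (v := 2) (u' := 4) (v' := 8) (by norm_num)
    (by norm_num) (by norm_num) (by norm_num) ((dj_iff _ _ _ _).mpr (by decide +kernel)))
  have h2 := (dj_iff _ _ _ _).mp (dj_act w hw (u := 1) (v := 2) (u' := 5) (v' := 11) (by norm_num)
    (by norm_num) (by norm_num) (by norm_num) ((dj_iff _ _ _ _).mpr (by decide +kernel)))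
  simp only [inA, em_app w hw (i := 1) (by norm_num), em_app w hw (i := 2) (by norm_num),
    em_app w hw (i := 4) (by norm_num), em_app w hw (i := 8) (by norm_num),
    em_app w hw (i := 5) (by norm_num), em_app w hw (i := 11) (by norm_num), h1, h2,
    beq_self_eq_true, Bool.and_self]

theorem wm_app16 (w : List ℕ) (hw : ∀ k ∈ w, k < 5) {i : ℕ} (hi : i < 16) :
    app (wm w) (16 * i) = 16 * act w i := by
  induction w with
  | nil => rw [wm, app_id _ (by omega), act_nil]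
  | cons k w ih =>
    have hw' : ∀ k ∈ w, k < 5 := fun k hk => hw k (by simp [hk])
    have hlt := act_lt w hi
    rw [wm, ← app_comp, ih hw', act_cons]
    obtain ⟨h1, h2⟩ := dgL_spec k (hw k (by simp)) (16 * act w i) (by omega)
    rw [Nat.mul_mod_right] at h1
    rw [Nat.mul_div_cancel_left _ (by norm_num)] at h2
    have h3 : ∀ k < 5, gm k 0 = 0 := by decide +kernel
    rw [h3 k (hw k (by simp))] at h1
    omega

theorem wm_eq (w : List ℕ) (hw : ∀ k ∈ w, k < 5) : wm w = em w ++ (em w).map (16 * ·) := by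
  have e1 := wm_app w hw (i := 1) (by norm_num)
  have e2 := wm_app w hw (i := 2) (by norm_num)
  have e4 := wm_app w hw (i := 4) (by norm_num)
  have e8 := wm_app w hw (i := 8) (by norm_num)
  have f1 := wm_app16 w hw (i := 1) (by norm_num)
  have f2 := wm_app16 w hw (i := 2) (by norm_num)
  have f4 := wm_app16 w hw (i := 4) (by norm_num)
  have f8 := wm_app16 w hw (i := 8) (by norm_num)
  have h : comp (wm w) idL = wm w := comp_id (wm_len w)
  rw [← h, em, ← e1, ← e2, ← e4, ← e8, comp, idL]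
  simp only [List.map_cons, List.map_nil, List.cons_append, List.nil_append, e1, e2, e4, e8]
  norm_num at f1 f2 f4 f8
  rw [f1, f2, f4, f8]

/-! ### the centralizer of `w = s 0` -/

/-- words for the 24 elements of `C(w)` in `A₇` -/
def c24w : List (List ℕ) :=
  [[3, 1, 0, 1], [1, 3, 0, 4], [4, 3, 1], [4, 1, 3, 1], [1, 0, 1, 3], [4, 0, 4], [], [0],
   [1, 0, 4, 1], [1, 4, 0, 1], [4, 3, 1, 0], [1, 4, 1], [4, 3, 0, 1], [4, 3, 0, 4, 1],
   [3, 4, 3, 0, 1], [4, 1, 3, 1, 0], [3, 0], [3], [3, 4, 3, 1, 0], [1, 4, 1, 0], [3, 4, 3, 1],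
   [1, 0, 1], [4, 1, 3, 0, 1], [4, 0, 1, 3, 1]]

/-- the matrix commuting with `w` with `4 ↦ x`, `8 ↦ y` -/
def M24 (x y : ℕ) : List ℕ := [x ^^^ gm 0 x, x ^^^ gm 0 x ^^^ y ^^^ gm 0 y, x, y]

private noncomputable def _root_.Cfsg.Agent.LsF.f561fd8_5 : {f // @Cfsg.Agent.TypeM.WFour.M24 = f} := ⟨_, by first | (delta Cfsg.Agent.TypeM.WFour.M24; rewrite [Cfsg.Agent.LsF.f561fd8_1.2, Cfsg.Agent.LsF.nxor_pat]; exact rfl) | exact rfl⟩
private noncomputable def _root_.Cfsg.Agent.LsF.f561fd8_6 : {f // @Cfsg.Agent.TypeM.WFour.inA = f} := ⟨_, by first | (delta Cfsg.Agent.TypeM.WFour.inA; rewrite [Cfsg.Agent.LsF.f561fd8_3.2, Cfsg.Agent.LsF.f561fd8_0.2, Cfsg.Agent.LsF.nand_pat, Cfsg.Agent.LsF.nbeq_pat, Cfsg.Agent.LsF.and_eq]; exact rfl) | exact rfl⟩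
private noncomputable def _root_.Cfsg.Agent.LsF.f561fd8_7 : {f // @Cfsg.Agent.TypeM.act = f} := ⟨_, by first | (delta Cfsg.Agent.TypeM.act; rewrite [Cfsg.Agent.LsF.f561fd8_1.2, Cfsg.Agent.LsF.foldr_eq]; exact rfl) | exact rfl⟩
private noncomputable def _root_.Cfsg.Agent.LsF.f561fd8_8 : {f // @Cfsg.Agent.TypeM.WFour.em = f} := ⟨_, by first | (delta Cfsg.Agent.TypeM.WFour.em; rewrite [Cfsg.Agent.LsF.f561fd8_7.2]; exact rfl) | exact rfl⟩
theorem c24_check : ((List.range 16).all fun x => (List.range 16).all fun y =>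
    ((List.range 15).any fun i => app (M24 x y) (i + 1) == 0) || !inA (M24 x y) ||
      (c24w.map em).any fun M => M == M24 x y) = true := by ((try (rewrite [Cfsg.Agent.LsF.f561fd8_0.2, Cfsg.Agent.LsF.f561fd8_5.2, Cfsg.Agent.LsF.f561fd8_6.2, Cfsg.Agent.LsF.f561fd8_8.2, Cfsg.Agent.LsF.nadd_pat, Cfsg.Agent.LsF.nbeq_pat, Cfsg.Agent.LsF.instNBEq_pat, Cfsg.Agent.LsF.or_eq, Cfsg.Agent.LsF.not_eq, Cfsg.Agent.LsF.all_eq, Cfsg.Agent.LsF.any_eq, Cfsg.Agent.LsF.map_eq, Cfsg.Agent.LsF.range_eq, Cfsg.Agent.LsF.instBEq_eq])); decide +kernel)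

/-- `⟨t⟩ × C(w)` -/
def C48 : List (List ℕ) := c24w.map wm ++ c24w.map fun w => comp tL (wm w)

/-- `t w` -/
def tpL : List ℕ := comp tL (dgL 0)

def bL : List ℕ := wm [3, 0]
def oL : List ℕ := wm [3, 4, 3, 1]
def fL : List ℕ := wm [1, 0, 1, 3]

def coords2 : List ℕ := [255, 204, 195, 3, 85, 68, 65, 1]

def pairs2 : List (List ℕ × List ℕ) :=
  let Bs := C48.filter fun B => comp B B == idL
  let Os := C48.filter fun O => comp O (comp O O) == idL && !(O == idL)
  (Os.map fun O => (Bs.filter fun B => comp B (comp O (comp B O)) == idL).map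
    fun B => (B, O)).flatten

def F12 : List (List ℕ) := C48.filter fun F => comp F F == dgL 0

/-- `diag(w, 1)` and representatives of the other three cosets -/
def W0 : List ℕ := [1, 2, 20, 56, 16, 32, 80, 176]
def reps : List (List ℕ) :=
  [W0, [2, 3, 45, 23, 32, 48, 242, 97], [2, 3, 44, 20, 33, 50, 244, 104],
   [2, 3, 44, 20, 33, 50, 246, 105]]

def chk2 (B O : List ℕ) (u : ℕ) : Bool :=
  let tu := app tpL u
  let bu := app B u
  let tbu := app tpL bu
  let wu := app (dgL 0) u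
  let wtu := app (dgL 0) tu
  let wbu := app (dgL 0) bu
  let wtbu := app (dgL 0) tbu
  if (u ^^^ wbu) != app O u then true else
  if (u ^^^ tu ^^^ bu ^^^ tbu ^^^ wu ^^^ wtu ^^^ wbu ^^^ wtbu) == 0 then true else
  let D := comp [u, tu, bu, tbu, wu, wtu, wbu, wtbu] coords2
  !(comp D tL == comp tpL D) || !(comp D (dgL 0) == comp (dgL 0) D) || !(comp D bL == comp B D)
    || !(comp D oL == comp O D) || !(F12.any fun F => comp D fL == comp F D)
    || C48.any fun x => reps.any fun R => (app x u == app R 128) && (comp x D == R)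

/-! ### other data -/

/-- words for the six involutions of `A₇` interchanging `1` and `2` -/
def l6w : List (List ℕ) :=
  [[0, 4, 2, 3, 2], [4, 2, 3, 2], [2, 3, 4, 0, 2], [2, 4, 3, 2], [4, 0, 2, 4], [4, 2, 4]]

private noncomputable def _root_.Cfsg.Agent.LsF.f561fd8_9 : {f // @Cfsg.Agent.TypeM.WFour.comp = f} := ⟨_, by first | (delta Cfsg.Agent.TypeM.WFour.comp; rewrite [Cfsg.Agent.LsF.f561fd8_0.2, Cfsg.Agent.LsF.map_eq]; exact rfl) | exact rfl⟩
theorem l6_check : ((List.range 16).all fun x => (List.range 16).all fun y =>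
    ((List.range 15).any fun i => app [2, 1, x, y] (i + 1) == 0) || !inA [2, 1, x, y] ||
      !(comp [2, 1, x, y] [2, 1, x, y] == [1, 2, 4, 8]) ||
      l6w.any fun u => comp [2, 1, x, y] (em u) == comp (em u) [1, 2, 5, 11]) = true := by
  ((try (rewrite [Cfsg.Agent.LsF.f561fd8_0.2, Cfsg.Agent.LsF.f561fd8_6.2, Cfsg.Agent.LsF.f561fd8_9.2, Cfsg.Agent.LsF.f561fd8_8.2, Cfsg.Agent.LsF.nadd_pat, Cfsg.Agent.LsF.nbeq_pat, Cfsg.Agent.LsF.instNBEq_pat, Cfsg.Agent.LsF.or_eq, Cfsg.Agent.LsF.not_eq, Cfsg.Agent.LsF.all_eq, Cfsg.Agent.LsF.any_eq, Cfsg.Agent.LsF.range_eq, Cfsg.Agent.LsF.instBEq_eq])); decide +kernel)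

/-- inverses of `reps` -/
def repsI : List (List ℕ) :=
  [W0, [3, 1, 58, 45, 48, 16, 147, 242], [3, 1, 58, 45, 50, 19, 190, 229],
    [3, 1, 58, 45, 50, 19, 189, 231]]

theorem repsI_spec : ∀ j < 4, comp (reps.getD j []) (repsI.getD j []) = idL := by decide +kernel

theorem repsI_lt : ∀ j < 4, ∀ x ∈ repsI.getD j [], x < 256 := by decide +kernel

/-- necessary condition for `r` to lie in `⟨t⟩ × A₇` -/
def okY (r : List ℕ) : Bool :=
  inA (r.take 4) && (r.drop 4 == (r.take 4).map (16 * ·) || r.drop 4 == (r.take 4).map (17 * ·))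

/-- `γ s_k γ⁻¹` -/
def Bk (j k : ℕ) : List ℕ := comp (comp (repsI.getD j []) (dgL k)) (reps.getD j [])

def xj (j : ℕ) : List ℕ := if j = 1 then comp (Bk 1 2) (comp (dgL 1) (Bk 1 2))
  else comp (Bk j 2) (comp (dgL 1) (Bk j 4))

def xjI (j : ℕ) : List ℕ := if j = 1 then comp (Bk 1 2) (comp (dgL 1) (Bk 1 2))
  else comp (Bk j 4) (comp (dgL 1) (Bk j 2))

def pj (j : ℕ) : List ℕ := comp tL (comp (xjI j) (comp tL (xj j)))

def rj (j : ℕ) : List ℕ := if j = 1 then comp (pj 1) (comp (pj 1) (pj 1)) else pj j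

theorem rj_check : ∀ j < 4, j = 0 ∨ comp (rj j) tL = comp tL (rj j) ∧ okY (rj j) = false := by
  decide +kernel

/-- the words `g k` with `s k = w'' ^ (g k)` -/
def gw (k : ℕ) : List ℕ := [[4], [0, 2], [0, 2, 4], [1, 3, 0, 2], [1, 4, 0, 2]].getD k []

theorem gw_lt : ∀ k < 5, ∀ i ∈ gw k, i < 5 := by decide +kernel

/-- `diag(w'', 1)`, `w'' = w w^b` -/
def W2 : List ℕ := comp (comp (comp W0 (wm [1])) W0) (wm [1])

def Dk (k : ℕ) : List ℕ := comp (comp (wm (gw k)) W2) (wm (gw k).reverse)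

theorem Dk_spec : ∀ k < 5, ∀ j < 16, app (Dk k) (16 * j) = 16 * gm k j ∧
    app (Dk k) (17 * j) = 17 * j := by decide +kernel

end Cfsg.Agent.TypeM.WFour
end

-- part: TypeM/WFourChk
section
/-!
# Step W4 of Theorem W of S1739: the main finite check
-/

set_option autoImplicit false

namespace Cfsg.Agent.TypeM.WFour

open Cfsg.Agent.TypeM

noncomputable def p4app (L : List ℕ) : ℕ → ℕ :=
  List.rec (fun _ => 0) (fun x _ ih v => Nat.xor (Nat.mul (Nat.mod v 2) x) (ih (Nat.div v 2))) L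

theorem p4app_eq : app = p4app := by
  funext L
  induction L with
  | nil => rfl
  | cons x L ih =>
    funext v
    show Nat.xor (Nat.mul (Nat.mod v 2) x) (app L (Nat.div v 2)) = _
    rw [ih]
    rfl

theorem p4C48 : C48 = [[1, 3, 7, 13, 16, 48, 112, 208], [3, 2, 9, 6, 48, 32, 144, 96], [3, 2, 8, 4, 48, 32, 128, 64],
  [3, 1, 8, 12, 48, 16, 128, 192], [1, 3, 6, 15, 16, 48, 96, 240], [1, 2, 7, 10, 16, 32, 112, 160],
  [1, 2, 4, 8, 16, 32, 64, 128], [1, 2, 5, 11, 16, 32, 80, 176], [2, 1, 15, 9, 32, 16, 240, 144],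
  [2, 1, 13, 10, 32, 16, 208, 160], [3, 2, 11, 5, 48, 32, 176, 80], [2, 1, 12, 8, 32, 16, 192, 128],
  [3, 2, 10, 7, 48, 32, 160, 112], [2, 3, 13, 7, 32, 48, 208, 112], [2, 3, 15, 6, 32, 48, 240, 96],
  [3, 1, 11, 14, 48, 16, 176, 224], [1, 3, 5, 14, 16, 48, 80, 224], [1, 3, 4, 12, 16, 48, 64, 192],
  [2, 3, 14, 5, 32, 48, 224, 80], [2, 1, 14, 11, 32, 16, 224, 176], [2, 3, 12, 4, 32, 48, 192, 64],
  [1, 2, 6, 9, 16, 32, 96, 144], [3, 1, 9, 15, 48, 16, 144, 240], [3, 1, 10, 13, 48, 16, 160, 208],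
  [1, 3, 7, 13, 17, 51, 119, 221], [3, 2, 9, 6, 51, 34, 153, 102], [3, 2, 8, 4, 51, 34, 136, 68],
  [3, 1, 8, 12, 51, 17, 136, 204], [1, 3, 6, 15, 17, 51, 102, 255], [1, 2, 7, 10, 17, 34, 119, 170],
  [1, 2, 4, 8, 17, 34, 68, 136], [1, 2, 5, 11, 17, 34, 85, 187], [2, 1, 15, 9, 34, 17, 255, 153],
  [2, 1, 13, 10, 34, 17, 221, 170], [3, 2, 11, 5, 51, 34, 187, 85], [2, 1, 12, 8, 34, 17, 204, 136],
  [3, 2, 10, 7, 51, 34, 170, 119], [2, 3, 13, 7, 34, 51, 221, 119], [2, 3, 15, 6, 34, 51, 255, 102],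
  [3, 1, 11, 14, 51, 17, 187, 238], [1, 3, 5, 14, 17, 51, 85, 238], [1, 3, 4, 12, 17, 51, 68, 204],
  [2, 3, 14, 5, 34, 51, 238, 85], [2, 1, 14, 11, 34, 17, 238, 187], [2, 3, 12, 4, 34, 51, 204, 68],
  [1, 2, 6, 9, 17, 34, 102, 153], [3, 1, 9, 15, 51, 17, 153, 255], [3, 1, 10, 13, 51, 17, 170, 221]] := by
  decide +kernel

/-- the first test of `chk2` as a linear map -/
def p4f (B O : List ℕ) (u : ℕ) : ℕ := Nat.xor (Nat.xor u (app (dgL 0) (app B u))) (app O u)

theorem p4f_xor (B O : List ℕ) (u v : ℕ) : p4f B O (u ^^^ v) = p4f B O u ^^^ p4f B O v := by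
  show (u ^^^ v) ^^^ app (dgL 0) (app B (u ^^^ v)) ^^^ app O (u ^^^ v) =
    (u ^^^ app (dgL 0) (app B u) ^^^ app O u) ^^^ (v ^^^ app (dgL 0) (app B v) ^^^ app O v)
  rw [app_xor, app_xor, app_xor]
  ac_rfl

/-- the second test and the conclusion of `chk2` -/
def p4rest (B : List ℕ) (u : ℕ) : Bool :=
  let tu := app tpL u
  let bu := app B u
  let tbu := app tpL bu
  let wu := app (dgL 0) u
  let wtu := app (dgL 0) tu
  let wbu := app (dgL 0) bu
  let wtbu := app (dgL 0) tbu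
  cond (Nat.beq (u ^^^ tu ^^^ bu ^^^ tbu ^^^ wu ^^^ wtu ^^^ wbu ^^^ wtbu) 0) true
    (C48.any fun x => reps.any fun R => Nat.beq (app x u) (app R 128) &&
      (comp x (comp [u, tu, bu, tbu, wu, wtu, wbu, wtbu] coords2) == R))

theorem p4rest_spec {B O : List ℕ} {u : ℕ} (h : p4f B O u = 0 → p4rest B u = true) : chk2 B O u = true := by
  unfold chk2
  dsimp only
  split_ifs with h1 h2
  · rfl
  · rfl
  · have h0 : p4f B O u = 0 := by
      have e : u ^^^ app (dgL 0) (app B u) = app O u := by simpa using h1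
      show u ^^^ app (dgL 0) (app B u) ^^^ app O u = 0
      rw [e, Nat.xor_self]
    have h3 := h h0
    unfold p4rest at h3
    dsimp only at h3
    have eb : ∀ a b : ℕ, Nat.beq a b = (a == b) := fun a b => by
      rw [Bool.eq_iff_iff, Nat.beq_eq, beq_iff_eq]
    simp only [eb] at h3
    rw [Bool.not_eq_true] at h2
    rw [h2, cond_false] at h3
    rw [h3, Bool.or_true]

def p4chk (B O : List ℕ) : Bool :=
  [0, 16, 32, 48, 64, 80, 96, 112, 128, 144, 160, 176, 192, 208, 224, 240].all fun a =>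
    [0, 1, 2, 3, 4, 5, 6, 7, 8, 9, 10, 11, 12, 13, 14, 15].all fun b =>
      cond (Nat.beq (p4f B O a) (p4f B O b)) (p4rest B (Nat.xor a b)) true

theorem p4split : ∀ u < 256, ∃ a ∈ [0, 16, 32, 48, 64, 80, 96, 112, 128, 144, 160, 176, 192, 208, 224, 240],
    ∃ b ∈ [0, 1, 2, 3, 4, 5, 6, 7, 8, 9, 10, 11, 12, 13, 14, 15], u = a ^^^ b := by
  intro u hu
  have h : ∀ u < 256, u = (16 * (u / 16)) ^^^ (u % 16) := by decide +kernel
  have h1 : ∀ a < 16, 16 * a ∈ [0, 16, 32, 48, 64, 80, 96, 112, 128, 144, 160, 176, 192, 208, 224, 240] ∧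
    a ∈ [0, 1, 2, 3, 4, 5, 6, 7, 8, 9, 10, 11, 12, 13, 14, 15] := by decide +kernel
  exact ⟨_, (h1 (u / 16) (by omega)).1, _, (h1 (u % 16) (by omega)).2, h u hu⟩

theorem p4chk_spec {B O : List ℕ} (h : p4chk B O = true) : (List.range 256).all (chk2 B O) = true := by
  rw [List.all_eq_true]
  intro u hu
  obtain ⟨a, ha, b, hb, rfl⟩ := p4split u (List.mem_range.1 hu)
  refine p4rest_spec fun h0 => ?_
  have h1 := List.all_eq_true.1 (List.all_eq_true.1 h a ha) b hb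
  rw [p4f_xor, Nat.xor_eq_zero_iff] at h0
  rw [h0, Nat.beq_refl, cond_true] at h1
  exact h1

set_option maxRecDepth 100000 in
theorem chk2_all : (pairs2.all fun p => (List.range 256).all (chk2 p.1 p.2)) = true := by
  have h : (pairs2.all fun p => p4chk p.1 p.2) = true := by
    delta p4chk p4rest p4f pairs2 comp
    rw [p4C48, p4app_eq, show tpL = [1, 2, 5, 11, 17, 34, 85, 187] from by decide +kernel,
      show dgL 0 = [1, 2, 5, 11, 16, 32, 80, 176] from by decide +kernel]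
    ((try (rewrite [Cfsg.Agent.LsF.nxor_pat, Cfsg.Agent.LsF.instNBEq_pat, Cfsg.Agent.LsF.and_eq, Cfsg.Agent.LsF.not_eq, Cfsg.Agent.LsF.cond_eq, Cfsg.Agent.LsF.all_eq, Cfsg.Agent.LsF.any_eq, Cfsg.Agent.LsF.map_eq, Cfsg.Agent.LsF.flatten_eq, Cfsg.Agent.LsF.filter_eq, Cfsg.Agent.LsF.instBEq_eq])); decide +kernel)
  rw [List.all_eq_true] at h ⊢
  exact fun p hp => p4chk_spec (h p hp)

end Cfsg.Agent.TypeM.WFour
end

-- part: TypeM/WFourAbs
section
/-!
# Step W4 of Theorem W of S1739: the argument with matrices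
-/

set_option autoImplicit false

namespace Cfsg.Agent.TypeM.WFour

open Cfsg.Agent.TypeM

/-- letters of a word are `< 5` -/
def Wd (w : List ℕ) : Prop := ∀ k ∈ w, k < 5

theorem Wd.append {u v : List ℕ} (hu : Wd u) (hv : Wd v) : Wd (u ++ v) := by
  intro k hk
  rw [List.mem_append] at hk
  rcases hk with hk | hk
  · exact hu k hk
  · exact hv k hk

theorem Wd.rev {u : List ℕ} (hu : Wd u) : Wd u.reverse := fun k hk => hu k (by simpa using hk)

/-- `w` or `t w` -/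
def TW (L : List ℕ) : Prop := ∃ w, Wd w ∧ (L = wm w ∨ L = comp tL (wm w))

theorem tL_lt : ∀ x ∈ tL, x < 256 := by simp only [tL, _root_.List.mem_cons, _root_.List.not_mem_nil, _root_.or_false, _root_.forall_eq_or_imp, _root_.Nat.one_lt_ofNat, _root_.Nat.reduceLT, _root_.forall_eq, _root_.and_self]

theorem okY_word {w : List ℕ} (hw : Wd w) : okY (wm w) = true ∧ okY (comp tL (wm w)) = true := by
  have h0 := inA_word w hw
  have hl : (em w).length = 4 := rfl
  have h1 : (wm w).take 4 = em w := by rw [wm_eq w hw, List.take_left' hl]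
  have h2 : (wm w).drop 4 = (em w).map (16 * ·) := by rw [wm_eq w hw, List.drop_left' hl]
  have hlt : ∀ i < 16, act w i < 16 := fun i hi => act_lt w hi
  have ht : ∀ i < 16, app tL i = i ∧ app tL (16 * i) = 17 * i := by decide +kernel
  have h3 : (comp tL (wm w)).take 4 = em w := by
    rw [comp, ← List.map_take, h1, em]
    simp only [List.map_cons, List.map_nil, (ht _ (hlt 1 (by norm_num))).1,
      (ht _ (hlt 2 (by norm_num))).1, (ht _ (hlt 4 (by norm_num))).1,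
      (ht _ (hlt 8 (by norm_num))).1]
  have h4 : (comp tL (wm w)).drop 4 = (em w).map (17 * ·) := by
    rw [comp, ← List.map_drop, h2, em]
    simp only [List.map_cons, List.map_nil, (ht _ (hlt 1 (by norm_num))).2,
      (ht _ (hlt 2 (by norm_num))).2, (ht _ (hlt 4 (by norm_num))).2,
      (ht _ (hlt 8 (by norm_num))).2]
  constructor
  · rw [okY, h1, h2, h0]; simp
  · rw [okY, h3, h4, h0]; simp

theorem okY_TW {L : List ℕ} (h : TW L) : okY L = true := by
  obtain ⟨w, hw, rfl | rfl⟩ := h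
  · exact (okY_word hw).1
  · exact (okY_word hw).2

/-- matrices with their basic properties -/
def Mt (L : List ℕ) : Prop := L.length = 8 ∧ ∀ x ∈ L, x < 256

theorem Mt.comp {L M : List ℕ} (hL : Mt L) (hM : Mt M) : Mt (comp L M) :=
  ⟨by rw [comp_length, hM.1], comp_lt hL.2 M⟩

theorem Mt.wm (w : List ℕ) : Mt (wm w) := ⟨wm_len w, wm_lt w⟩

theorem Mt.t : Mt tL := ⟨rfl, tL_lt⟩

theorem Mt.dg (k : ℕ) : Mt (dgL k) := ⟨rfl, dgL_lt' k⟩

/-- The data: `R L` means that some element of `G` acts on `Q` by `L`; `Γ` is the second frame, `Δ` its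
inverse. -/
structure MHyp (R : List ℕ → Prop) (Γ Δ : List ℕ) : Prop where
  mul : ∀ L M, R L → R M → R (comp L M)
  word : ∀ w, Wd w → R (wm w)
  t : R tL
  r1 : ∀ L, R L → comp L tL = comp tL L → TW L
  hΓ : Mt Γ
  hΔ : Mt Δ
  ΓΔ : comp Γ Δ = idL
  ΔΓ : comp Δ Γ = idL
  c1 : comp (comp Δ tpL) Γ = tL
  r2 : ∀ L, R L → comp L tpL = comp tpL L → TW (comp (comp Δ L) Γ)
  r3 : ∀ w, Wd w → R (comp (comp Γ (wm w)) Δ)

namespace MHyp

variable {R : List ℕ → Prop} {Γ Δ : List ℕ}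

/-- conjugation by `Δ` -/
theorem cj_mul (h : MHyp R Γ Δ) {L M : List ℕ} (hM : Mt M) :
    comp (comp Δ (comp L M)) Γ = comp (comp (comp Δ L) Γ) (comp (comp Δ M) Γ) := by
  simp only [comp_assoc]
  rw [← comp_assoc Γ Δ, h.ΓΔ, id_comp (comp_lt hM.2 Γ)]

/-- `u⁻¹ L u` of a word or `t` times a word -/
theorem TW_conj {u : List ℕ} (hu : Wd u) {L : List ℕ} (hL : TW L) :
    TW (comp (wm u.reverse) (comp L (wm u))) := by
  obtain ⟨w, hw, rfl | rfl⟩ := hL
  · refine ⟨u.reverse ++ (w ++ u), hu.rev.append (hw.append hu), Or.inl ?_⟩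
    rw [wm_append, wm_append]
  · refine ⟨u.reverse ++ (w ++ u), hu.rev.append (hw.append hu), Or.inr ?_⟩
    rw [wm_append, wm_append, comp_assoc, ← comp_assoc (wm u.reverse), ← tL_wm _ hu.rev]
    simp only [comp_assoc]

theorem conj (h : MHyp R Γ Δ) {u : List ℕ} (hu : Wd u) :
    MHyp R (comp Γ (wm u)) (comp (wm u.reverse) Δ) where
  mul := h.mul
  word := h.word
  t := h.t
  r1 := h.r1
  hΓ := h.hΓ.comp (Mt.wm u)
  hΔ := (Mt.wm _).comp h.hΔ
  ΓΔ := by
    rw [comp_assoc, ← comp_assoc (wm u), wm_rev u hu, id_comp h.hΔ.2, h.ΓΔ]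
  ΔΓ := by
    rw [comp_assoc, ← comp_assoc Δ, h.ΔΓ, id_comp (wm_lt u), wm_rev' u hu]
  c1 := by
    have : comp (comp (comp (wm u.reverse) Δ) tpL) (comp Γ (wm u)) =
        comp (wm u.reverse) (comp (comp (comp Δ tpL) Γ) (wm u)) := by simp only [comp_assoc]
    rw [this, h.c1, tL_wm u hu, ← comp_assoc, wm_rev' u hu, id_comp tL_lt]
  r2 := by
    intro L hL hc
    have : comp (comp (comp (wm u.reverse) Δ) L) (comp Γ (wm u)) =
        comp (wm u.reverse) (comp (comp (comp Δ L) Γ) (wm u)) := by simp only [comp_assoc]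
    rw [this]
    exact TW_conj hu (h.r2 L hL hc)
  r3 := by
    intro w hw
    have : comp (comp (comp Γ (wm u)) (wm w)) (comp (wm u.reverse) Δ) =
        comp (comp Γ (wm (u ++ (w ++ u.reverse)))) Δ := by
      rw [wm_append, wm_append]; simp only [comp_assoc]
    rw [this]
    exact h.r3 _ (hu.append (hw.append hu.rev))

end MHyp

theorem fL_sq : comp fL fL = dgL 0 := by decide +kernel
theorem fL_t : comp fL tpL = comp tpL fL := by decide +kernel
theorem t_eq : comp tpL (dgL 0) = tL := by decide +kernel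
theorem bL_t : comp bL tpL = comp tpL bL := by decide +kernel
theorem oL_t : comp oL tpL = comp tpL oL := by decide +kernel
theorem bL_w : comp bL (dgL 0) = comp (dgL 0) bL := by decide +kernel
theorem oL_w : comp oL (dgL 0) = comp (dgL 0) oL := by decide +kernel
theorem fL_w : comp fL (dgL 0) = comp (dgL 0) fL := by decide +kernel
theorem bL_sq : comp bL bL = idL := by decide +kernel
theorem oL_cube : comp oL (comp oL oL) = idL := by decide +kernel
theorem oL_ne : oL ≠ idL := by decide +kernel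
theorem bo : comp bL (comp oL (comp bL oL)) = idL := by decide +kernel

theorem wd_f : Wd [1, 0, 1, 3] := by intro k hk; simp at hk; omega
theorem wd_b : Wd [3, 0] := by intro k hk; simp at hk; omega
theorem wd_o : Wd [3, 4, 3, 1] := by intro k hk; simp at hk; omega

theorem TW_sq {L : List ℕ} (h : TW L) : ∃ w, Wd w ∧ comp L L = wm w := by
  obtain ⟨w, hw, rfl | rfl⟩ := h
  · exact ⟨w ++ w, hw.append hw, by rw [wm_append]⟩
  · refine ⟨w ++ w, hw.append hw, ?_⟩
    rw [comp_assoc, ← comp_assoc (wm w), ← tL_wm w hw, comp_assoc, ← comp_assoc tL tL, tt_id,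
      id_comp (comp_lt (wm_lt w) _), wm_append]

theorem em_comp (u v : List ℕ) (hu : Wd u) : em (u ++ v) = comp (em u) (em v) := by
  have e : comp (em u) (em v) = [app (em u) (act v 1), app (em u) (act v 2),
    app (em u) (act v 4), app (em u) (act v 8)] := rfl
  rw [e, em_app u hu (act_lt v (by norm_num)), em_app u hu (act_lt v (by norm_num)),
    em_app u hu (act_lt v (by norm_num)), em_app u hu (act_lt v (by norm_num))]
  simp only [em, act_append]

theorem wm_ext {u v : List ℕ} (hu : Wd u) (hv : Wd v) (h : em u = em v) : wm u = wm v := by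
  rw [wm_eq u hu, wm_eq v hv, h]

/-- from the matrices of words back to the action -/
theorem act_of_wm {u v : List ℕ} (hu : Wd u) (hv : Wd v) (h : wm u = wm v) {i : ℕ} (hi : i < 16) :
    act u i = act v i := by
  rw [← wm_app u hu hi, ← wm_app v hv hi, h]

theorem act_rev {u : List ℕ} (hu : Wd u) {i : ℕ} (hi : i < 16) : act u.reverse (act u i) = i := by
  rw [← act_append]
  have h := act_of_wm (u := u.reverse ++ u) (v := []) (hu.rev.append hu) (by intro k hk; simp at hk)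
    (by rw [wm_append, wm_rev' u hu]; rfl) hi
  rw [h, act_nil]

theorem act_ne_zero {u : List ℕ} (hu : Wd u) {i : ℕ} (hi : i < 16) (h : act u i = 0) : i = 0 := by
  have h1 := act_rev hu hi
  rw [h] at h1
  have h2 := wm_app u.reverse hu.rev (i := 0) (by norm_num)
  rw [app_zero] at h2
  rw [← h1, ← h2]

theorem act_zero {u : List ℕ} (hu : Wd u) : act u 0 = 0 := by
  rw [← wm_app u hu (by norm_num), app_zero]

/-- `A₇` is 2-transitive on `{1, …, 15}` -/
theorem two_trans {i j : ℕ} (hi : i < 16) (hj : j < 16) (hi0 : i ≠ 0) (hj0 : j ≠ 0) (hij : i ≠ j) :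
    ∃ u, Wd u ∧ act u 1 = i ∧ act u 2 = j := by
  rcases pair_spec i hi j hj with h | h | h | ⟨k, hk, hk0, hk1, h⟩
  · exact absurd h hi0
  · exact absurd h hj0
  · exact absurd h hij
  · obtain ⟨h1, h2⟩ := pr_spec k hk hk0 hk1
    refine ⟨wv i ++ bw (pr k), Wd.append (wv_lt i hi) (bw_lt _), ?_, ?_⟩
    · rw [act_append, h1, wv_one i hi hi0]
    · rw [act_append, h2, h]

/-- an involution of `A₇` is conjugate to `s 0` -/
theorem conj_invol {v : List ℕ} (hv : Wd v) (h2 : comp (wm v) (wm v) = idL) (h1 : wm v ≠ idL) :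
    ∃ u, Wd u ∧ comp (wm u.reverse) (comp (wm v) (wm u)) = dgL 0 := by
  have hinv : ∀ i < 16, act v (act v i) = i := by
    intro i hi
    rw [← act_append]
    have h := act_of_wm (u := v ++ v) (v := []) (hv.append hv) (by intro k hk; simp at hk)
      (by rw [wm_append, h2]; rfl) hi
    rw [h, act_nil]
  obtain ⟨c, hc, hcv⟩ : ∃ c < 16, act v c ≠ c := by
    by_contra hcon
    push Not at hcon
    apply h1
    have : wm v = wm [] := wm_ext hv (by intro k hk; simp at hk) (by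
      simp only [em, act_nil, hcon 1 (by norm_num), hcon 2 (by norm_num), hcon 4 (by norm_num),
        hcon 8 (by norm_num)])
    rw [this]; rfl
  have hc0 : c ≠ 0 := by rintro rfl; exact hcv (act_zero hv)
  have hvc0 : act v c ≠ 0 := fun e => hc0 (act_ne_zero hv hc e)
  obtain ⟨u0, hu0, e1, e2⟩ := two_trans hc (act_lt v hc) hc0 hvc0 (Ne.symm hcv)
  set v1 := u0.reverse ++ (v ++ u0) with hv1
  have hv1w : Wd v1 := hu0.rev.append (hv.append hu0)
  have a1 : act v1 1 = 2 := by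
    rw [hv1, act_append, act_append, e1, ← e2, act_rev hu0 (by norm_num)]
  have a2 : act v1 2 = 1 := by
    rw [hv1, act_append, act_append, e2, hinv c hc, ← e1, act_rev hu0 (by norm_num)]
  have hsq : ∀ i < 16, act v1 (act v1 i) = i := by
    intro i hi
    have hlt := act_lt (v ++ u0) hi
    rw [hv1, act_append, act_append u0.reverse]
    have h3 : act (v ++ u0) (act u0.reverse (act (v ++ u0) i)) = act u0 i := by
      rw [act_append v u0 (act u0.reverse _)]
      have h4 := act_rev hu0.rev hlt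
      rw [List.reverse_reverse] at h4
      rw [h4, act_append, hinv _ (act_lt u0 hi)]
    rw [h3, act_rev hu0 hi]
  have hM : em v1 = [2, 1, act v1 4, act v1 8] := by rw [em, a1, a2]
  have hchk := l6_check
  rw [List.all_eq_true] at hchk
  have hchk2 := hchk (act v1 4) (List.mem_range.mpr (act_lt v1 (by norm_num)))
  rw [List.all_eq_true] at hchk2
  have hchk3 := hchk2 (act v1 8) (List.mem_range.mpr (act_lt v1 (by norm_num)))
  rw [← hM, inA_word v1 hv1w] at hchk3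
  have hcc : comp (em v1) (em v1) = [1, 2, 4, 8] := by
    rw [← em_comp v1 v1 hv1w, em]
    simp only [act_append, hsq 1 (by norm_num), hsq 2 (by norm_num), hsq 4 (by norm_num),
      hsq 8 (by norm_num)]
  rw [hcc] at hchk3
  have hany : ((List.range 15).any fun i => app (em v1) (i + 1) == 0) = false := by
    rw [List.any_eq_false]
    intro i hi
    rw [List.mem_range] at hi
    rw [em_app v1 hv1w (by omega)]
    intro e
    have := act_ne_zero hv1w (i := i + 1) (by omega) (by simpa using e)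
    omega
  rw [hany] at hchk3
  simp only [Bool.not_true, Bool.or_false, Bool.false_or, beq_self_eq_true] at hchk3
  rw [List.any_eq_true] at hchk3
  obtain ⟨u1, hu1m, hu1⟩ := hchk3
  have hu1w : Wd u1 := by
    have : ∀ u ∈ l6w, ∀ k ∈ u, k < 5 := by decide +kernel
    exact this u1 hu1m
  have h0w : Wd [0] := by intro k hk; simp at hk; omega
  have h5 : wm (v1 ++ u1) = wm (u1 ++ [0]) := by
    apply wm_ext (hv1w.append hu1w) (hu1w.append h0w)
    rw [em_comp v1 u1 hv1w, em_comp u1 [0] hu1w, beq_iff_eq.mp hu1]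
    congr 1
  refine ⟨u0 ++ u1, hu0.append hu1w, ?_⟩
  rw [List.reverse_append, wm_append, wm_append]
  have h6 : comp (wm u0.reverse) (comp (wm v) (wm u0)) = wm v1 := by
    rw [hv1, wm_append, wm_append]
  have h7 : comp (comp (wm u1.reverse) (wm u0.reverse)) (comp (wm v) (comp (wm u0) (wm u1))) =
      comp (wm u1.reverse) (comp (comp (wm u0.reverse) (comp (wm v) (wm u0))) (wm u1)) := by
    simp only [comp_assoc]
  rw [h7, h6, ← wm_append v1, h5, wm_append, ← comp_assoc, wm_rev' u1 hu1w,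
    id_comp (wm_lt _), wm_one]

/-! ### the main argument -/

theorem mem_C48 {w : List ℕ} (hw : Wd w) (hc : comp (wm w) (dgL 0) = comp (dgL 0) (wm w)) :
    wm w ∈ c24w.map wm := by
  have h0w : Wd [0] := by intro k hk; simp at hk; omega
  have hcomm : ∀ i < 16, act w (gm 0 i) = gm 0 (act w i) := by
    intro i hi
    have h := act_of_wm (u := w ++ [0]) (v := [0] ++ w) (hw.append h0w) (h0w.append hw) (by
      rw [wm_append, wm_append, wm_one, hc]) hi
    rw [act_append, act_append] at h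
    exact h
  have e5 : act w 5 = act w 1 ^^^ act w 4 := by
    rw [← em_app w hw (i := 5) (by norm_num)]
    simp only [em, app_cons, app_nil, _root_.Nat.reduceMod, _root_.one_mul, _root_.Nat.reduceDiv, _root_.Nat.mod_self, _root_.MulZeroClass.zero_mul, _root_.Order.lt_two_iff, _root_.zero_le, _root_.Nat.div_self, _root_.Nat.mod_succ, _root_.Nat.zero_mod, _root_.Nat.zero_div, _root_.LawfulXor.xor_self, _root_.LawfulXor.xor_zero, _root_.zero_xor]
  have e11 : act w 11 = act w 1 ^^^ act w 2 ^^^ act w 8 := by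
    rw [← em_app w hw (i := 11) (by norm_num)]
    simp only [em, app_cons, app_nil, Nat.xor_assoc, _root_.Nat.reduceMod, _root_.one_mul, _root_.Nat.reduceDiv, _root_.Nat.mod_self, _root_.MulZeroClass.zero_mul, _root_.Order.lt_two_iff, _root_.zero_le, _root_.Nat.div_self, _root_.Nat.mod_succ, _root_.LawfulXor.xor_zero, _root_.zero_xor]
  have g4 : gm 0 4 = 5 := by decide
  have g8 : gm 0 8 = 11 := by decide
  have h4 := hcomm 4 (by norm_num)
  have h8 := hcomm 8 (by norm_num)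
  rw [g4, e5] at h4
  rw [g8, e11] at h8
  have x1 : act w 1 = act w 4 ^^^ gm 0 (act w 4) := by
    rw [← h4, Nat.xor_comm (act w 1), ← Nat.xor_assoc, Nat.xor_self, Nat.zero_xor]
  have x2 : act w 2 = act w 4 ^^^ gm 0 (act w 4) ^^^ act w 8 ^^^ gm 0 (act w 8) := by
    rw [← x1, ← h8]
    generalize act w 1 = p
    generalize act w 2 = q
    generalize act w 8 = r
    apply Nat.eq_of_testBit_eq
    intro i
    simp only [Nat.testBit_xor]
    cases p.testBit i <;> cases q.testBit i <;> cases r.testBit i <;> rfl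
  have hM : em w = M24 (act w 4) (act w 8) := by
    rw [em, M24, ← x2, ← x1]
  have hchk := c24_check
  rw [List.all_eq_true] at hchk
  have hchk2 := hchk (act w 4) (List.mem_range.mpr (act_lt w (by norm_num)))
  rw [List.all_eq_true] at hchk2
  have hchk3 := hchk2 (act w 8) (List.mem_range.mpr (act_lt w (by norm_num)))
  rw [← hM, inA_word w hw] at hchk3
  have hany : ((List.range 15).any fun i => app (em w) (i + 1) == 0) = false := by
    rw [List.any_eq_false]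
    intro i hi
    rw [List.mem_range] at hi
    rw [em_app w hw (by omega)]
    intro e
    have := act_ne_zero hw (i := i + 1) (by omega) (by simpa using e)
    omega
  rw [hany] at hchk3
  simp only [Bool.not_true, Bool.or_false, Bool.false_or] at hchk3
  rw [List.any_eq_true] at hchk3
  obtain ⟨M, hMm, hM2⟩ := hchk3
  obtain ⟨c, hc, rfl⟩ := List.mem_map.mp hMm
  have hcw : Wd c := by
    have : ∀ u ∈ c24w, ∀ k ∈ u, k < 5 := by decide +kernel
    exact this c hc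
  exact List.mem_map.mpr ⟨c, hc, wm_ext hcw hw (beq_iff_eq.mp hM2)⟩

theorem TW_mem_C48 {L : List ℕ} (h : TW L) (hc : comp L (dgL 0) = comp (dgL 0) L) : L ∈ C48 := by
  obtain ⟨w, hw, rfl | rfl⟩ := h
  · exact List.mem_append_left _ (mem_C48 hw hc)
  · have h1 : comp tL (comp (wm w) (dgL 0)) = comp tL (comp (dgL 0) (wm w)) := by
      rw [← comp_assoc, hc, ← comp_assoc, ← comp_assoc, tL_dg 0 (by norm_num)]
    have h2 : comp (wm w) (dgL 0) = comp (dgL 0) (wm w) := by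
      have h3 := congrArg (comp tL) h1
      rw [← comp_assoc, ← comp_assoc tL tL, tt_id, id_comp (comp_lt (wm_lt w) _),
        id_comp (comp_lt (dgL_lt' 0) _)] at h3
      exact h3
    obtain ⟨c, hc, e⟩ := List.mem_map.mp (mem_C48 hw h2)
    exact List.mem_append_right _ (List.mem_map.mpr ⟨c, hc, by rw [e]⟩)

theorem mem_chk2 {B O : List ℕ} (hB : B ∈ C48) (hO : O ∈ C48) (h1 : comp B B = idL)
    (h2 : comp O (comp O O) = idL) (h3 : O ≠ idL) (h4 : comp B (comp O (comp B O)) = idL)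
    {u : ℕ} (hu : u < 256) : chk2 B O u = true := by
  have hc := chk2_all
  rw [List.all_eq_true] at hc
  have h5 := hc (B, O) (by
    rw [pairs2, List.mem_flatten]
    refine ⟨_, List.mem_map.mpr ⟨O, List.mem_filter.mpr ⟨hO, by simp [h2, h3]⟩, rfl⟩,
      List.mem_map.mpr ⟨B, List.mem_filter.mpr ⟨List.mem_filter.mpr ⟨hB, by simp [h1]⟩,
        by simp [h4]⟩, rfl⟩⟩)
  rw [List.all_eq_true] at h5
  exact h5 u (List.mem_range.mpr hu)

def basB2 : List ℕ := [128, 136, 224, 238, 176, 187, 192, 204]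

theorem basB2_coords : comp basB2 coords2 = idL := by decide +kernel

namespace MHyp

variable {R : List ℕ → Prop} {Γ Δ : List ℕ}

/-- the second stage: `Δ w Γ = w` -/
theorem stage2 (h : MHyp R Γ Δ) (c2 : comp (comp Δ (dgL 0)) Γ = dgL 0) :
    ∃ x ∈ C48, ∃ D ∈ reps, comp x Δ = D := by
  have hdt : comp (comp Δ tL) Γ = tpL := by
    rw [← t_eq, h.cj_mul (Mt.dg 0), h.c1, c2]; rfl
  -- `Δ L = (Δ L Γ) Δ`
  have mv : ∀ L, Mt L → comp Δ L = comp (comp (comp Δ L) Γ) Δ := by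
    intro L hL
    rw [comp_assoc, h.ΓΔ, comp_id (by rw [comp_length, hL.1])]
  have e1 : comp Δ tL = comp tpL Δ := by rw [mv tL Mt.t, hdt]
  have e2 : comp Δ (dgL 0) = comp (dgL 0) Δ := by rw [mv _ (Mt.dg 0), c2]
  have hmem : ∀ w, Wd w → comp (wm w) tpL = comp tpL (wm w) →
      comp (wm w) (dgL 0) = comp (dgL 0) (wm w) → comp (comp Δ (wm w)) Γ ∈ C48 := by
    intro w hw h1 h2
    refine TW_mem_C48 (h.r2 _ (h.word w hw) h1) ?_
    conv_lhs => rw [← c2]
    conv_rhs => rw [← c2]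
    rw [← h.cj_mul (Mt.dg 0), ← h.cj_mul (Mt.wm w), h2]
  have hB : comp (comp Δ bL) Γ ∈ C48 := hmem _ wd_b bL_t bL_w
  have hO : comp (comp Δ oL) Γ ∈ C48 := hmem _ wd_o oL_t oL_w
  have hF : comp (comp Δ fL) Γ ∈ C48 := hmem _ wd_f fL_t fL_w
  have hid : comp (comp Δ idL) Γ = idL := by rw [comp_id h.hΔ.1, h.ΔΓ]
  have hBt : Mt bL := Mt.wm _
  have hOt : Mt oL := Mt.wm _
  have hFt : Mt fL := Mt.wm _
  have r1 : comp (comp (comp Δ bL) Γ) (comp (comp Δ bL) Γ) = idL := by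
    rw [← h.cj_mul hBt, bL_sq, hid]
  have r2 : comp (comp (comp Δ oL) Γ) (comp (comp (comp Δ oL) Γ) (comp (comp Δ oL) Γ)) = idL := by
    rw [← h.cj_mul hOt, ← h.cj_mul (hOt.comp hOt), oL_cube, hid]
  have r3 : comp (comp Δ oL) Γ ≠ idL := by
    intro e
    have h1 := mv oL hOt
    rw [e, id_comp h.hΔ.2] at h1
    have h2 := congrArg (comp Γ) h1
    rw [← comp_assoc, h.ΓΔ, id_comp hOt.2] at h2
    exact oL_ne h2
  have r4 : comp (comp (comp Δ bL) Γ) (comp (comp (comp Δ oL) Γ) (comp (comp (comp Δ bL) Γ)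
      (comp (comp Δ oL) Γ))) = idL := by
    rw [← h.cj_mul hOt, ← h.cj_mul (hBt.comp hOt), ← h.cj_mul (hOt.comp (hBt.comp hOt)), bo, hid]
  have r5 : comp (comp (comp Δ fL) Γ) (comp (comp Δ fL) Γ) = dgL 0 := by
    rw [← h.cj_mul hFt, fL_sq, c2]
  have eB := mv bL hBt
  have eO := mv oL hOt
  have eF := mv fL hFt
  have hc := mem_chk2 hB hO r1 r2 r3 r4 (u := app Δ 128) (WFour.app_lt h.hΔ.2 _)
  generalize comp (comp Δ bL) Γ = B at *
  generalize comp (comp Δ oL) Γ = O at *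
  generalize comp (comp Δ fL) Γ = F at *
  -- images of the basis
  have i1 : app tpL (app Δ 128) = app Δ 136 := by
    rw [app_comp, ← e1, ← app_comp]; rfl
  have i2 : app B (app Δ 128) = app Δ 224 := by
    rw [app_comp, ← eB, ← app_comp]; congr 1
  have i3 : app tpL (app Δ 224) = app Δ 238 := by
    rw [app_comp, ← e1, ← app_comp]; rfl
  have i4 : app (dgL 0) (app Δ 128) = app Δ 176 := by
    rw [app_comp, ← e2, ← app_comp]; rfl
  have i5 : app (dgL 0) (app Δ 136) = app Δ 187 := by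
    rw [app_comp, ← e2, ← app_comp]; rfl
  have i6 : app (dgL 0) (app Δ 224) = app Δ 192 := by
    rw [app_comp, ← e2, ← app_comp]; rfl
  have i7 : app (dgL 0) (app Δ 238) = app Δ 204 := by
    rw [app_comp, ← e2, ← app_comp]; rfl
  have i8 : app O (app Δ 128) = app Δ 64 := by
    rw [app_comp, ← eO, ← app_comp]; congr 1
  have hbas : comp [app Δ 128, app Δ 136, app Δ 224, app Δ 238, app Δ 176, app Δ 187, app Δ 192,
      app Δ 204] coords2 = Δ := by
    have h1 : comp Δ (comp basB2 coords2) = Δ := by rw [basB2_coords, comp_id h.hΔ.1]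
    rw [← comp_assoc] at h1
    exact h1
  have hne : ¬ app Δ 1 = 0 := by
    intro e
    have h1 : app Γ (app Δ 1) = 1 := by rw [app_comp, h.ΓΔ, app_id 1 (by norm_num)]
    rw [e, app_zero] at h1
    omega
  unfold chk2 at hc
  simp only [i1, i2, i3, i4, i5, i6, i7, i8, hbas, ← app_xor] at hc
  rw [if_neg (by simp), if_neg (by simpa using hne)] at hc
  have hF12 : (F12.any fun F => comp Δ fL == comp F Δ) = true := by
    rw [List.any_eq_true]
    exact ⟨F, List.mem_filter.mpr ⟨hF, by simp [r5]⟩, by simp [eF]⟩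
  rw [hF12] at hc
  simp only [e1, e2, eB, eO, beq_self_eq_true, Bool.not_true, Bool.false_or] at hc
  rw [List.any_eq_true] at hc
  obtain ⟨x, hx, hc⟩ := hc
  rw [List.any_eq_true] at hc
  obtain ⟨D, hD, hc⟩ := hc
  rw [Bool.and_eq_true] at hc
  exact ⟨x, hx, D, hD, beq_iff_eq.mp hc.2⟩

end MHyp

end Cfsg.Agent.TypeM.WFour
end

private theorem dce_92bb77542bb6 : _root_.True := by
  try have : _root_.True := by simp only [_root_.Cfsg.Agent.TypeM.WFour.qv.eq_1]
  try have : _root_.True := by simp only [_root_.Cfsg.Agent.TypeM.WFour.comp.eq_1]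
  try have : _root_.True := by simp only [_root_.Cfsg.Agent.TypeM.WFour.pairs2.eq_1]
  try have : _root_.True := by simp only [_root_.Cfsg.Agent.TypeM.WFour.okY.eq_1]
  try have : _root_.True := by simp only [_root_.Cfsg.Agent.TypeM.WFour.inA.eq_1]
  try have : _root_.True := by simp only [_root_.Cfsg.Agent.TypeM.WFour.wm.eq_def]
  try have : _root_.True := by simp only [_root_.Cfsg.Agent.TypeM.WFour.em.eq_1]
  try have : _root_.True := by simp only [_root_.Cfsg.Agent.TypeM.WFour.M24.eq_1]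
  try have : _root_.True := by simp only [_root_.Cfsg.Agent.TypeM.WFour.dgL.eq_1]
  try have : _root_.True := by simp only [_root_.Cfsg.Agent.TypeM.WFour.tL.eq_1]
  try have : _root_.True := by simp only [_root_.Cfsg.Agent.TypeM.WFour.wm.eq_1]
  try have : _root_.True := by simp only [_root_.Cfsg.Agent.TypeM.WFour.wm.eq_2]
  try have : _root_.True := by simp only [_root_.Cfsg.Agent.TypeM.WFour.idL.eq_1]
  exact _root_.True.intro
end

-- part: TypeM/ResidCard
section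
set_option linter.all false
open scoped Cfsg.Agent.FastGrp

/-!
# 2-subgroups of `C(t) ∩ N(E)` have order at most `2^8` (bridge [WA](E), (W6), of Theorem W of S1739)
-/

set_option autoImplicit false

namespace Cfsg.Agent.TypeM

open Subgroup Equiv

namespace ResidCard

open WFour (triple)

/-- the generators on 7 points -/
def P7 : ℕ → Perm (Fin 7)
  | 0 => swap (1 : Fin 7) 5 * swap (2 : Fin 7) 3
  | 1 => swap (0 : Fin 7) 6 * swap (1 : Fin 7) 3
  | 2 => swap (0 : Fin 7) 3 * swap (1 : Fin 7) 6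
  | 3 => swap (0 : Fin 7) 4 * swap (2 : Fin 7) 3
  | 4 => swap (0 : Fin 7) 6 * swap (1 : Fin 7) 2
  | _ => 1

theorem P7_p7 : ∀ k < 5, ∀ i : Fin 7, ((P7 k i : Fin 7) : ℕ) = WFour.p7 k i := by decide +kernel

theorem P7_alt : ∀ k < 5, P7 k ∈ alternatingGroup (Fin 7) := by
  intro k hk
  rw [Perm.mem_alternatingGroup]
  revert k
  decide +kernel

/-- the permutation of a word -/
def wp (w : List ℕ) : Perm (Fin 7) := (w.map P7).prod

theorem wp_cons (k : ℕ) (w : List ℕ) : wp (k :: w) = P7 k * wp w := by simp [wp]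

theorem wp_append (w w' : List ℕ) : wp (w ++ w') = wp w * wp w' := by simp [wp]

theorem wp_alt (w : List ℕ) (hw : ∀ k ∈ w, k < 5) : wp w ∈ alternatingGroup (Fin 7) := by
  induction w with
  | nil => exact one_mem _
  | cons k w ih =>
    rw [wp_cons]
    exact mul_mem (P7_alt k (hw k List.mem_cons_self)) (ih fun j hj => hw j (List.mem_cons_of_mem _ hj))

theorem triple_act (w : List ℕ) (hw : ∀ k ∈ w, k < 5) (i : Fin 7) {u v : ℕ} (hu : u < 16)
    (hv : v < 16) : (triple (act w u) (act w v)).testBit (wp w i : Fin 7) = (triple u v).testBit i := by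
  induction w with
  | nil => rfl
  | cons k w ih =>
    have hk := hw k List.mem_cons_self
    rw [act_cons, act_cons, wp_cons, Perm.mul_apply, P7_p7 k hk,
      WFour.triple_gm k hk _ (wp w i).2 _ (act_lt w hu) _ (act_lt w hv)]
    exact ih fun j hj => hw j (List.mem_cons_of_mem _ hj)

theorem sep : ∀ j < 7, ∀ j' < 7, (∀ u < 16, ∀ v < 16, (triple u v).testBit j = (triple u v).testBit j') →
    j = j' := by decide +kernel

theorem wp_unique {w w' : List ℕ} (hw : ∀ k ∈ w, k < 5) (hw' : ∀ k ∈ w', k < 5)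
    (h : ∀ i < 16, act w i = act w' i) : wp w = wp w' := by
  ext i
  refine sep _ (wp w i).2 _ (wp w' i).2 fun u' hu' v' hv' => ?_
  obtain ⟨u, hu, rfl⟩ := act_surj w hw u' hu'
  obtain ⟨v, hv, rfl⟩ := act_surj w hw v' hv'
  rw [triple_act w hw i hu hv, h u hu, h v hv, triple_act w' hw' i hu hv]

def chk : Bool :=
  (List.range 16).all fun u => (List.range 16).all fun u' => u == 0 || u == u' ||
    (List.range 16).any fun v => !(List.range 16).any fun v' => triple u' v' == triple u v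

set_option maxRecDepth 100000 in
theorem chk_true : chk = true := by decide +kernel

theorem fix_of_triple {w : List ℕ} (hw : ∀ k ∈ w, k < 5) (h : wp w = 1) : ∀ i < 16, act w i = i := by
  have h1 : ∀ u < 16, ∀ v < 16, triple (act w u) (act w v) = triple u v := by
    intro u hu v hv
    apply Nat.eq_of_testBit_eq
    intro i
    by_cases hi : i < 7
    · have h2 := triple_act w hw ⟨i, hi⟩ hu hv
      rw [h, Perm.one_apply] at h2
      exact h2
    · have h3 : ∀ a b : ℕ, (triple a b).testBit i = false := fun a b =>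
        Nat.testBit_eq_false_of_lt (lt_of_lt_of_le (WFour.triple_lt a b)
          (Nat.pow_le_pow_right (by norm_num) (by omega)))
      rw [h3, h3]
  intro u hu
  have h2 := chk_true
  simp only [chk, List.all_eq_true, List.mem_range] at h2
  have h3 := h2 u hu (act w u) (act_lt w hu)
  simp only [Bool.or_eq_true, beq_iff_eq, List.any_eq_true, Bool.not_eq_true',
    List.any_eq_false, List.mem_range] at h3
  rcases h3 with (h3 | h3) | ⟨v, hv, h3⟩
  · rw [h3]
    exact WFour.act_zero hw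
  · exact h3.symm
  · exact absurd (h1 u hu v hv) (by simpa using h3 (act w v) (act_lt w hv))

/-- a subgroup of `A₇` that is a 2-group has order at most 8 -/
theorem card_le_eight {K : Subgroup (Perm (Fin 7))} (hK : IsPGroup 2 K)
    (h : K ≤ alternatingGroup (Fin 7)) : Nat.card K ≤ 8 := by
  have : Fact (Nat.Prime 2) := ⟨Nat.prime_two⟩
  obtain ⟨n, hn⟩ := IsPGroup.iff_card.mp hK
  have h1 : Nat.card K ∣ Nat.card (alternatingGroup (Fin 7)) := card_dvd_of_le h
  have h2 : Nat.card (alternatingGroup (Fin 7)) = 2520 := by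
    rw [nat_card_alternatingGroup, Nat.card_eq_fintype_card, Fintype.card_fin]
    decide
  rw [hn, h2] at h1
  rw [hn]
  have h3 : n ≤ 3 := by
    by_contra hcon
    have h4 : 2 ^ 4 ∣ 2520 := (pow_dvd_pow 2 (by omega)).trans h1
    exact absurd h4 (by decide)
  calc 2 ^ n ≤ 2 ^ 3 := Nat.pow_le_pow_right (by norm_num) h3
    _ = 8 := by norm_num

end ResidCard

open ResidCard in
/-- **(W6)**: a 2-subgroup of `C(t)` normalising `E` has order at most `2^8`. -/
theorem card_le {G : Type*} [Group G] {t : G} {e mu s : ℕ → G} [Finite G] (H : QConf t e mu s)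
    (ha : Glue.Aut t e) (T : Subgroup G) (hT : IsPGroup 2 T) (hTt : ∀ x ∈ T, x * t = t * x)
    (hTe : ∀ r ∈ T, ∀ i < 16, ∃ j < 16, r * e i * r⁻¹ = e j) : Nat.card T ≤ 2 ^ 8 := by
  classical
  have hinj : ∀ i < 16, ∀ j < 16, e i = e j → i = j := by
    intro i hi j hj h
    have h1 : e (i ^^^ j) = 1 := by rw [← H.εmul i hi j hj, h, WThree.eps_sq H hj]
    have h2 := (H.inj (i ^^^ j) (xor_lt hi hj) 0 (by norm_num) (by
      rw [h1, WThree.mu_zero H, one_mul])).1
    exact Nat.xor_eq_zero_iff.mp h2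
  have hex : ∀ x : T, ∃ w : List ℕ, (∀ k ∈ w, k < 5) ∧
      ∀ i < 16, (x : G) * e i * (x : G)⁻¹ = e (act w i) := fun x => ha x (hTt x x.2) (hTe x x.2)
  choose w hw1 hw2 using hex
  let σ : T →* Perm (Fin 7) := MonoidHom.mk' (fun x => wp (w x)) (by
    intro x y
    show wp (w (x * y)) = wp (w x) * wp (w y)
    rw [← wp_append]
    refine wp_unique (hw1 _) ?_ fun i hi => ?_
    · intro k hk
      rcases List.mem_append.mp hk with h | h
      · exact hw1 x k h
      · exact hw1 y k h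
    · rw [act_append]
      refine hinj _ (act_lt _ hi) _ (act_lt _ (act_lt _ hi)) ?_
      rw [← hw2 (x * y) i hi, ← hw2 x _ (act_lt _ hi), ← hw2 y i hi]
      show (x : G) * y * e i * ((x : G) * y)⁻¹ = _
      group)
  have hσ : ∀ x, σ x = wp (w x) := fun x => rfl
  have hker : Nat.card σ.ker ≤ 32 := by
    let f : σ.ker → Fin 16 × Bool → Prop := fun x p => ((x : T) : G) = if p.2 then t * e p.1 else e p.1
    have hf : ∀ x : σ.ker, ∃ p, f x p := by
      intro x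
      have h1 : wp (w (x : T)) = 1 := x.2
      have h2 := fix_of_triple (hw1 _) h1
      obtain ⟨n, hn⟩ := hT (x : T)
      have hn' : ((x : T) : G) ^ 2 ^ n = 1 := congrArg Subtype.val hn
      obtain ⟨i, hi, h3⟩ := H.cenF ((x : T) : G) ⟨n, hn'⟩ (hTt _ (x : T).2).symm (fun i hi => by
        have h4 := hw2 (x : T) i hi
        rw [h2 i hi, mul_inv_eq_iff_eq_mul] at h4
        exact h4)
      rcases h3 with h3 | h3
      · exact ⟨(⟨i, hi⟩, false), h3⟩
      · exact ⟨(⟨i, hi⟩, true), h3⟩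
    choose p hp using hf
    have hpi : Function.Injective p := by
      intro x y hxy
      have h1 := hp x
      have h2 := hp y
      rw [hxy] at h1
      apply Subtype.ext
      apply Subtype.ext
      exact h1.trans h2.symm
    have := Nat.card_le_card_of_injective p hpi
    simpa using this
  have hrange : Nat.card σ.range ≤ 8 := by
    refine card_le_eight ?_ ?_
    · rintro ⟨_, ⟨x, rfl⟩⟩
      obtain ⟨n, hn⟩ := hT x
      refine ⟨n, ?_⟩
      apply Subtype.ext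
      show (σ x) ^ 2 ^ n = 1
      rw [← map_pow, hn, map_one]
    · rintro _ ⟨x, rfl⟩
      exact wp_alt _ (hw1 x)
  have h1 := σ.ker.card_mul_index
  rw [Subgroup.index_ker] at h1
  calc Nat.card T = Nat.card σ.ker * Nat.card σ.range := h1.symm
    _ ≤ 32 * 8 := Nat.mul_le_mul hker hrange
    _ = 2 ^ 8 := by norm_num

end Cfsg.Agent.TypeM

private theorem dce_01a5dde495b1 : _root_.True := by
  try have : _root_.True := by simp only [_root_.Cfsg.Agent.TypeM.ResidCard.wp.eq_1]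
  try have : _root_.True := by simp only [_root_.Cfsg.Agent.TypeM.ResidCard.chk.eq_1]
  exact _root_.True.intro
end

-- part: TypeM/LFactsLyB
section
set_option linter.all false
open scoped Cfsg.Agent.FastGrp

/-!
# Matrix checks for the facts on the Lyons group
-/

set_option autoImplicit false

namespace Cfsg.Agent.TypeM.LyL

theorem gm_gm : ∀ k < 5, ∀ i < 16, gm k (gm k i) = i := by decide +kernel

theorem act_reverse (w : List ℕ) (hw : ∀ k ∈ w, k < 5) : ∀ i < 16, act w.reverse (act w i) = i := by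
  induction w with
  | nil => exact fun i _ => rfl
  | cons k w ih =>
    intro i hi
    rw [List.reverse_cons, act_append, act_cons, act_cons, act_nil,
      gm_gm k (hw k List.mem_cons_self) _ (act_lt w hi)]
    exact ih (fun j hj => hw j (List.mem_cons_of_mem _ hj)) i hi

theorem act_reverse' (w : List ℕ) (hw : ∀ k ∈ w, k < 5) : ∀ i < 16, act w (act w.reverse i) = i := by
  intro i hi
  have := act_reverse w.reverse (fun k hk => hw k (List.mem_reverse.1 hk)) i hi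
  rwa [List.reverse_reverse] at this

/-- transversals of `GL₃(2)`, generated by the first four matrices -/
def r1 : ℕ → List ℕ
  | 2 => [1, 3, 0, 2]
  | 3 => [1, 3, 2]
  | 4 => [3, 0, 2]
  | 5 => [3, 2]
  | 6 => [0, 2]
  | 7 => [2]
  | _ => []

/-- second transversal -/
def r2 : ℕ → List ℕ
  | 3 => [1, 0, 1]
  | 4 => [1]
  | 5 => [0, 1]
  | 6 => [3, 1]
  | 7 => [3, 0, 1]
  | _ => []

/-- third transversal -/
def r3 : ℕ → List ℕ
  | 5 => [0]
  | 6 => [3]
  | 7 => [3, 0]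
  | _ => []

/-- the word of the matrix of `GL₃(2)` with given images of the basis -/
def wd2 (a b : ℕ) : List ℕ := r1 a ++ r2 (act (r1 a).reverse (2 * b) / 2)

/-- the word of the matrix of `GL₃(2)` with given images of the basis -/
def wd (a b c : ℕ) : List ℕ := wd2 a b ++ r3 (act (wd2 a b).reverse (2 * c) / 2)

/-- linear independence -/
def okk (a b c : ℕ) : Bool := a != 0 && b != 0 && b != a && c != 0 && c != a && c != b && c != (a ^^^ b)

theorem wd_spec' : ∀ a < 8, ∀ b < 8, ∀ c < 8, (!(okk a b c) || ((wd a b c).all (fun k => k < 4) &&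
    (act (wd a b c) 2 / 2 == a && act (wd a b c) 4 / 2 == b && act (wd a b c) 8 / 2 == c))) = true := by
  decide +kernel

theorem wd_spec {a b c : ℕ} (ha : a < 8) (hb : b < 8) (hc : c < 8) (h : okk a b c = true) :
    (∀ k ∈ wd a b c, k < 4) ∧
    act (wd a b c) 2 / 2 = a ∧ act (wd a b c) 4 / 2 = b ∧ act (wd a b c) 8 / 2 = c := by
  have := wd_spec' a ha b hb c hc
  rw [h] at this
  simpa [and_assoc] using this

/-- the linear map with images `3, 2, p, q` of the basis -/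
def nu (p q i : ℕ) : ℕ :=
  (bif i.testBit 0 then 3 else 0) ^^^ (bif i.testBit 1 then 2 else 0) ^^^ (bif i.testBit 2 then p else 0) ^^^
    (bif i.testBit 3 then q else 0)

/-- membership in the group of order 168 -/
def memH (a b c : ℕ) : Bool :=
  okk (a / 2) (b / 2) (c / 2) && act (wd (a / 2) (b / 2) (c / 2)) 2 == a &&
    act (wd (a / 2) (b / 2) (c / 2)) 4 == b && act (wd (a / 2) (b / 2) (c / 2)) 8 == c

/-- the matrices fixing `3` in the group of order 168 -/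
def w12 : List (List ℕ) := [[], [0], [3, 1], [1, 3], [3, 1, 0], [1, 3, 0], [1, 0, 1], [3, 0, 1], [0, 1, 3],
  [1, 0, 1, 0], [3, 0, 1, 0], [0, 1, 3, 0]]

/-- the condition on the product -/
def cnd (p q : ℕ) (w : List ℕ) : Bool :=
  memH (nu p q (act w (nu p q 2))) (nu p q (act w (nu p q 4))) (nu p q (act w (nu p q 8)))

theorem chk' : ∀ p < 16, ∀ q < 16, (!(cnd p q []) || !(cnd p q [0]) || !(cnd p q [3, 1]) ||
    w12.any (fun w => p == gm 4 (act w 4) && q == gm 4 (act w 8))) = true := by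
  decide +kernel

theorem chk {p q : ℕ} (hp : p < 16) (hq : q < 16) (h1 : cnd p q [] = true) (h2 : cnd p q [0] = true)
    (h3 : cnd p q [3, 1] = true) : ∃ w ∈ w12, p = gm 4 (act w 4) ∧ q = gm 4 (act w 8) := by
  have := chk' p hp q hq
  rw [h1, h2, h3] at this
  rw [Bool.not_true, Bool.false_or, Bool.false_or, Bool.false_or, List.any_eq_true] at this
  obtain ⟨w, hw, h⟩ := this
  rw [Bool.and_eq_true, beq_iff_eq, beq_iff_eq] at h
  exact ⟨w, hw, h⟩

theorem w12_lt : ∀ w ∈ w12, (∀ k ∈ w, k < 4) ∧ act w 1 = 1 ∧ act w 3 = 3 ∧ act w 2 = 2 := by decide +kernel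

/-- words moving `j` to `3` -/
def tw : ℕ → List ℕ
  | 2 => [1]
  | 4 => [2, 3, 0, 1]
  | 5 => [2, 1, 3, 0, 1]
  | 6 => [2, 3, 1]
  | 7 => [2, 3, 2]
  | 8 => [2, 3, 0]
  | 9 => [2, 1, 3, 0]
  | 10 => [2, 1, 3]
  | 11 => [2, 3]
  | 12 => [2, 0]
  | 13 => [2, 1, 0]
  | 14 => [2]
  | 15 => [2, 1]
  | _ => []

theorem tw_spec : ∀ j < 16, (∀ k ∈ tw j, k < 4) := by decide +kernel

theorem tw_three : ∀ j < 16, j ≠ 0 → j ≠ 1 → act (tw j) j = 3 := by decide +kernel

/-- action of the cosets of `V` -/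
def cl : ℕ → List ℕ
  | 1 => [1, 0, 1]
  | 2 => [0]
  | 3 => [1, 0, 1, 0]
  | _ => []

theorem cl_one : ∀ p < 16, (∀ i < 16, act (cl (p / 4)) i = act [4, 1, 0, 1, 4] i) → p / 4 = 1 := by decide +kernel

theorem cl_two : ∀ p < 16, (∀ i < 16, act (cl (p / 4)) i = act [4, 0, 4] i) → p / 4 = 3 := by decide +kernel

theorem w12_cl : ∀ w ∈ w12, gm 4 (act w 4) / 4 = 1 → gm 4 (act w 8) / 4 = 3 →
    ∃ e < 4, ∀ i < 16, act w i = act (cl e) i := by decide +kernel

end Cfsg.Agent.TypeM.LyL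
end

-- part: TypeM/LFactsLy
section
prune_inst 0x4400102200000000000002000000100000000000000000400000010000010000080030000200012000200008800811100009420000002a00820040000000040020c09008100001000040c800000000000000000000000000000000000000000000000
set_option linter.all false
open scoped Cfsg.Agent.FastGrp

-- part: TypeM/LFactsLyA
section
/-!
# Regular elementary abelian groups of order eight in the alternating group of degree eleven
-/

set_option autoImplicit false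

namespace Cfsg.Agent.TypeM.LyL

open Equiv Subgroup

theorem xor_lt8 {i j : ℕ} (hi : i < 8) (hj : j < 8) : i ^^^ j < 8 :=
  Nat.xor_lt_two_pow (n := 3) hi hj

theorem xor_xor_self (i j : ℕ) : j ^^^ (j ^^^ i) = i := by
  rw [← Nat.xor_assoc, Nat.xor_self, Nat.zero_xor]

/-- A regular elementary abelian group of order eight on the points `0, …, 7`. -/
structure Reg (T : ℕ → Perm (Fin 11)) : Prop where
  mul : ∀ i < 8, ∀ j < 8, T i * T j = T (i ^^^ j)
  fix : ∀ i < 8, ∀ p : Fin 11, 8 ≤ p.val → T i p = p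
  low : ∀ i < 8, (T i 0).val < 8
  surj : ∀ p : Fin 11, p.val < 8 → ∃ i < 8, T i 0 = p
  inj : ∀ i < 8, ∀ j < 8, T i 0 = T j 0 → i = j

namespace Reg

variable {T : ℕ → Perm (Fin 11)} (R : Reg T)
include R

theorem zero : T 0 = 1 := by
  have := R.mul 0 (by norm_num) 0 (by norm_num)
  simpa using this

theorem apply {i j : ℕ} (hi : i < 8) (hj : j < 8) (p : Fin 11) : T i (T j p) = T (i ^^^ j) p := by
  rw [← R.mul i hi j hj]; rfl

theorem low' {i : ℕ} (hi : i < 8) {p : Fin 11} (hp : p.val < 8) : (T i p).val < 8 := by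
  obtain ⟨j, hj, rfl⟩ := R.surj p hp
  rw [R.apply hi hj]
  exact R.low _ (xor_lt8 hi hj)

theorem eq_zero_of_fix {i : ℕ} (hi : i < 8) {p : Fin 11} (hp : p.val < 8) (h : T i p = p) : i = 0 := by
  obtain ⟨j, hj, rfl⟩ := R.surj p hp
  rw [R.apply hi hj] at h
  have h1 := R.inj _ (xor_lt8 hi hj) _ hj h
  have h2 : i ^^^ j ^^^ j = i := by rw [Nat.xor_assoc, Nat.xor_self, Nat.xor_zero]
  rw [← h2, h1, Nat.xor_self]

theorem sq {i : ℕ} (hi : i < 8) : T i * T i = 1 := by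
  rw [R.mul i hi i hi, Nat.xor_self, R.zero]

/-- A permutation commuting with the regular group agrees on `{0, …, 7}` with one of its elements. -/
theorem comm {q : Perm (Fin 11)} (h : ∀ i < 8, q * T i = T i * q) :
    ∃ j < 8, ∀ p : Fin 11, p.val < 8 → q p = T j p := by
  have hlow : (q 0).val < 8 := by
    by_contra hc
    have h1 := R.fix 1 (by norm_num) (q 0) (by omega)
    have h2 : q (T 1 0) = T 1 (q 0) := congrArg (fun f : Perm (Fin 11) => f 0) (h 1 (by norm_num))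
    rw [h1] at h2
    exact absurd (R.eq_zero_of_fix (by norm_num) (by norm_num) (q.injective h2)) (by norm_num)
  obtain ⟨j, hj, hj0⟩ := R.surj _ hlow
  refine ⟨j, hj, fun p hp => ?_⟩
  obtain ⟨i, hi, rfl⟩ := R.surj p hp
  have h2 : q (T i 0) = T i (q 0) := congrArg (fun f : Perm (Fin 11) => f 0) (h i hi)
  rw [h2, ← hj0, R.apply hi hj, R.apply hj hi, Nat.xor_comm]

end Reg

/-- the fixed points -/
theorem card_fix {σ : Perm (Fin 11)} (h : σ.support.card = 8) :
    (Finset.univ.filter fun x => σ x = x).card = 3 := by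
  classical
  have h1 := Finset.card_filter_add_card_filter_not (s := (Finset.univ : Finset (Fin 11)))
    (fun x => σ x = x)
  have h2 : (Finset.univ.filter fun x => ¬ σ x = x) = σ.support := by
    ext x; simp
  rw [h2, h, Finset.card_univ, Fintype.card_fin] at h1
  omega

section conj

variable {h : ℕ → Perm (Fin 11)} (hm : ∀ i < 8, ∀ j < 8, h i * h j = h (i ^^^ j))
  (hs : ∀ i < 8, i ≠ 0 → (h i).support.card = 8)

include hm in
theorem h_apply {i j : ℕ} (hi : i < 8) (hj : j < 8) (p : Fin 11) : h i (h j p) = h (i ^^^ j) p := by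
  rw [← hm i hi j hj]; rfl

include hm in
theorem h_zero : h 0 = 1 := by
  have := hm 0 (by norm_num) 0 (by norm_num)
  simpa using this

include hm hs

/-- some point has trivial stabilizer -/
theorem exists_point : ∃ x, ∀ i < 8, i ≠ 0 → h i x ≠ x := by
  classical
  by_contra hcon
  push Not at hcon
  set S : Finset ℕ := (Finset.range 8).filter fun i => i ≠ 0 with hS
  have hScard : S.card = 7 := by decide
  have hmemS : ∀ i, i ∈ S ↔ i < 8 ∧ i ≠ 0 := fun i => by rw [hS, Finset.mem_filter, Finset.mem_range]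
  have h2 : ∀ x, 2 ≤ (S.filter fun i => h i x = x).card := by
    intro x
    obtain ⟨i, hi, hi0, hix⟩ := hcon x
    by_contra hlt
    have hone : ∀ k < 8, h k x = x → k = 0 ∨ k = i := by
      intro k hk hkx
      by_contra hne
      push Not at hne
      apply hlt
      have : ({i, k} : Finset ℕ) ⊆ S.filter fun i => h i x = x := by
        intro l hl
        rw [Finset.mem_insert, Finset.mem_singleton] at hl
        rw [Finset.mem_filter, hmemS]
        rcases hl with rfl | rfl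
        · exact ⟨⟨hi, hi0⟩, hix⟩
        · exact ⟨⟨hk, hne.1⟩, hkx⟩
      refine le_trans ?_ (Finset.card_le_card this)
      rw [Finset.card_pair (Ne.symm hne.2)]
    have h3 : (Finset.range 8).card ≤ 2 * ((Finset.range 8).image fun j => h j x).card := by
      apply Finset.card_le_mul_card_image
      intro a ha
      rw [Finset.mem_image] at ha
      obtain ⟨j, hj, rfl⟩ := ha
      rw [Finset.mem_range] at hj
      have : ((Finset.range 8).filter fun k => h k x = h j x) ⊆ {j, j ^^^ i} := by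
        intro k hk
        rw [Finset.mem_filter, Finset.mem_range] at hk
        have h5 : h (j ^^^ k) x = x := by
          rw [← h_apply hm hj hk.1, hk.2, h_apply hm hj hj, Nat.xor_self, h_zero hm, Perm.one_apply]
        rw [Finset.mem_insert, Finset.mem_singleton]
        rcases hone _ (xor_lt8 hj hk.1) h5 with h6 | h6
        · left
          exact (Nat.xor_eq_zero_iff.1 h6).symm
        · right
          rw [← h6, xor_xor_self]
      exact (Finset.card_le_card this).trans (Finset.card_le_two)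
    have h4 : ((Finset.range 8).image fun j => h j x) ⊆ Finset.univ.filter fun y => h i y = y := by
      intro y hy
      rw [Finset.mem_image] at hy
      obtain ⟨j, hj, rfl⟩ := hy
      rw [Finset.mem_range] at hj
      rw [Finset.mem_filter]
      refine ⟨Finset.mem_univ _, ?_⟩
      rw [h_apply hm hi hj, Nat.xor_comm, ← h_apply hm hj hi, hix]
    have h5 := Finset.card_le_card h4
    rw [card_fix (hs i hi hi0)] at h5
    rw [Finset.card_range] at h3
    omega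
  have h3 := Finset.sum_card_bipartiteAbove_eq_sum_card_bipartiteBelow
    (s := (Finset.univ : Finset (Fin 11))) (t := S) (fun x i => h i x = x)
  have h4 : ∑ x : Fin 11, 2 ≤ ∑ x : Fin 11, (S.bipartiteAbove (fun x i => h i x = x) x).card :=
    Finset.sum_le_sum fun x _ => h2 x
  have h5 : ∑ i ∈ S, ((Finset.univ : Finset (Fin 11)).bipartiteBelow (fun x i => h i x = x) i).card
      = ∑ i ∈ S, 3 := by
    refine Finset.sum_congr rfl fun i hi => ?_
    rw [hmemS] at hi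
    exact card_fix (hs i hi.1 hi.2)
  rw [h3, h5] at h4
  simp only [Finset.sum_const, Finset.card_univ, Fintype.card_fin, smul_eq_mul, hScard] at h4
  omega

/-- conjugacy with a regular group -/
theorem exists_conj {T : ℕ → Perm (Fin 11)} (R : Reg T) :
    ∃ σ ∈ alternatingGroup (Fin 11), ∀ i < 8, σ * h i * σ⁻¹ = T i := by
  classical
  obtain ⟨x, hx⟩ := exists_point hm hs
  have hinj : ∀ i < 8, ∀ j < 8, h i x = h j x → i = j := by
    intro i hi j hj hij
    by_contra hne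
    apply hx (i ^^^ j) (xor_lt8 hi hj) (fun e => hne (Nat.xor_eq_zero_iff.1 e))
    rw [← h_apply hm hi hj, ← hij, h_apply hm hi hi, Nat.xor_self, h_zero hm, Perm.one_apply]
  let u : Fin 8 ↪ Fin 11 := ⟨fun i => h i x, fun i j e => Fin.ext (hinj i i.2 j j.2 e)⟩
  let v : Fin 8 ↪ Fin 11 := ⟨fun i => T i 0, fun i j e => Fin.ext (R.inj i i.2 j j.2 e)⟩
  have hN : Nat.card (Fin 11) = 11 := by rw [Nat.card_eq_fintype_card, Fintype.card_fin]
  have ht : MulAction.IsMultiplyPretransitive (alternatingGroup (Fin 11)) (Fin 11) 9 := by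
    have := alternatingGroup.isMultiplyPretransitive (Fin 11)
    rwa [hN] at this
  have ht8 : MulAction.IsMultiplyPretransitive (alternatingGroup (Fin 11)) (Fin 11) 8 :=
    MulAction.isMultiplyPretransitive_of_le (n := 9) (by norm_num) (by rw [hN]; norm_num)
  obtain ⟨⟨σ, hσ⟩, hg⟩ := MulAction.isMultiplyPretransitive_iff.1 ht8 u v
  have hσv : ∀ i < 8, σ (h i x) = T i 0 := by
    intro i hi
    have := congrArg (fun f : Fin 8 ↪ Fin 11 => f ⟨i, hi⟩) hg
    exact this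
  refine ⟨σ, hσ, fun i hi => ?_⟩
  by_cases hi0 : i = 0
  · rw [hi0, h_zero hm, R.zero, mul_one, mul_inv_cancel]
  -- fixed points of `h i`
  have hfixes : ∀ y, (∀ j < 8, h j x ≠ y) → h i y = y := by
    have h1 : (Finset.univ.filter fun y => h i y = y) ⊆
        ((Finset.range 8).image fun j => h j x)ᶜ := by
      intro y hy
      rw [Finset.mem_filter] at hy
      rw [Finset.mem_compl, Finset.mem_image]
      rintro ⟨j, hj, rfl⟩
      rw [Finset.mem_range] at hj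
      have h2 := hy.2
      rw [h_apply hm hi hj] at h2
      have h3 := hinj _ (xor_lt8 hi hj) _ hj h2
      apply hi0
      have h4 : i ^^^ j ^^^ j = i := by rw [Nat.xor_assoc, Nat.xor_self, Nat.xor_zero]
      rw [← h4, h3, Nat.xor_self]
    have h2 : ((Finset.range 8).image fun j => h j x).card = 8 := by
      rw [Finset.card_image_of_injOn, Finset.card_range]
      intro a ha b hb hab
      exact hinj a (Finset.mem_range.1 ha) b (Finset.mem_range.1 hb) hab
    have h3 := Finset.eq_of_subset_of_card_le h1 (by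
      rw [Finset.card_compl, h2, Fintype.card_fin, card_fix (hs i hi hi0)])
    intro y hy
    have h4 : y ∈ ((Finset.range 8).image fun j => h j x)ᶜ := by
      rw [Finset.mem_compl, Finset.mem_image]
      rintro ⟨j, hj, e⟩
      exact hy j (Finset.mem_range.1 hj) e
    rw [← h3, Finset.mem_filter] at h4
    exact h4.2
  ext1 p
  rw [Perm.mul_apply, Perm.mul_apply]
  by_cases hp : p.val < 8
  · obtain ⟨j, hj, rfl⟩ := R.surj p hp
    rw [← hσv j hj, Perm.inv_def, Equiv.symm_apply_apply, h_apply hm hi hj, hσv _ (xor_lt8 hi hj), hσv j hj,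
      R.apply hi hj]
  · rw [R.fix i hi p (by omega)]
    rw [hfixes, Perm.inv_def, Equiv.apply_symm_apply]
    intro j hj e
    apply hp
    have : p = T j 0 := by rw [← hσv j hj, e, Perm.inv_def, Equiv.apply_symm_apply]
    rw [this]
    exact R.low j hj

end conj

end Cfsg.Agent.TypeM.LyL
end

-- part: TypeM/LFactsLyC
section
/-!
# The facts on the Lyons group: the normalizer of an elementary abelian subgroup of order 16
-/

set_option autoImplicit false

namespace Cfsg.Agent.TypeM.LyL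

open Equiv Subgroup
open Cfsg.Agent.TypeM.Two Cfsg.Agent.SporRec Cfsg.Agent.SporRec.TwoAn

variable {G : Type*} [Group G]

/-- A standard elementary abelian group of order 16 in the centralizer of `t`. -/
structure Loc (L : MT 11 G) (T : ℕ → Perm (Fin 11)) (ε s : ℕ → G) : Prop where
  reg : Reg T
  one : ε 1 = L.t
  mul : ∀ i < 16, ∀ j < 16, ε i * ε j = ε (i ^^^ j)
  mem : ∀ i < 16, ε i * L.t = L.t * ε i
  pr : ∀ i < 8, ∀ h, L.K.π ⟨ε (2 * i), h⟩ = T i
  smem : ∀ k < 4, s k * L.t = L.t * s k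
  sε : ∀ k < 4, ∀ i < 16, s k * ε i = ε (gm k i) * s k

theorem nat_two_mul_xor : ∀ i < 8, ∀ j < 8, 2 * i ^^^ 2 * j = 2 * (i ^^^ j) := by decide

theorem nat_two_mul_xor_one : ∀ i < 8, 2 * i ^^^ 1 = 2 * i + 1 := by decide

theorem nat_basis : ∀ i < (16 : ℕ), i = (bif Nat.testBit i 0 then (1 : ℕ) else 0 : ℕ) ^^^ (bif Nat.testBit i 1 then (2 : ℕ) else 0 : ℕ) ^^^
    (bif Nat.testBit i 2 then (4 : ℕ) else 0 : ℕ) ^^^ (bif Nat.testBit i 3 then (8 : ℕ) else 0 : ℕ) := by decide +kernel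

namespace Loc

variable {L : MT 11 G} {T : ℕ → Perm (Fin 11)} {ε s : ℕ → G} (D : Loc L T ε s)
include D

theorem zero : ε 0 = 1 := by
  have := D.mul 0 (by norm_num) 0 (by norm_num)
  simpa using this

theorem sq {i : ℕ} (hi : i < 16) : ε i * ε i = 1 := by rw [D.mul i hi i hi, Nat.xor_self, D.zero]

theorem comm_eps {i j : ℕ} (hi : i < 16) (hj : j < 16) : ε i * ε j = ε j * ε i := by
  rw [D.mul i hi j hj, D.mul j hj i hi, Nat.xor_comm]

theorem inv_eps {i : ℕ} (hi : i < 16) : (ε i)⁻¹ = ε i := inv_eq_of_mul_eq_one_left (D.sq hi)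

theorem memC {i : ℕ} (hi : i < 16) : ε i ∈ centralizer ({L.t} : Set G) := L.mem_iff.2 (D.mem i hi)

theorem smemC {k : ℕ} (hk : k < 4) : s k ∈ centralizer ({L.t} : Set G) := L.mem_iff.2 (D.smem k hk)

omit D in
theorem pi_t (h : L.t ∈ centralizer ({L.t} : Set G)) : L.K.π ⟨L.t, h⟩ = 1 := by
  have : (⟨L.t, h⟩ : centralizer ({L.t} : Set G)) = L.K.z := Subtype.ext L.hz.symm
  rw [this, L.K.π_z]

omit D in
/-- the projection of a product -/
theorem pi_mul {x y : G} (hx : x ∈ centralizer ({L.t} : Set G)) (hy : y ∈ centralizer ({L.t} : Set G)) :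
    L.K.π ⟨x * y, mul_mem hx hy⟩ = L.K.π ⟨x, hx⟩ * L.K.π ⟨y, hy⟩ := by
  rw [← map_mul]; rfl

omit D in
theorem pi_inv {x : G} (hx : x ∈ centralizer ({L.t} : Set G)) :
    L.K.π ⟨x⁻¹, inv_mem hx⟩ = (L.K.π ⟨x, hx⟩)⁻¹ := by
  rw [← map_inv]; rfl

omit D in
theorem pi_congr {x y : G} (hx : x ∈ centralizer ({L.t} : Set G)) (hxy : x = y) :
    L.K.π ⟨x, hx⟩ = L.K.π ⟨y, hxy ▸ hx⟩ := by
  subst hxy; rfl

omit D in
theorem pi_conj {x y : G} (hx : x ∈ centralizer ({L.t} : Set G)) (hy : y ∈ centralizer ({L.t} : Set G)) :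
    L.K.π ⟨x * y * x⁻¹, mul_mem (mul_mem hx hy) (inv_mem hx)⟩ =
      L.K.π ⟨x, hx⟩ * L.K.π ⟨y, hy⟩ * (L.K.π ⟨x, hx⟩)⁻¹ := by
  rw [← map_mul, ← map_inv, ← map_mul]; rfl

theorem pr' {i : ℕ} (hi : i < 16) (h) : L.K.π ⟨ε i, h⟩ = T (i / 2) := by
  have h2 : i / 2 < 8 := by omega
  rcases Nat.mod_two_eq_zero_or_one i with h0 | h0
  · have e : i = 2 * (i / 2) := by omega
    have := D.pr (i / 2) h2 (e ▸ h)
    rw [← this]
    exact pi_congr _ (congrArg ε e)
  · have e : i = 2 * (i / 2) ^^^ 1 := by rw [nat_two_mul_xor_one _ h2]; omega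
    have h3 : ε i = ε (2 * (i / 2)) * L.t := by
      rw [← D.one, D.mul _ (by omega) _ (by norm_num), ← e]
    rw [pi_congr _ h3, pi_mul (D.memC (by omega)) (L.mem_iff.2 rfl), pi_t, mul_one, D.pr _ h2]

theorem eq_one_or {i : ℕ} (hi : i < 8) (h : T i = 1) : i = 0 :=
  D.reg.eq_zero_of_fix hi (p := 0) (by norm_num) (by rw [h]; rfl)

theorem T_inj {i j : ℕ} (hi : i < 8) (hj : j < 8) (h : T i = T j) : i = j :=
  D.reg.inj i hi j hj (by rw [h])

theorem inj : ∀ i < 16, ε i = 1 → i = 0 := by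
  intro i hi h
  have h1 := D.pr' hi (D.memC hi)
  rw [pi_congr _ h] at h1
  have h2 : (1 : Perm (Fin 11)) = T (i / 2) := by
    rw [← h1]
    exact (map_one L.K.π).symm
  have h3 := D.eq_one_or (by omega) h2.symm
  have h4 : i = 0 ∨ i = 1 := by omega
  rcases h4 with rfl | rfl
  · rfl
  · exact absurd (D.one.symm.trans h) L.t_ne

theorem eq_of {i j : ℕ} (hi : i < 16) (hj : j < 16) (h : ε i = ε j) : i = j := by
  have h1 : ε (i ^^^ j) = 1 := by rw [← D.mul i hi j hj, h, D.sq hj]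
  exact Nat.xor_eq_zero_iff.1 (D.inj _ (xor_lt hi hj) h1)

/-- elements with the same image -/
theorem eq_of_pi {x : G} (hx : x ∈ centralizer ({L.t} : Set G)) {i : ℕ} (hi : i < 8)
    (h : L.K.π ⟨x, hx⟩ = T i) : x = ε (2 * i) ∨ x = ε (2 * i + 1) := by
  have h1 := L.K.lift_eq (h.trans (D.pr i hi (D.memC (by omega))).symm)
  rcases h1 with h1 | h1
  · left
    exact congrArg Subtype.val h1
  · right
    have h2 := congrArg Subtype.val h1
    rw [Subgroup.coe_mul, L.hz] at h2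
    rw [show x = _ from h2]
    show ε (2 * i) * L.t = _
    rw [← D.one, D.mul _ (by omega) _ (by norm_num), nat_two_mul_xor_one i hi]

theorem exists_eq_of_pi {x : G} (hx : x ∈ centralizer ({L.t} : Set G)) {i : ℕ} (hi : i < 8)
    (h : L.K.π ⟨x, hx⟩ = T i) : ∃ j < 16, x = ε j := by
  rcases D.eq_of_pi hx hi h with h | h
  · exact ⟨_, by omega, h⟩
  · exact ⟨_, by omega, h⟩

/-- commuting modulo `t` with the elementary abelian group -/
theorem comm_of_pi {x : G} (hx : x ∈ centralizer ({L.t} : Set G))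
    (h : ∀ i < 8, L.K.π ⟨x, hx⟩ * T i = T i * L.K.π ⟨x, hx⟩) :
    (∃ j < 8, ∀ p : Fin 11, p.val < 8 → L.K.π ⟨x, hx⟩ p = T j p) ∧ ∀ i < 16, x * ε i = ε i * x := by
  obtain ⟨j, hj, hjp⟩ := D.reg.comm h
  refine ⟨⟨j, hj, hjp⟩, ?_⟩
  have hmj := D.memC (i := 2 * j) (by omega)
  set y : G := x * ε (2 * j) with hy
  have hyC : y ∈ centralizer ({L.t} : Set G) := mul_mem hx hmj
  have hyp : ∀ p : Fin 11, p.val < 8 → L.K.π ⟨y, hyC⟩ p = p := by
    intro p hp
    have e : L.K.π ⟨y, hyC⟩ = L.K.π ⟨x, hx⟩ * L.K.π ⟨ε (2 * j), hmj⟩ := pi_mul hx hmj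
    rw [e, D.pr j hj, Perm.mul_apply, hjp _ (D.reg.low' hj hp), D.reg.apply hj hj, Nat.xor_self, D.reg.zero]
    rfl
  have hyc : ∀ i < 16, y * ε i = ε i * y := by
    intro i hi
    have h2 : (⟨y, hyC⟩ : centralizer ({L.t} : Set G)) * ⟨ε i, D.memC hi⟩ = ⟨ε i, D.memC hi⟩ * ⟨y, hyC⟩ := by
      apply L.K.commute_of_disjoint
      intro p
      by_cases hp : p.val < 8
      · exact Or.inl (hyp p hp)
      · right
        rw [D.pr' hi]
        exact D.reg.fix _ (by omega) p (by omega)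
    exact congrArg Subtype.val h2
  intro i hi
  have hxy : x = y * ε (2 * j) := by rw [hy, mul_assoc, D.sq (by omega), mul_one]
  rw [hxy, mul_assoc, D.comm_eps (by omega) hi, ← mul_assoc, hyc i hi, mul_assoc]

/-- 2-elements of the centralizer -/
theorem cen (x : G) (h2 : TwoElt x) (hx : ∀ i < 16, x * ε i = ε i * x) : ∃ i < 16, x = ε i := by
  classical
  have hxC : x ∈ centralizer ({L.t} : Set G) := L.mem_iff.2 (by rw [← D.one]; exact hx 1 (by norm_num))
  obtain ⟨⟨j, hj, hjp⟩, -⟩ := D.comm_of_pi hxC (by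
    intro i hi
    have hm := D.memC (i := 2 * i) (by omega)
    rw [← D.pr i hi hm, ← pi_mul hxC hm, ← pi_mul hm hxC]
    exact pi_congr _ (hx _ (by omega)))
  have hmj := D.memC (i := 2 * j) (by omega)
  set y : G := x * ε (2 * j) with hy
  have hyC : y ∈ centralizer ({L.t} : Set G) := mul_mem hxC hmj
  have e : L.K.π ⟨y, hyC⟩ = L.K.π ⟨x, hxC⟩ * L.K.π ⟨ε (2 * j), hmj⟩ := pi_mul hxC hmj
  set σ := L.K.π ⟨y, hyC⟩ with hσ
  have hyp : ∀ p : Fin 11, p.val < 8 → σ p = p := by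
    intro p hp
    rw [e, D.pr j hj, Perm.mul_apply, hjp _ (D.reg.low' hj hp), D.reg.apply hj hj, Nat.xor_self, D.reg.zero]
    rfl
  -- `y` is a 2-element
  obtain ⟨n, hn⟩ := h2
  have hyn : y ^ 2 ^ (n + 1) = 1 := by
    have hc : Commute x (ε (2 * j)) := hx _ (by omega)
    rw [hy, hc.mul_pow, pow_succ, pow_mul, hn, one_pow, one_mul, pow_mul', pow_two, D.sq (by omega), one_pow]
  have hσn : σ ^ 2 ^ (n + 1) = 1 := by
    rw [hσ, ← map_pow]
    have : (⟨y, hyC⟩ : centralizer ({L.t} : Set G)) ^ 2 ^ (n + 1) = 1 := Subtype.ext hyn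
    rw [this, map_one]
  have hsup : σ.support ⊆ {8, 9, 10} := by
    intro p hp
    rw [Perm.mem_support] at hp
    have h3 : ¬ p.val < 8 := fun h => hp (hyp p h)
    have : ∀ p : Fin 11, ¬ p.val < 8 → p ∈ ({8, 9, 10} : Finset (Fin 11)) := by decide
    exact this p h3
  have hcard : σ.support.card ≤ 3 := (Finset.card_le_card hsup).trans (Finset.card_le_three)
  have hsgn : σ ∈ alternatingGroup (Fin 11) := L.K.mem_alternating _
  have hone : σ = 1 := by
    by_contra hne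
    have h0 : σ.support.card ≠ 0 := fun h => hne (Perm.card_support_eq_zero.1 h)
    have h1 : σ.support.card ≠ 1 := Perm.card_support_ne_one σ
    have h4 : σ.support.card = 2 ∨ σ.support.card = 3 := by omega
    rcases h4 with h4 | h4
    · have h5 := Perm.card_support_eq_two.1 h4
      rw [Perm.mem_alternatingGroup, h5.sign_eq] at hsgn
      exact absurd hsgn (by decide)
    · have h5 := (card_support_eq_three_iff.1 h4).orderOf
      have h6 := orderOf_dvd_of_pow_eq_one hσn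
      rw [h5] at h6
      have h7 := Nat.Prime.dvd_of_dvd_pow Nat.prime_three h6
      exact absurd h7 (by norm_num)
  rcases (L.K.ker _).1 hone with h5 | h5
  · have h6 : y = 1 := congrArg Subtype.val h5
    refine ⟨2 * j, by omega, ?_⟩
    rw [hy] at h6
    rw [eq_inv_of_mul_eq_one_left h6, D.inv_eps (by omega)]
  · have h6 : y = L.t := (congrArg Subtype.val h5).trans L.hz
    refine ⟨2 * j + 1, by omega, ?_⟩
    rw [← nat_two_mul_xor_one j hj, Nat.xor_comm, ← D.mul _ (by norm_num) _ (by omega), D.one, ← h6, hy, mul_assoc,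
      D.sq (by omega), mul_one]

/-- value of a word -/
theorem W_mem (w : List ℕ) (hw : ∀ k ∈ w, k < 4) : (w.map s).prod ∈ centralizer ({L.t} : Set G) := by
  induction w with
  | nil => exact one_mem _
  | cons k w ih =>
    rw [List.map_cons, List.prod_cons]
    exact mul_mem (D.smemC (hw k List.mem_cons_self)) (ih fun k hk => hw k (List.mem_cons_of_mem _ hk))

theorem W_eps (w : List ℕ) (hw : ∀ k ∈ w, k < 4) {i : ℕ} (hi : i < 16) :
    (w.map s).prod * ε i = ε (act w i) * (w.map s).prod := by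
  induction w with
  | nil => simp [act_nil]
  | cons k w ih =>
    rw [List.map_cons, List.prod_cons, mul_assoc, ih fun k hk => hw k (List.mem_cons_of_mem _ hk), act_cons,
      ← mul_assoc, D.sε k (hw k List.mem_cons_self) _ (act_lt w hi), mul_assoc]

/-- the action of an element normalizing the group -/
theorem exists_act (x : G) (h : ∀ i < 16, ∃ j < 16, x * ε i * x⁻¹ = ε j) :
    ∃ m : ℕ → ℕ, (∀ i < 16, m i < 16) ∧ (∀ i < 16, x * ε i * x⁻¹ = ε (m i)) ∧
      (∀ i < 16, ∀ j < 16, m (i ^^^ j) = m i ^^^ m j) := by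
  have h' : ∀ i, ∃ j, i < 16 → j < 16 ∧ x * ε i * x⁻¹ = ε j := by
    intro i
    by_cases hi : i < 16
    · obtain ⟨j, hj, e⟩ := h i hi
      exact ⟨j, fun _ => ⟨hj, e⟩⟩
    · exact ⟨0, fun h => absurd h hi⟩
  choose m hm using h'
  refine ⟨m, fun i hi => (hm i hi).1, fun i hi => (hm i hi).2, fun i hi j hj => ?_⟩
  apply D.eq_of (hm _ (xor_lt hi hj)).1 (xor_lt (hm i hi).1 (hm j hj).1)
  rw [← (hm _ (xor_lt hi hj)).2, ← D.mul i hi j hj, ← D.mul _ (hm i hi).1 _ (hm j hj).1, ← (hm i hi).2,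
    ← (hm j hj).2]
  group

/-- Elements of `C(t)` normalizing the group act as words in the first four elements. -/
theorem autt (x : G) (hx : x ∈ centralizer ({L.t} : Set G)) {m : ℕ → ℕ} (hm : ∀ i < 16, m i < 16)
    (hx2 : ∀ i < 16, x * ε i * x⁻¹ = ε (m i)) :
    okk (m 2 / 2) (m 4 / 2) (m 8 / 2) = true ∧
      ∀ i < 16, m i = act (wd (m 2 / 2) (m 4 / 2) (m 8 / 2)) i := by
  have hT : ∀ i < 16, T (m i / 2) = L.K.π ⟨x, hx⟩ * T (i / 2) * (L.K.π ⟨x, hx⟩)⁻¹ := by
    intro i hi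
    rw [← D.pr' (hm i hi) (D.memC (hm i hi)), ← D.pr' hi (D.memC hi), ← pi_conj hx (D.memC hi)]
    exact pi_congr _ (hx2 i hi).symm
  have hne : ∀ {i : ℕ}, i < 16 → i / 2 ≠ 0 → m i / 2 ≠ 0 := by
    intro i hi h0 h1
    apply h0
    apply D.eq_one_or (by omega)
    have h2 := hT i hi
    rw [h1, D.reg.zero] at h2
    have h3 : L.K.π ⟨x, hx⟩ * T (i / 2) = L.K.π ⟨x, hx⟩ * 1 := by
      rw [mul_one]; exact mul_inv_eq_one.1 h2.symm
    exact mul_left_cancel h3
  have hne2 : ∀ {i j : ℕ}, i < 16 → j < 16 → i / 2 ≠ j / 2 → m i / 2 ≠ m j / 2 := by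
    intro i j hi hj h0 h1
    apply h0
    apply D.T_inj (by omega) (by omega)
    have h2 := hT i hi
    rw [h1, hT j hj] at h2
    exact (mul_left_cancel (mul_right_cancel h2)).symm
  have h24 : m (2 ^^^ 4) = m 2 ^^^ m 4 := by
    apply D.eq_of (hm _ (by decide)) (xor_lt (hm _ (by norm_num)) (hm _ (by norm_num)))
    rw [← hx2 _ (by decide), ← D.mul 2 (by norm_num) 4 (by norm_num), ← D.mul _ (hm 2 (by norm_num)) _ (hm 4 (by norm_num)),
      ← hx2 2 (by norm_num), ← hx2 4 (by norm_num)]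
    group
  have hok : okk (m 2 / 2) (m 4 / 2) (m 8 / 2) = true := by
    have a1 := hne (i := 2) (by norm_num) (by norm_num)
    have a2 := hne (i := 4) (by norm_num) (by norm_num)
    have a3 := hne (i := 8) (by norm_num) (by norm_num)
    have a4 := hne2 (i := 4) (j := 2) (by norm_num) (by norm_num) (by norm_num)
    have a5 := hne2 (i := 8) (j := 2) (by norm_num) (by norm_num) (by norm_num)
    have a6 := hne2 (i := 8) (j := 4) (by norm_num) (by norm_num) (by norm_num)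
    have a7 := hne2 (i := 8) (j := 2 ^^^ 4) (by norm_num) (by decide) (by decide)
    rw [h24, show (m 2 ^^^ m 4) / 2 = (m 2 / 2) ^^^ (m 4 / 2) by
      rw [← Nat.shiftRight_one, ← Nat.shiftRight_one, ← Nat.shiftRight_one, Nat.shiftRight_xor_distrib]] at a7
    simp [okk, a1, a2, a3, a4, a5, a6, a7]
  refine ⟨hok, ?_⟩
  have hl2 := hm 2 (by norm_num)
  have hl4 := hm 4 (by norm_num)
  have hl8 := hm 8 (by norm_num)
  obtain ⟨hw, hw2, hw4, hw8⟩ := wd_spec (a := m 2 / 2) (b := m 4 / 2) (c := m 8 / 2) (by omega) (by omega) (by omega) hok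
  set w := wd (m 2 / 2) (m 4 / 2) (m 8 / 2) with hwdef
  set W := (w.map s).prod with hW
  have hWC : W ∈ centralizer ({L.t} : Set G) := D.W_mem w hw
  have hWε : ∀ i < 16, W * ε i * W⁻¹ = ε (act w i) := fun i hi => by
    rw [hW, D.W_eps w hw hi, mul_inv_cancel_right]
  have hTW : ∀ i < 16, T (act w i / 2) = L.K.π ⟨W, hWC⟩ * T (i / 2) * (L.K.π ⟨W, hWC⟩)⁻¹ := by
    intro i hi
    rw [← D.pr' (act_lt w hi) (D.memC (act_lt w hi)), ← D.pr' hi (D.memC hi), ← pi_conj hWC (D.memC hi)]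
    exact pi_congr _ (hWε i hi).symm
  -- the quotient commutes with the regular group
  have hzC : W⁻¹ * x ∈ centralizer ({L.t} : Set G) := mul_mem (inv_mem hWC) hx
  have hz : L.K.π ⟨W⁻¹ * x, hzC⟩ = (L.K.π ⟨W, hWC⟩)⁻¹ * L.K.π ⟨x, hx⟩ := by
    rw [← pi_inv hWC]
    exact pi_mul _ _
  have hcb : ∀ i < 16, m i / 2 = act w i / 2 →
      L.K.π ⟨W⁻¹ * x, hzC⟩ * T (i / 2) = T (i / 2) * L.K.π ⟨W⁻¹ * x, hzC⟩ := by
    intro i hi e
    have h1 := hT i hi
    rw [e, hTW i hi] at h1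
    rw [hz]
    generalize L.K.π ⟨W, hWC⟩ = A at *
    generalize L.K.π ⟨x, hx⟩ = B at *
    calc A⁻¹ * B * T (i / 2) = A⁻¹ * (B * T (i / 2) * B⁻¹) * B := by group
      _ = A⁻¹ * (A * T (i / 2) * A⁻¹) * B := by rw [← h1]
      _ = T (i / 2) * (A⁻¹ * B) := by group
  have c1 := hcb 2 (by norm_num) hw2.symm
  have c2 := hcb 4 (by norm_num) hw4.symm
  have c4 := hcb 8 (by norm_num) hw8.symm
  have hcomm : ∀ i < 8, L.K.π ⟨W⁻¹ * x, hzC⟩ * T i = T i * L.K.π ⟨W⁻¹ * x, hzC⟩ := by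
    generalize L.K.π ⟨W⁻¹ * x, hzC⟩ = A at *
    have hm' : ∀ i < 8, ∀ j < 8, A * T i = T i * A → A * T j = T j * A → A * T (i ^^^ j) = T (i ^^^ j) * A := by
      intro i hi j hj h1 h2
      rw [← D.reg.mul i hi j hj, ← mul_assoc, h1, mul_assoc, h2, mul_assoc]
    have c3 := hm' 1 (by norm_num) 2 (by norm_num) c1 c2
    have c5 := hm' 1 (by norm_num) 4 (by norm_num) c1 c4
    have c6 := hm' 2 (by norm_num) 4 (by norm_num) c2 c4
    have c7 := hm' 1 (by norm_num) 6 (by norm_num) c1 c6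
    intro i hi
    interval_cases i
    · rw [D.reg.zero, mul_one, one_mul]
    · exact c1
    · exact c2
    · exact c3
    · exact c4
    · exact c5
    · exact c6
    · exact c7
  have hfin := (D.comm_of_pi hzC hcomm).2
  intro i hi
  apply D.eq_of (hm i hi) (act_lt w hi)
  rw [← hx2 i hi, ← hWε i hi]
  have h5 := hfin i hi
  calc x * ε i * x⁻¹ = W * (W⁻¹ * x * ε i) * x⁻¹ := by group
    _ = W * (ε i * (W⁻¹ * x)) * x⁻¹ := by rw [h5]
    _ = W * ε i * W⁻¹ := by group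

/-- Normal form of an elementary abelian group of order 16 containing `t`. -/
theorem nf (f : ℕ → G) (hf : IsE16 f) (h1 : f 1 = L.t) :
    ∃ c ∈ centralizer ({L.t} : Set G), ∀ i < 16, ∃ j < 16, c * f i * c⁻¹ = ε j := by
  have f0 : f 0 = 1 := by
    have := hf.mul 0 (by norm_num) 0 (by norm_num)
    simpa using this
  have hfC : ∀ i < 16, f i ∈ centralizer ({L.t} : Set G) := by
    intro i hi
    rw [L.mem_iff, ← h1, hf.mul i hi 1 (by norm_num), hf.mul 1 (by norm_num) i hi, Nat.xor_comm]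
  have hsq : ∀ i < 16, f i * f i = 1 := fun i hi => by rw [hf.mul i hi i hi, Nat.xor_self, f0]
  let h : ℕ → Perm (Fin 11) := fun i => if hi : i < 8 then L.K.π ⟨f (2 * i), hfC _ (by omega)⟩ else 1
  have hh : ∀ i (hi : i < 8), h i = L.K.π ⟨f (2 * i), hfC _ (by omega)⟩ := fun i hi => dif_pos hi
  have hm : ∀ i < 8, ∀ j < 8, h i * h j = h (i ^^^ j) := by
    intro i hi j hj
    rw [hh i hi, hh j hj, hh _ (xor_lt8 hi hj), ← pi_mul (hfC _ (by omega)) (hfC _ (by omega))]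
    refine pi_congr _ ?_
    rw [hf.mul _ (by omega) _ (by omega), nat_two_mul_xor i hi j hj]
  have hs : ∀ i < 8, i ≠ 0 → (h i).support.card = 8 := by
    intro i hi h0
    rw [hh i hi]
    refine LyType.card_support_eq_eight L.K (by rw [Fintype.card_fin]; norm_num) (Subtype.ext (hsq _ (by omega))) ?_ ?_
    · intro e
      have := hf.inj _ (by omega) (congrArg Subtype.val e)
      omega
    · intro e
      have e1 : f (2 * i) = L.t := (congrArg Subtype.val e).trans L.hz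
      have e2 : f (2 * i ^^^ 1) = 1 := by
        rw [← hf.mul _ (by omega) _ (by norm_num), h1, e1, L.t_mul_t]
      have := hf.inj _ (xor_lt (by omega) (by norm_num)) e2
      rw [nat_two_mul_xor_one i hi] at this
      omega
  obtain ⟨σ, hσ, hc⟩ := exists_conj hm hs D.reg
  obtain ⟨c, hcσ⟩ := L.K.exists_lift hσ
  have key : ∀ i < 8, ∃ j < 16, (c : G) * f (2 * i) * (c : G)⁻¹ = ε j := by
    intro i hi
    refine D.exists_eq_of_pi (mul_mem (mul_mem c.2 (hfC _ (by omega))) (inv_mem c.2)) hi ?_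
    rw [pi_conj c.2 (hfC _ (by omega)), ← hh i hi, ← hc i hi, ← hcσ]
  refine ⟨c, c.2, fun i hi => ?_⟩
  have h2 : i / 2 < 8 := by omega
  obtain ⟨j, hj, e⟩ := key (i / 2) h2
  rcases Nat.mod_two_eq_zero_or_one i with h0 | h0
  · have e' : 2 * (i / 2) = i := by omega
    rw [e'] at e
    exact ⟨j, hj, e⟩
  · have e' : i = 2 * (i / 2) ^^^ 1 := by rw [nat_two_mul_xor_one _ h2]; omega
    refine ⟨j ^^^ 1, xor_lt hj (by norm_num), ?_⟩
    have hct := L.mem_iff.1 c.2
    rw [← D.mul j hj 1 (by norm_num), ← e]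
    conv_lhs => rw [e', ← hf.mul _ (by omega) _ (by norm_num), h1]
    have e3 : (c : G) * L.t * (c : G)⁻¹ = ε 1 := by rw [hct, mul_inv_cancel_right, D.one]
    rw [← e3]
    group

end Loc

end Cfsg.Agent.TypeM.LyL
end

-- part: TypeM/LFactsLyD
section
/-!
# The facts on the Lyons group: the fifth generator, which normalizes both elementary abelian groups
-/

set_option autoImplicit false

namespace Cfsg.Agent.TypeM.LyL

open Equiv Subgroup
open Cfsg.Agent.TypeM.Two Cfsg.Agent.SporRec Cfsg.Agent.SporRec.TwoAn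

variable {G : Type*} [Group G]

/-- additivity of a table -/
def Lin (m : ℕ → ℕ) : Prop := ∀ i < 16, ∀ j < 16, m (i ^^^ j) = m i ^^^ m j

theorem Lin.zero {m : ℕ → ℕ} (h : Lin m) : m 0 = 0 := by
  have := h 0 (by norm_num) 0 (by norm_num)
  simpa using this

theorem Lin.ext {f f' : ℕ → ℕ} (hf : Lin f) (hf' : Lin f') (h1 : f 1 = f' 1) (h2 : f 2 = f' 2)
    (h4 : f 4 = f' 4) (h8 : f 8 = f' 8) : ∀ i < 16, f i = f' i := by
  have h0 : f 0 = f' 0 := by rw [hf.zero, hf'.zero]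
  have key : ∀ b0 b1 b2 b3 : Bool, f ((bif b0 then 1 else 0) ^^^ (bif b1 then 2 else 0) ^^^
      (bif b2 then 4 else 0) ^^^ (bif b3 then 8 else 0)) = f' ((bif b0 then 1 else 0) ^^^ (bif b1 then 2 else 0) ^^^
      (bif b2 then 4 else 0) ^^^ (bif b3 then 8 else 0)) := by
    intro b0 b1 b2 b3
    have e : ∀ {i j : ℕ}, i < 16 → j < 16 → f i = f' i → f j = f' j → f (i ^^^ j) = f' (i ^^^ j) := by
      intro i j hi hj h h'
      rw [hf i hi j hj, hf' i hi j hj, h, h']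
    have l0 : (bif b0 then 1 else 0) < 16 := by cases b0 <;> decide
    have l1 : (bif b1 then 2 else 0) < 16 := by cases b1 <;> decide
    have l2 : (bif b2 then 4 else 0) < 16 := by cases b2 <;> decide
    have l3 : (bif b3 then 8 else 0) < 16 := by cases b3 <;> decide
    refine e (xor_lt (xor_lt l0 l1) l2) l3 (e (xor_lt l0 l1) l2 (e l0 l1 ?_ ?_) ?_) ?_
    · cases b0
      · exact h0
      · exact h1
    · cases b1
      · exact h0
      · exact h2
    · cases b2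
      · exact h0
      · exact h4
    · cases b3
      · exact h0
      · exact h8
  intro i hi
  rw [nat_basis i hi]
  exact key _ _ _ _

theorem lin_act (w : List ℕ) (hw : ∀ k ∈ w, k < 5) : Lin (act w) := by
  induction w with
  | nil => exact fun i _ j _ => rfl
  | cons k w ih =>
    intro i hi j hj
    rw [act_cons, act_cons, act_cons, ih (fun l hl => hw l (List.mem_cons_of_mem _ hl)) i hi j hj,
      gm_xor k (hw k List.mem_cons_self) _ (act_lt w hi) _ (act_lt w hj)]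

theorem lin_gm4_act (w : List ℕ) (hw : ∀ k ∈ w, k < 5) : Lin fun i => gm 4 (act w i) := by
  intro i hi j hj
  show gm 4 (act w (i ^^^ j)) = _
  rw [lin_act w hw i hi j hj, gm_xor 4 (by norm_num) _ (act_lt w hi) _ (act_lt w hj)]

theorem lin_nu (p q : ℕ) : Lin (nu p q) := by
  intro i _ j _
  have key : ∀ (k : ℕ) (b c : Bool), (bif xor b c then k else 0) = (bif b then k else 0) ^^^ (bif c then k else 0) := by
    intro k b c
    cases b <;> cases c <;> simp
  unfold nu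
  rw [Nat.testBit_xor, Nat.testBit_xor, Nat.testBit_xor, Nat.testBit_xor, key, key, key, key]
  ac_rfl

theorem nu_eq {m : ℕ → ℕ} (hm : Lin m) (h1 : m 1 = 3) (h2 : m 2 = 2) : ∀ i < 16, m i = nu (m 4) (m 8) i := by
  refine hm.ext (lin_nu _ _) ?_ ?_ ?_ ?_
  · rw [h1]; simp [nu, Nat.testBit]
  · rw [h2]; simp [nu, Nat.testBit]
  · simp [nu, Nat.testBit]
  · simp [nu, Nat.testBit]

theorem act_one_of (w : List ℕ) (hw : ∀ k ∈ w, k < 4) : act w 1 = 1 := by
  have h : ∀ k < 4, gm k 1 = 1 := by decide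
  induction w with
  | nil => rfl
  | cons k w ih =>
    rw [act_cons, ih (fun l hl => hw l (List.mem_cons_of_mem _ hl)), h k (hw k List.mem_cons_self)]

theorem gm4_surj (P : ℕ → Prop) (h : ∀ i < 16, P (gm 4 i)) : ∀ i < 16, P i := by
  intro i hi
  have := h (gm 4 i) (gm_lt 4 i)
  rwa [gm_gm 4 (by norm_num) i hi] at this

namespace Loc

variable {L : MT 11 G} {T : ℕ → Perm (Fin 11)} {ε s : ℕ → G} (D : Loc L T ε s)
include D

theorem W_conj (w : List ℕ) (hw : ∀ k ∈ w, k < 4) {i : ℕ} (hi : i < 16) :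
    (w.map s).prod * ε i * ((w.map s).prod)⁻¹ = ε (act w i) := by
  rw [D.W_eps w hw hi, mul_inv_cancel_right]

/-- the matrix of an element which swaps `1` and `3` -/
theorem mat (n : G) {m : ℕ → ℕ} (hm : ∀ i < 16, m i < 16) (hn : ∀ i < 16, n * ε i * n⁻¹ = ε (m i))
    (hl : Lin m) (h1 : m 1 = 3) (h3 : m 3 = 1) : ∃ w ∈ w12, ∀ i < 16, m i = gm 4 (act w i) := by
  have h2 : m 2 = 2 := by
    have := hl 1 (by norm_num) 3 (by norm_num)
    rw [h1, h3] at this
    exact this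
  have hnu := nu_eq hl h1 h2
  have key : ∀ v : List ℕ, (∀ k ∈ v, k < 4) → act v 3 = 3 → cnd (m 4) (m 8) v = true := by
    intro v hv hv3
    set V := (v.map s).prod with hV
    have hx : ∀ i < 16, (n * V * n) * ε i * (n * V * n)⁻¹ = ε (m (act v (m i))) := by
      intro i hi
      calc (n * V * n) * ε i * (n * V * n)⁻¹ = n * (V * (n * ε i * n⁻¹) * V⁻¹) * n⁻¹ := by group
        _ = ε (m (act v (m i))) := by
          rw [hn i hi, hV, D.W_conj v hv (hm i hi), hn _ (act_lt v (hm i hi))]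
    have hxC : n * V * n ∈ centralizer ({L.t} : Set G) := by
      rw [L.mem_iff]
      have := hx 1 (by norm_num)
      rw [h1, hv3, h3, D.one] at this
      exact mul_inv_eq_iff_eq_mul.1 this
    obtain ⟨ho, ha⟩ := D.autt (n * V * n) hxC (m := fun i => m (act v (m i)))
      (fun i hi => hm _ (act_lt v (hm i hi))) hx
    have e : ∀ i < 16, nu (m 4) (m 8) (act v (nu (m 4) (m 8) i)) = m (act v (m i)) := by
      intro i hi
      rw [← hnu i hi, ← hnu _ (act_lt v (hm i hi))]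
    unfold cnd memH
    rw [e 2 (by norm_num), e 4 (by norm_num), e 8 (by norm_num), ho, ← ha 2 (by norm_num), ← ha 4 (by norm_num),
      ← ha 8 (by norm_num)]
    simp
  obtain ⟨w, hw, e4, e8⟩ := chk (hm 4 (by norm_num)) (hm 8 (by norm_num)) (key [] (by simp) rfl)
    (key [0] (by simp) (by decide)) (key [3, 1] (by simp) (by decide))
  obtain ⟨hwl, hw1, hw3, hw2⟩ := w12_lt w hw
  refine ⟨w, hw, hl.ext (lin_gm4_act w fun k hk => (hwl k hk).trans (by norm_num)) ?_ ?_ e4 e8⟩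
  · rw [h1, hw1]; decide
  · rw [h2, hw2]; decide

/-- an element which acts as the fifth matrix -/
theorem exists_g0 : ∃ g : G, ∀ i < 16, g * ε i * g⁻¹ = ε (gm 4 i) := by
  obtain ⟨x, hx⟩ := L.one (ε 3) (D.sq (by norm_num)) (fun h => absurd (D.inj 3 (by norm_num) h) (by norm_num))
  have hx' : x⁻¹ * ε 3 * x⁻¹⁻¹ = L.t := by rw [← hx]; group
  have hf : IsE16 fun i => x⁻¹ * ε (gm 4 i) * x⁻¹⁻¹ := by
    constructor
    · intro i hi j hj
      show x⁻¹ * ε (gm 4 i) * x⁻¹⁻¹ * (x⁻¹ * ε (gm 4 j) * x⁻¹⁻¹) = x⁻¹ * ε (gm 4 (i ^^^ j)) * x⁻¹⁻¹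
      rw [gm_xor 4 (by norm_num) i hi j hj, ← D.mul _ (gm_lt 4 i) _ (gm_lt 4 j)]
      group
    · intro i hi h
      have h1 : ε (gm 4 i) = 1 := by
        have : ε (gm 4 i) = x * (x⁻¹ * ε (gm 4 i) * x⁻¹⁻¹) * x⁻¹ := by group
        rw [this, show x⁻¹ * ε (gm 4 i) * x⁻¹⁻¹ = 1 from h]
        group
      have h2 := D.inj _ (gm_lt 4 i) h1
      rw [← gm_gm 4 (by norm_num) i hi, h2]
      decide
  obtain ⟨c, hc, hcf⟩ := D.nf _ hf (by
    show x⁻¹ * ε (gm 4 1) * x⁻¹⁻¹ = L.t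
    rw [show gm 4 1 = 3 by decide]
    exact hx')
  have hn1 : ∀ i < 16, ∃ j < 16, (c * x⁻¹) * ε i * (c * x⁻¹)⁻¹ = ε j := by
    apply gm4_surj
    intro i hi
    obtain ⟨j, hj, e⟩ := hcf i hi
    refine ⟨j, hj, ?_⟩
    rw [← e]
    group
  obtain ⟨m, hm, hme, hml⟩ := D.exists_act _ hn1
  have hm3 : m 3 = 1 := by
    apply D.eq_of (hm 3 (by norm_num)) (by norm_num)
    rw [← hme 3 (by norm_num), D.one]
    calc c * x⁻¹ * ε 3 * (c * x⁻¹)⁻¹ = c * (x⁻¹ * ε 3 * x⁻¹⁻¹) * c⁻¹ := by group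
      _ = L.t := by rw [hx', L.mem_iff.1 hc, mul_inv_cancel_right]
  have hj := hm 1 (by norm_num)
  have hj0 : m 1 ≠ 0 := by
    intro h
    have h1 := hme 1 (by norm_num)
    rw [h, D.zero, mul_inv_eq_one, mul_eq_left] at h1
    exact absurd (D.inj 1 (by norm_num) h1) (by norm_num)
  have hj1 : m 1 ≠ 1 := by
    intro h
    have h1 := hme 1 (by norm_num)
    have h2 := hme 3 (by norm_num)
    rw [h] at h1
    rw [hm3, ← h1] at h2
    have := D.eq_of (by norm_num) (by norm_num) (mul_left_cancel (mul_right_cancel h2))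
    exact absurd this (by norm_num)
  have htw := tw_spec (m 1) hj
  have htw3 := tw_three (m 1) hj hj0 hj1
  set W := ((tw (m 1)).map s).prod with hW
  have hn : ∀ i < 16, (W * (c * x⁻¹)) * ε i * (W * (c * x⁻¹))⁻¹ = ε (act (tw (m 1)) (m i)) := by
    intro i hi
    have e := D.W_conj _ htw (hm i hi)
    rw [← hW, ← hme i hi] at e
    rw [← e]
    group
  obtain ⟨w, hw, hwm⟩ := D.mat (W * (c * x⁻¹)) (m := fun i => act (tw (m 1)) (m i))
    (fun i hi => act_lt _ (hm i hi)) hn (by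
      intro i hi j hj
      show act (tw (m 1)) (m (i ^^^ j)) = _
      rw [hml i hi j hj, lin_act (tw (m 1)) (fun k hk => (htw k hk).trans (by norm_num)) _ (hm i hi) _ (hm j hj)])
    htw3 (by
      show act (tw (m 1)) (m 3) = 1
      rw [hm3]
      exact act_one_of _ htw)
  obtain ⟨hwl, -, -, -⟩ := w12_lt w hw
  refine ⟨W * (c * x⁻¹) * ((w.map s).prod)⁻¹, fun i hi => ?_⟩
  obtain ⟨i', hi', rfl⟩ := act_surj w (fun k hk => (hwl k hk).trans (by norm_num)) i hi
  rw [← hwm i' hi', ← hn i' hi', ← D.W_conj w hwl hi']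
  group

/-- normal form of the images -/
theorem exists_sigma (f : ℕ → G) (hf : IsE16 f) (h1 : f 1 = L.t) (hfC : ∀ i < 16, f i ∈ centralizer ({L.t} : Set G)) :
    ∃ σ : Perm (Fin 11), ∀ i, ∀ hi : i < 8, σ * L.K.π ⟨f (2 * i), hfC _ (by omega)⟩ * σ⁻¹ = T i := by
  have f0 : f 0 = 1 := by
    have := hf.mul 0 (by norm_num) 0 (by norm_num)
    simpa using this
  have hsq : ∀ i < 16, f i * f i = 1 := fun i hi => by rw [hf.mul i hi i hi, Nat.xor_self, f0]
  let h : ℕ → Perm (Fin 11) := fun i => if hi : i < 8 then L.K.π ⟨f (2 * i), hfC _ (by omega)⟩ else 1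
  have hh : ∀ i (hi : i < 8), h i = L.K.π ⟨f (2 * i), hfC _ (by omega)⟩ := fun i hi => dif_pos hi
  have hm : ∀ i < 8, ∀ j < 8, h i * h j = h (i ^^^ j) := by
    intro i hi j hj
    rw [hh i hi, hh j hj, hh _ (xor_lt8 hi hj), ← pi_mul (hfC _ (by omega)) (hfC _ (by omega))]
    refine pi_congr _ ?_
    rw [hf.mul _ (by omega) _ (by omega), nat_two_mul_xor i hi j hj]
  have hs : ∀ i < 8, i ≠ 0 → (h i).support.card = 8 := by
    intro i hi h0
    rw [hh i hi]
    refine LyType.card_support_eq_eight L.K (by rw [Fintype.card_fin]; norm_num) (Subtype.ext (hsq _ (by omega))) ?_ ?_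
    · intro e
      have := hf.inj _ (by omega) (congrArg Subtype.val e)
      omega
    · intro e
      have e1 : f (2 * i) = L.t := (congrArg Subtype.val e).trans L.hz
      have e2 : f (2 * i ^^^ 1) = 1 := by
        rw [← hf.mul _ (by omega) _ (by norm_num), h1, e1, L.t_mul_t]
      have := hf.inj _ (xor_lt (by omega) (by norm_num)) e2
      rw [nat_two_mul_xor_one i hi] at this
      omega
  obtain ⟨σ, -, hc⟩ := exists_conj hm hs D.reg
  refine ⟨σ, fun i hi => ?_⟩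
  rw [← hh i hi]
  exact hc i hi

end Loc

/-- the images of an elementary abelian group of order 16 containing `t` and `u` -/
theorem reg_of_conj {T h : ℕ → Perm (Fin 11)} (R : Reg T) {σ : Perm (Fin 11)}
    (hc : ∀ i < 8, σ * h i * σ⁻¹ = T i) (h1 : h 1 = T 1) {i : ℕ} (hi : i < 8) (hi0 : i ≠ 0) (hi1 : i ≠ 1) :
    (∀ x : Fin 11, 8 ≤ x.val → h i x = x) ∧ (∀ x, h i (h i x) = x) ∧ (∀ x, h i (T 1 x) = T 1 (h i x)) ∧
      (∀ x : Fin 11, x.val < 8 → h i x ≠ x) ∧ (∀ x : Fin 11, x.val < 8 → h i x ≠ T 1 x) := by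
  have hσ : ∀ i < 8, ∀ x, σ (h i x) = T i (σ x) := by
    intro i hi x
    rw [← hc i hi, Perm.mul_apply, Perm.mul_apply, Perm.inv_def, Equiv.symm_apply_apply]
  have hhh : ∀ i < 8, ∀ j < 8, ∀ x, h i (h j x) = h (i ^^^ j) x := by
    intro i hi j hj x
    apply σ.injective
    rw [hσ i hi, hσ j hj, hσ _ (xor_lt8 hi hj), R.apply hi hj]
  have hh0 : ∀ x, h 0 x = x := by
    intro x
    apply σ.injective
    rw [hσ 0 (by norm_num), R.zero]; rfl
  have hbig : ∀ x : Fin 11, 8 ≤ x.val → 8 ≤ (σ x).val := by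
    intro x hx
    by_contra hcon
    have h2 := hσ 1 (by norm_num) x
    rw [h1, R.fix 1 (by norm_num) x hx] at h2
    exact absurd (R.eq_zero_of_fix (by norm_num) (by omega) h2.symm) (by norm_num)
  have hfix : ∀ j < 8, j ≠ 0 → ∀ x : Fin 11, x.val < 8 → h j x ≠ x := by
    intro j hj hj0 x hx e
    have h2 := hσ j hj x
    rw [e] at h2
    have h3 : 8 ≤ (σ x).val := by
      by_contra hcon
      exact hj0 (R.eq_zero_of_fix hj (by omega) h2.symm)
    have h4 : h 1 x = x := by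
      apply σ.injective
      rw [hσ 1 (by norm_num), R.fix 1 (by norm_num) _ h3]
    rw [h1] at h4
    exact absurd (R.eq_zero_of_fix (by norm_num) hx h4) (by norm_num)
  refine ⟨fun x hx => ?_, fun x => ?_, fun x => ?_, hfix i hi hi0, fun x hx e => ?_⟩
  · apply σ.injective
    rw [hσ i hi, R.fix i hi _ (hbig x hx)]
  · rw [hhh i hi i hi, Nat.xor_self, hh0]
  · rw [← h1, hhh i hi 1 (by norm_num), hhh 1 (by norm_num) i hi, Nat.xor_comm]
  · rw [← h1] at e
    have h2 : h (1 ^^^ i) x = x := by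
      rw [← hhh 1 (by norm_num) i hi, e, hhh 1 (by norm_num) 1 (by norm_num), Nat.xor_self, hh0]
    refine hfix _ (xor_lt8 (by norm_num) hi) ?_ x hx h2
    intro e0
    exact hi1 (Nat.xor_eq_zero_iff.1 e0).symm

/-- The two elementary abelian groups. -/
structure Pair (L : MT 11 G) (T T' : ℕ → Perm (Fin 11)) (ε s ε' s' : ℕ → G) : Prop where
  D : Loc L T ε s
  D' : Loc L T' ε' s'
  low : ε' 2 = ε 2
  e8 : ε 8 = s' 0
  b : s' 1 = s 1
  e8' : ε' 8 = s 0
  cover : ∀ p : Perm (Fin 11), (∀ x : Fin 11, 8 ≤ x.val → p x = x) → (∀ x, p (p x) = x) →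
    (∀ x, p (T 1 x) = T 1 (p x)) → (∀ x : Fin 11, x.val < 8 → p x ≠ x) → (∀ x : Fin 11, x.val < 8 → p x ≠ T 1 x) →
    ∃ j < 8, p = T j ∨ p = T' j
  ne : ∀ j < 8, T' 4 ≠ T j

namespace Pair

variable {L : MT 11 G} {T T' : ℕ → Perm (Fin 11)} {ε s ε' s' : ℕ → G} (P : Pair L T T' ε s ε' s')
include P

theorem low' : ∀ i < 4, ε' i = ε i := by
  intro i hi
  interval_cases i
  · rw [P.D.zero, P.D'.zero]
  · rw [P.D.one, P.D'.one]
  · exact P.low
  · have h1 := P.D.mul 1 (by norm_num) 2 (by norm_num)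
    have h2 := P.D'.mul 1 (by norm_num) 2 (by norm_num)
    rw [show (1 ^^^ 2 : ℕ) = 3 by decide] at h1 h2
    rw [← h1, ← h2, P.low, P.D.one, P.D'.one]

end Pair

/-- a family acting on another one through the classes of `V` -/
theorem cl_act {L : MT 11 G} {T T' : ℕ → Perm (Fin 11)} {ε s ε' s' : ℕ → G} (D : Loc L T ε s) (D' : Loc L T' ε' s')
    (low : ∀ i < 4, ε' i = ε i) (b : s' 1 = s 1) (e8' : ε' 8 = s 0) :
    ∀ j < 16, ∀ i < 16, ε' j * ε i = ε (act (cl (j / 4)) i) * ε' j := by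
  have h8 : ∀ i < 16, ε' 8 * ε i = ε (gm 0 i) * ε' 8 := fun i hi => by
    rw [e8']; exact D.sε 0 (by norm_num) i hi
  have e4 : ε' 4 = s 1 * ε' 8 * (s 1)⁻¹ := by
    have := D'.sε 1 (by norm_num) 8 (by norm_num)
    rw [show gm 1 8 = 4 by decide, b] at this
    rw [this, mul_inv_cancel_right]
  have hb : ∀ i < 16, (s 1)⁻¹ * ε i = ε (gm 1 i) * (s 1)⁻¹ := by
    intro i hi
    have := D.sε 1 (by norm_num) (gm 1 i) (gm_lt 1 i)
    rw [gm_gm 1 (by norm_num) i hi] at this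
    rw [inv_mul_eq_iff_eq_mul, ← mul_assoc, this, mul_inv_cancel_right]
  have h4 : ∀ i < 16, ε' 4 * ε i = ε (gm 1 (gm 0 (gm 1 i))) * ε' 4 := by
    intro i hi
    rw [e4, mul_assoc, hb i hi, ← mul_assoc, mul_assoc (s 1), h8 _ (gm_lt 1 i), ← mul_assoc,
      D.sε 1 (by norm_num) _ (gm_lt 0 _)]
    simp only [mul_assoc]
  have hc : ∀ c < 4, ∀ i < 16, ε' (4 * c) * ε i = ε (act (cl c) i) * ε' (4 * c) := by
    intro c hc i hi
    interval_cases c
    · rw [mul_zero, D'.zero, one_mul, mul_one]; rfl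
    · exact h4 i hi
    · exact h8 i hi
    · have e12 : ε' (4 * 3) = ε' 4 * ε' 8 := by
        rw [D'.mul 4 (by norm_num) 8 (by norm_num)]; rfl
      rw [e12, mul_assoc, h8 i hi, ← mul_assoc, h4 _ (gm_lt 0 i), mul_assoc]
      rfl
  intro j hj i hi
  have hsp : ∀ j < 16, 4 * (j / 4) ^^^ (j % 4) = j := by decide
  have e : ε' j = ε' (4 * (j / 4)) * ε (j % 4) := by
    rw [← low (j % 4) (by omega), D'.mul _ (by omega) _ (by omega), hsp j hj]
  rw [e, mul_assoc, D.comm_eps (by omega) hi, ← mul_assoc, hc _ (by omega) i hi, mul_assoc]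

namespace Pair

variable {L : MT 11 G} {T T' : ℕ → Perm (Fin 11)} {ε s ε' s' : ℕ → G} (P : Pair L T T' ε s ε' s')
include P

theorem act' : ∀ j < 16, ∀ i < 16, ε' j * ε i = ε (act (cl (j / 4)) i) * ε' j :=
  cl_act P.D P.D' P.low' P.b P.e8'

theorem act0 : ∀ j < 16, ∀ i < 16, ε j * ε' i = ε' (act (cl (j / 4)) i) * ε j :=
  cl_act P.D' P.D (fun i hi => (P.low' i hi).symm) P.b.symm P.e8

/-- an element acting on the first group as the fifth matrix normalizes the second one -/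
theorem norm' {g : G} (hg : ∀ i < 16, g * ε i * g⁻¹ = ε (gm 4 i)) :
    ∀ i < 16, ∃ j < 16, g * ε' i * g⁻¹ = ε' j := by
  have hf : IsE16 fun i => g * ε' (gm 4 i) * g⁻¹ := by
    constructor
    · intro i hi j hj
      show g * ε' (gm 4 i) * g⁻¹ * (g * ε' (gm 4 j) * g⁻¹) = g * ε' (gm 4 (i ^^^ j)) * g⁻¹
      rw [gm_xor 4 (by norm_num) i hi j hj, ← P.D'.mul _ (gm_lt 4 i) _ (gm_lt 4 j)]
      group
    · intro i hi h
      have h1 : ε' (gm 4 i) = 1 := by
        have : ε' (gm 4 i) = g⁻¹ * (g * ε' (gm 4 i) * g⁻¹) * g := by group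
        rw [this, show g * ε' (gm 4 i) * g⁻¹ = 1 from h]
        group
      have h2 := P.D'.inj _ (gm_lt 4 i) h1
      rw [← gm_gm 4 (by norm_num) i hi, h2]
      decide
  set f : ℕ → G := fun i => g * ε' (gm 4 i) * g⁻¹ with hfdef
  have hflow : ∀ i < 4, f i = ε i := by
    intro i hi
    have h4 : ∀ i < 4, gm 4 i < 4 := by decide
    show g * ε' (gm 4 i) * g⁻¹ = ε i
    rw [P.low' _ (h4 i hi), hg _ (gm_lt 4 i), gm_gm 4 (by norm_num) i (by omega)]
  have hf1 : f 1 = L.t := by rw [hflow 1 (by norm_num), P.D.one]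
  have f0 : f 0 = 1 := by rw [hflow 0 (by norm_num), P.D.zero]
  have hfC : ∀ i < 16, f i ∈ centralizer ({L.t} : Set G) := by
    intro i hi
    rw [L.mem_iff, ← hf1, hf.mul i hi 1 (by norm_num), hf.mul 1 (by norm_num) i hi, Nat.xor_comm]
  obtain ⟨σ, hσ⟩ := P.D.exists_sigma f hf hf1 hfC
  let h : ℕ → Perm (Fin 11) := fun i => if hi : i < 8 then L.K.π ⟨f (2 * i), hfC _ (by omega)⟩ else 1
  have hh : ∀ i (hi : i < 8), h i = L.K.π ⟨f (2 * i), hfC _ (by omega)⟩ := fun i hi => dif_pos hi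
  have hh1 : h 1 = T 1 := by
    rw [hh 1 (by norm_num), Loc.pi_congr _ (show f (2 * 1) = ε (2 * 1) from hflow 2 (by norm_num))]
    exact P.D.pr 1 (by norm_num) _
  -- the elements with even index
  have heven : ∀ i < 8, (∃ j < 16, f (2 * i) = ε j) ∨ ∃ j < 16, f (2 * i) = ε' j := by
    intro i hi
    by_cases h0 : i = 0
    · subst h0
      exact Or.inl ⟨0, by norm_num, by rw [mul_zero]; exact hflow 0 (by norm_num)⟩
    by_cases h1 : i = 1
    · subst h1
      exact Or.inl ⟨2, by norm_num, hflow 2 (by norm_num)⟩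
    obtain ⟨a1, a2, a3, a4, a5⟩ := reg_of_conj P.D.reg (h := h) (σ := σ) (fun i hi => by rw [hh i hi]; exact hσ i hi)
      hh1 hi h0 h1
    obtain ⟨j, hj, e | e⟩ := P.cover (h i) a1 a2 a3 a4 a5
    · left
      exact P.D.exists_eq_of_pi (hfC _ (by omega)) hj (by rw [← hh i hi]; exact e)
    · right
      exact P.D'.exists_eq_of_pi (hfC _ (by omega)) hj (by rw [← hh i hi]; exact e)
  have hall : ∀ i < 16, (∃ j < 16, f i = ε j) ∨ ∃ j < 16, f i = ε' j := by
    intro i hi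
    have h2 : i / 2 < 8 := by omega
    rcases Nat.mod_two_eq_zero_or_one i with h0 | h0
    · have e' : 2 * (i / 2) = i := by omega
      rw [← e']
      exact heven _ h2
    · have e' : i = 2 * (i / 2) ^^^ 1 := by rw [nat_two_mul_xor_one _ h2]; omega
      rw [e', ← hf.mul _ (by omega) _ (by norm_num)]
      rcases heven _ h2 with ⟨j, hj, e⟩ | ⟨j, hj, e⟩
      · left
        refine ⟨j ^^^ 1, xor_lt hj (by norm_num), ?_⟩
        rw [e, hf1, ← P.D.mul j hj 1 (by norm_num), P.D.one]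
      · right
        refine ⟨j ^^^ 1, xor_lt hj (by norm_num), ?_⟩
        rw [e, hf1, ← P.D'.mul j hj 1 (by norm_num), P.D'.one]
  have hfin : ∀ i < 16, ∃ j < 16, f i = ε' j := by
    intro i hi
    by_contra hB
    have hA := (hall i hi).resolve_right hB
    have hfsq : ∀ i < 16, f i * f i = 1 := fun i hi => by rw [hf.mul i hi i hi, Nat.xor_self, f0]
    have hallA : ∀ j < 16, ∃ k < 16, f j = ε k := by
      intro j hj
      by_contra hA'
      have hB' := (hall j hj).resolve_left hA'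
      have e1 : f i = f (i ^^^ j) * f j := by
        rw [← hf.mul i hi j hj, mul_assoc, hfsq j hj, mul_one]
      have e2 : f j = f i * f (i ^^^ j) := by
        rw [← hf.mul i hi j hj, ← mul_assoc, hfsq i hi, one_mul]
      rcases hall _ (xor_lt hi hj) with ⟨k, hk, e⟩ | ⟨k, hk, e⟩
      · obtain ⟨l, hl, e'⟩ := hA
        exact hA' ⟨l ^^^ k, xor_lt hl hk, by rw [e2, e, e', P.D.mul l hl k hk]⟩
      · obtain ⟨l, hl, e'⟩ := hB'
        exact hB ⟨k ^^^ l, xor_lt hk hl, by rw [e1, e, e', P.D'.mul k hk l hl]⟩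
    obtain ⟨k, hk, e⟩ := hallA 12 (by norm_num)
    have e3 : ε' 8 = ε (gm 4 k) := by
      have e4 : f 12 = g * ε' 8 * g⁻¹ := by
        show g * ε' (gm 4 12) * g⁻¹ = _
        rw [show gm 4 12 = 8 by decide]
      have e5 : ε k = g * ε (gm 4 k) * g⁻¹ := by rw [hg _ (gm_lt 4 k), gm_gm 4 (by norm_num) k hk]
      rw [e4, e5] at e
      exact mul_left_cancel (mul_right_cancel e)
    have e6 := P.D'.pr' (i := 8) (by norm_num) (P.D'.memC (by norm_num))
    rw [Loc.pi_congr _ e3, P.D.pr' (gm_lt 4 k)] at e6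
    have h8 : gm 4 k / 2 < 8 := by have := gm_lt 4 k; omega
    exact P.ne _ h8 e6.symm
  apply gm4_surj
  exact hfin

/-- The fifth generator. -/
theorem exists_g : ∃ g : G, (∀ i < 16, g * ε i * g⁻¹ = ε (gm 4 i)) ∧ ∀ i < 16, g * ε' i * g⁻¹ = ε' (gm 4 i) := by
  obtain ⟨g, hg⟩ := P.D.exists_g0
  have hg' := P.norm' hg
  obtain ⟨m, hm, hme, hml⟩ := P.D'.exists_act g hg'
  have h1 : m 1 = 3 := by
    apply P.D'.eq_of (hm 1 (by norm_num)) (by norm_num)
    rw [← hme 1 (by norm_num), P.low' 1 (by norm_num), P.low' 3 (by norm_num), hg 1 (by norm_num)]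
    exact congrArg ε (by decide)
  have h3 : m 3 = 1 := by
    apply P.D'.eq_of (hm 3 (by norm_num)) (by norm_num)
    rw [← hme 3 (by norm_num), P.low' 1 (by norm_num), P.low' 3 (by norm_num), hg 3 (by norm_num)]
    exact congrArg ε (by decide)
  obtain ⟨w, hw, hwm⟩ := P.D'.mat g hm hme hml h1 h3
  -- the classes
  have hgi : ∀ i < 16, g⁻¹ * ε i * g = ε (gm 4 i) := by
    intro i hi
    have := hg (gm 4 i) (gm_lt 4 i)
    rw [gm_gm 4 (by norm_num) i hi] at this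
    rw [← this]; group
  have hcls : ∀ j < 16, ∀ i < 16, act (cl (m j / 4)) i = gm 4 (act (cl (j / 4)) (gm 4 i)) := by
    intro j hj i hi
    apply P.D.eq_of (act_lt _ hi) (gm_lt 4 _)
    have e1 := P.act' (m j) (hm j hj) i hi
    have e2 : ε (act (cl (m j / 4)) i) = ε' (m j) * ε i * (ε' (m j))⁻¹ := by
      rw [e1, mul_inv_cancel_right]
    rw [e2, ← hme j hj, ← hg _ (act_lt _ (gm_lt 4 i))]
    have e3 : ε (act (cl (j / 4)) (gm 4 i)) = ε' j * ε (gm 4 i) * (ε' j)⁻¹ := by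
      rw [P.act' j hj _ (gm_lt 4 i), mul_inv_cancel_right]
    rw [e3, ← hgi i hi]
    group
  have c1 : m 4 / 4 = 1 := by
    apply cl_one _ (hm 4 (by norm_num))
    intro i hi
    rw [hcls 4 (by norm_num) i hi]
    rfl
  have c2 : m 8 / 4 = 3 := by
    apply cl_two _ (hm 8 (by norm_num))
    intro i hi
    rw [hcls 8 (by norm_num) i hi]
    rfl
  rw [hwm 4 (by norm_num)] at c1
  rw [hwm 8 (by norm_num)] at c2
  obtain ⟨e, he, hwe⟩ := w12_cl w hw c1 c2
  have hee : ∀ e < 4, ∀ i < 16, act (cl e) (act (cl e) i) = i := by decide +kernel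
  have h4e : 4 * e < 16 := by omega
  have hact : ∀ i < 16, ε (4 * e) * ε' i * (ε (4 * e))⁻¹ = ε' (act (cl e) i) := by
    intro i hi
    have := P.act0 (4 * e) h4e i hi
    rw [show 4 * e / 4 = e by omega] at this
    rw [this, mul_inv_cancel_right]
  refine ⟨g * ε (4 * e), fun i hi => ?_, fun i hi => ?_⟩
  · rw [← hg i hi]
    have : ε (4 * e) * ε i * (ε (4 * e))⁻¹ = ε i := by rw [P.D.comm_eps h4e hi, mul_inv_cancel_right]
    conv_rhs => rw [← this]
    group
  · calc g * ε (4 * e) * ε' i * (g * ε (4 * e))⁻¹ = g * (ε (4 * e) * ε' i * (ε (4 * e))⁻¹) * g⁻¹ := by group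
      _ = ε' (m (act (cl e) i)) := by rw [hact i hi, hme _ (act_lt _ hi)]
      _ = ε' (gm 4 i) := by
        rw [hwm _ (act_lt _ hi), hwe _ (act_lt _ hi), hee e he i hi]

end Pair

end Cfsg.Agent.TypeM.LyL
end

-- part: TypeM/LFactsLy
section
/-!
# The facts on groups of type `MT 11` (the Lyons group) used in Theorem W of S1739

The elementary abelian groups are lifts of the two translation groups of the affine space of order eight on the
points `0, …, 7`; all identities in the centralizer `2.A₁₁` are checked by computation in the Clifford cover.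
-/

set_option autoImplicit false

namespace Cfsg.Agent.TypeM.LyL

open Equiv Subgroup
open Cfsg.Agent.CharactersDeep.DoubleCover
open Cfsg.Agent.SporadicRecognition.AltCover
open Cfsg.Agent.R10.TCalc Cfsg.Agent.R10.TEval
open Cfsg.Agent.TypeM.Two Cfsg.Agent.SporRec Cfsg.Agent.SporRec.TwoAn

/-- words in transpositions -/
abbrev Wd := List (Fin 11 × Fin 11)

def uW : Wd := [(0, 1), (2, 3), (4, 5), (6, 7)]
def cW : Wd := [(0, 2), (1, 3), (4, 6), (5, 7)]
def dW : Wd := [(0, 4), (1, 5), (2, 6), (3, 7)]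
def aW : Wd := [(0, 3), (1, 2), (4, 6), (5, 7)]
def bW : Wd := [(0, 1), (2, 5), (3, 4), (6, 7)]
def xW : Wd := [(1, 7), (3, 5)]
def yW : Wd := [(4, 6), (5, 7)]
def wW : Wd := [(1, 6), (2, 4)]
def babW : Wd := [(0, 1), (2, 5), (3, 4), (6, 7), (0, 3), (1, 2), (4, 6), (5, 7), (6, 7), (3, 4), (2, 5), (0, 1)]
def bybW : Wd := [(0, 1), (2, 5), (3, 4), (6, 7), (4, 6), (5, 7), (6, 7), (3, 4), (2, 5), (0, 1)]

/-- sign and word of the elements of the first group -/
def gE (i : ℕ) : Bool := xor (i.testBit 0) (xor (i.testBit 2) (i.testBit 3))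
def wE (i : ℕ) : Wd :=
  (bif i.testBit 1 then uW else []) ++ ((bif i.testBit 2 then cW else []) ++ (bif i.testBit 3 then dW else []))

/-- sign and word of the elements of the second group -/
def gF (i : ℕ) : Bool := i.testBit 0
def wF (i : ℕ) : Wd :=
  (bif i.testBit 1 then uW else []) ++ ((bif i.testBit 2 then babW else []) ++ (bif i.testBit 3 then aW else []))

/-- words of the generators -/
def wS : ℕ → Wd
  | 0 => aW
  | 1 => bW
  | 2 => xW
  | 3 => yW
  | _ => []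

def gS' : ℕ → Bool
  | 0 => true
  | _ => false

def wS' : ℕ → Wd
  | 0 => dW
  | 1 => bW
  | 2 => wW
  | 3 => bybW
  | _ => []

/-- value of a signed word -/
def vl (s : Bool) (w : Wd) : Bool × List (Fin 11 × Fin 11) := (xor s (nf w).1, (nf w).2)

private noncomputable def _root_.Cfsg.Agent.LsF.fa3e692_0 : {f // @Cfsg.Agent.R10.TCalc.sw = f} := ⟨_, by first | (delta Cfsg.Agent.R10.TCalc.sw; rewrite [Cfsg.Agent.LsF.dFinEq_eq, Cfsg.Agent.LsF.ite_eq]; exact rfl) | exact rfl⟩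
private noncomputable def _root_.Cfsg.Agent.LsF.fa3e692_1 : {f // @Cfsg.Agent.R10.TCalc.ins = f} := ⟨_, by first | (delta Cfsg.Agent.R10.TCalc.ins List.brecOn List.brecOn.go Cfsg.Agent.R10.TCalc.ins._f; rewrite [Cfsg.Agent.LsF.fa3e692_0.2, Cfsg.Agent.LsF.not_eq, Cfsg.Agent.LsF.dFinEq_eq, Cfsg.Agent.LsF.ite_eq]; (try delta Cfsg.Agent.R10.TCalc.ins.match_1); (try delta List.casesOn Prod.casesOn); first | dsimp -zeta only | exact rfl) | exact rfl⟩
private noncomputable def _root_.Cfsg.Agent.LsF.fa3e692_2 : {f // @Cfsg.Agent.R10.TCalc.step = f} := ⟨_, by first | (delta Cfsg.Agent.R10.TCalc.step; rewrite [Cfsg.Agent.LsF.fa3e692_1.2, Cfsg.Agent.LsF.dFinEq_eq, Cfsg.Agent.LsF.bxor_eq, Cfsg.Agent.LsF.ite_eq]; exact rfl) | exact rfl⟩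
private noncomputable def _root_.Cfsg.Agent.LsF.fa3e692_3 : {f // @Cfsg.Agent.R10.TCalc.run = f} := ⟨_, by first | (delta Cfsg.Agent.R10.TCalc.run; rewrite [Cfsg.Agent.LsF.fa3e692_2.2, Cfsg.Agent.LsF.foldl_eq]; exact rfl) | exact rfl⟩
private noncomputable def _root_.Cfsg.Agent.LsF.fa3e692_4 : {f // @Cfsg.Agent.R10.TCalc.start = f} := ⟨_, by first | (delta Cfsg.Agent.R10.TCalc.start; rewrite [Cfsg.Agent.LsF.map_eq, Cfsg.Agent.LsF.reverse_eq, Cfsg.Agent.LsF.finRange_eq]; exact rfl) | exact rfl⟩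
private noncomputable def _root_.Cfsg.Agent.LsF.fa3e692_5 : {f // @Cfsg.Agent.R10.TCalc.nf = f} := ⟨_, by first | (delta Cfsg.Agent.R10.TCalc.nf; rewrite [Cfsg.Agent.LsF.fa3e692_3.2, Cfsg.Agent.LsF.fa3e692_4.2]; exact rfl) | exact rfl⟩
private noncomputable def _root_.Cfsg.Agent.LsF.fa3e692_6 : {f // @Cfsg.Agent.TypeM.LyL.vl = f} := ⟨_, by first | (delta Cfsg.Agent.TypeM.LyL.vl; rewrite [Cfsg.Agent.LsF.fa3e692_5.2, Cfsg.Agent.LsF.bxor_eq]; exact rfl) | exact rfl⟩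
private noncomputable def _root_.Cfsg.Agent.LsF.fa3e692_7 : {f // @Cfsg.Agent.TypeM.LyL.gE = f} := ⟨_, by first | (delta Cfsg.Agent.TypeM.LyL.gE; rewrite [Cfsg.Agent.LsF.testBit_eq, Cfsg.Agent.LsF.bxor_eq]; exact rfl) | exact rfl⟩
private noncomputable def _root_.Cfsg.Agent.LsF.fa3e692_8 : {f // @Cfsg.Agent.TypeM.LyL.wE = f} := ⟨_, by first | (delta Cfsg.Agent.TypeM.LyL.wE; rewrite [Cfsg.Agent.LsF.lappend_pat, Cfsg.Agent.LsF.cond_eq, Cfsg.Agent.LsF.testBit_eq]; exact rfl) | exact rfl⟩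
theorem mulE : ∀ i < 16, ∀ j < 16, vl (xor (gE i) (gE j)) (wE i ++ wE j) = vl (gE (i ^^^ j)) (wE (i ^^^ j)) := by
  (refine of_decide_eq_true ?_; (try (rewrite [Cfsg.Agent.LsF.fa3e692_6.2, Cfsg.Agent.LsF.fa3e692_7.2, Cfsg.Agent.LsF.fa3e692_8.2, Cfsg.Agent.LsF.nxor_pat, Cfsg.Agent.LsF.lappend_pat, Cfsg.Agent.LsF.dProdEq_eq, Cfsg.Agent.LsF.dFinEq_eq, Cfsg.Agent.LsF.dBoolEq_eq, Cfsg.Agent.LsF.dListEq_eq, Cfsg.Agent.LsF.dBallLT_eq, Cfsg.Agent.LsF.bxor_eq, Cfsg.Agent.LsF.decide_eq])); decide +kernel)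

private noncomputable def _root_.Cfsg.Agent.LsF.fa3e692_9 : {f // @Cfsg.Agent.TypeM.LyL.gF = f} := ⟨_, by first | (delta Cfsg.Agent.TypeM.LyL.gF; rewrite [Cfsg.Agent.LsF.testBit_eq]; exact rfl) | exact rfl⟩
private noncomputable def _root_.Cfsg.Agent.LsF.fa3e692_10 : {f // @Cfsg.Agent.TypeM.LyL.wF = f} := ⟨_, by first | (delta Cfsg.Agent.TypeM.LyL.wF; rewrite [Cfsg.Agent.LsF.lappend_pat, Cfsg.Agent.LsF.cond_eq, Cfsg.Agent.LsF.testBit_eq]; exact rfl) | exact rfl⟩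
theorem mulF : ∀ i < 16, ∀ j < 16, vl (xor (gF i) (gF j)) (wF i ++ wF j) = vl (gF (i ^^^ j)) (wF (i ^^^ j)) := by
  (refine of_decide_eq_true ?_; (try (rewrite [Cfsg.Agent.LsF.fa3e692_6.2, Cfsg.Agent.LsF.fa3e692_9.2, Cfsg.Agent.LsF.fa3e692_10.2, Cfsg.Agent.LsF.nxor_pat, Cfsg.Agent.LsF.lappend_pat, Cfsg.Agent.LsF.dProdEq_eq, Cfsg.Agent.LsF.dFinEq_eq, Cfsg.Agent.LsF.dBoolEq_eq, Cfsg.Agent.LsF.dListEq_eq, Cfsg.Agent.LsF.dBallLT_eq, Cfsg.Agent.LsF.bxor_eq, Cfsg.Agent.LsF.decide_eq])); decide +kernel)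

private noncomputable def _root_.Cfsg.Agent.LsF.fa3e692_11 : {f // @Cfsg.Agent.TypeM.LyL.wS = f} := ⟨_, by first | (delta Cfsg.Agent.TypeM.LyL.wS; (try delta Cfsg.Agent.TypeM.LyL.wS.match_1); (try rewrite [Cfsg.Agent.LsF.instDecEq_eq, Cfsg.Agent.LsF.dite_eq]); exact rfl) | exact rfl⟩
private noncomputable def _root_.Cfsg.Agent.LsF.fa3e692_12 : {f // @Cfsg.Agent.TypeM.gm = f} := ⟨_, by first | (delta Cfsg.Agent.TypeM.gm; rewrite [Cfsg.Agent.LsF.nmul_pat, Cfsg.Agent.LsF.nand_pat, Cfsg.Agent.LsF.nshr_pat, Cfsg.Agent.LsF.getD_eq]; exact rfl) | exact rfl⟩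
theorem actE : ∀ k < 4, ∀ i < 16, vl (xor false (gE i)) (wS k ++ wE i) = vl (xor (gE (gm k i)) false) (wE (gm k i) ++ wS k) := by
  (refine of_decide_eq_true ?_; (try (rewrite [Cfsg.Agent.LsF.fa3e692_6.2, Cfsg.Agent.LsF.fa3e692_7.2, Cfsg.Agent.LsF.fa3e692_11.2, Cfsg.Agent.LsF.fa3e692_8.2, Cfsg.Agent.LsF.fa3e692_12.2, Cfsg.Agent.LsF.lappend_pat, Cfsg.Agent.LsF.dProdEq_eq, Cfsg.Agent.LsF.dFinEq_eq, Cfsg.Agent.LsF.dBoolEq_eq, Cfsg.Agent.LsF.dListEq_eq, Cfsg.Agent.LsF.dBallLT_eq, Cfsg.Agent.LsF.bxor_eq, Cfsg.Agent.LsF.decide_eq])); decide +kernel)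

private noncomputable def _root_.Cfsg.Agent.LsF.fa3e692_13 : {f // @Cfsg.Agent.TypeM.LyL.gS' = f} := ⟨_, by first | (delta Cfsg.Agent.TypeM.LyL.gS'; (try delta Cfsg.Agent.TypeM.LyL.gS'.match_1); (try rewrite [Cfsg.Agent.LsF.instDecEq_eq, Cfsg.Agent.LsF.dite_eq]); exact rfl) | exact rfl⟩
private noncomputable def _root_.Cfsg.Agent.LsF.fa3e692_14 : {f // @Cfsg.Agent.TypeM.LyL.wS' = f} := ⟨_, by first | (delta Cfsg.Agent.TypeM.LyL.wS'; (try delta Cfsg.Agent.TypeM.LyL.wS.match_1); (try rewrite [Cfsg.Agent.LsF.instDecEq_eq, Cfsg.Agent.LsF.dite_eq]); exact rfl) | exact rfl⟩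
theorem actF : ∀ k < 4, ∀ i < 16, vl (xor (gS' k) (gF i)) (wS' k ++ wF i) =
    vl (xor (gF (gm k i)) (gS' k)) (wF (gm k i) ++ wS' k) := by
  (refine of_decide_eq_true ?_; (try (rewrite [Cfsg.Agent.LsF.fa3e692_6.2, Cfsg.Agent.LsF.fa3e692_13.2, Cfsg.Agent.LsF.fa3e692_9.2, Cfsg.Agent.LsF.fa3e692_14.2, Cfsg.Agent.LsF.fa3e692_10.2, Cfsg.Agent.LsF.fa3e692_12.2, Cfsg.Agent.LsF.lappend_pat, Cfsg.Agent.LsF.dProdEq_eq, Cfsg.Agent.LsF.dFinEq_eq, Cfsg.Agent.LsF.dBoolEq_eq, Cfsg.Agent.LsF.dListEq_eq, Cfsg.Agent.LsF.dBallLT_eq, Cfsg.Agent.LsF.bxor_eq, Cfsg.Agent.LsF.decide_eq])); decide +kernel)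

/-- the permutations of the first group -/
def TE (i : ℕ) : Perm (Fin 11) := pm (wE (2 * i))

/-- the permutations of the second group -/
def TF (i : ℕ) : Perm (Fin 11) := pm (wF (2 * i))

theorem regE : Reg TE where
  mul := by
    obtain ⟨c, t, m⟩ : ∃ c : ℕ → ℕ → ℕ, (∀ i < 8, ∀ x : Fin 11, (TE i x).val = c i x.val) ∧
        ∀ i < 8, ∀ j < 8, i ^^^ j < 8 ∧ ∀ x : Fin 11, c i (c j x.val) = c (i ^^^ j) x.val :=
      ⟨fun i x => Nat.land (Nat.shiftRight 8466195942894581458661817768793947778299416689385531687528542809206249798090456649733827949349787673630900159399620807721191257934929295764425552400 (Nat.add (Nat.mul 64 i) (Nat.mul 4 x))) 15, by decide +kernel, by decide +kernel⟩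
    exact fun i hi j hj => Equiv.ext fun x => Fin.ext ((t i hi _).trans ((congrArg (c i) (t j hj x)).trans
      (((m i hi j hj).2 x).trans (t _ (m i hi j hj).1 x).symm)))
  fix := by decide +kernel
  low := by decide +kernel
  surj := by decide +kernel
  inj := by decide +kernel

theorem regF : Reg TF where
  mul := by
    obtain ⟨c, t, m⟩ : ∃ c : ℕ → ℕ → ℕ, (∀ i < 8, ∀ x : Fin 11, (TF i x).val = c i x.val) ∧
        ∀ i < 8, ∀ j < 8, i ^^^ j < 8 ∧ ∀ x : Fin 11, c i (c j x.val) = c (i ^^^ j) x.val :=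
      ⟨fun i x => Nat.land (Nat.shiftRight 8466378857859604117196049471774747944934035251057352595516403099288182872853204154440448112694072174960477617003537359860652865389540362732034077200 (Nat.add (Nat.mul 64 i) (Nat.mul 4 x))) 15, by decide +kernel, by decide +kernel⟩
    exact fun i hi j hj => Equiv.ext fun x => Fin.ext ((t i hi _).trans ((congrArg (c i) (t j hj x)).trans
      (((m i hi j hj).2 x).trans (t _ (m i hi j hj).1 x).symm)))
  fix := by decide +kernel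
  low := by decide +kernel
  surj := by decide +kernel
  inj := by decide +kernel

theorem TF_ne : ∀ j < 8, TF 4 ≠ TE j := by decide +kernel

/-! ### the fixed-point-free involutions commuting with `TE 1` -/

/-- the involution -/
def ub (x : Fin 11) : Fin 11 := TE 1 x

/-- a point outside two blocks -/
def bf (a : Fin 11) : Fin 11 := if a.val < 4 then 4 else 2

/-- admissible values -/
def okac (a c : Fin 11) : Bool :=
  decide (2 ≤ a.val) && decide (a.val < 8) && decide (c.val < 8) && c != 0 && c != 1 && c != a && c != ub a && c != bf a &&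
    c != ub (bf a)

/-- the values of the permutation -/
def eqs (q : Fin 11 → Fin 11) (a c : Fin 11) : Bool :=
  q 0 == a && q 1 == ub a && q a == 0 && q (ub a) == 1 && q (bf a) == c && q (ub (bf a)) == ub c && q c == bf a &&
    q (ub c) == ub (bf a) && q 8 == 8 && q 9 == 9 && q 10 == 10

theorem cover_aux : ∀ a c : Fin 11, (!(okac a c) || ((List.range 8).any fun j => eqs (TE j) a c || eqs (TF j) a c)) = true := by
  decide +kernel

theorem all_mem : ∀ a c : Fin 11, okac a c = true → ∀ x : Fin 11,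
    x ∈ [0, 1, a, ub a, bf a, ub (bf a), c, ub c, 8, 9, 10] := by
  decide +kernel

theorem bf_spec : ∀ a : Fin 11, 2 ≤ a.val → a.val < 8 → (bf a).val < 8 ∧ bf a ≠ 0 ∧ bf a ≠ 1 ∧ bf a ≠ a ∧ bf a ≠ ub a := by
  decide +kernel

theorem ub_zero : ub 0 = 1 := by decide +kernel
theorem eqs_ext {p q : Fin 11 → Fin 11} {a c : Fin 11} (ho : okac a c = true) (hp : eqs p a c = true) (hq : eqs q a c = true) :
    p = q := by
  funext x
  have hx := all_mem a c ho x
  simp only [eqs, Bool.and_eq_true, beq_iff_eq] at hp hq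
  obtain ⟨⟨⟨⟨⟨⟨⟨⟨⟨⟨p1, p2⟩, p3⟩, p4⟩, p5⟩, p6⟩, p7⟩, p8⟩, p9⟩, p10⟩, p11⟩ := hp
  obtain ⟨⟨⟨⟨⟨⟨⟨⟨⟨⟨q1, q2⟩, q3⟩, q4⟩, q5⟩, q6⟩, q7⟩, q8⟩, q9⟩, q10⟩, q11⟩ := hq
  simp only [List.mem_cons, List.not_mem_nil, or_false] at hx
  rcases hx with h | h | h | h | h | h | h | h | h | h | h <;> rw [h]
  · rw [p1, q1]
  · rw [p2, q2]
  · rw [p3, q3]
  · rw [p4, q4]
  · rw [p5, q5]
  · rw [p6, q6]
  · rw [p7, q7]
  · rw [p8, q8]
  · rw [p9, q9]
  · rw [p10, q10]
  · rw [p11, q11]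

theorem cover_spec (p : Perm (Fin 11)) (h1 : ∀ x : Fin 11, 8 ≤ x.val → p x = x) (h2 : ∀ x, p (p x) = x)
    (h3 : ∀ x, p (TE 1 x) = TE 1 (p x)) (h4 : ∀ x : Fin 11, x.val < 8 → p x ≠ x)
    (h5 : ∀ x : Fin 11, x.val < 8 → p x ≠ TE 1 x) : ∃ j < 8, p = TE j ∨ p = TF j := by
  have h3' : ∀ x, p (ub x) = ub (p x) := h3
  have h5' : ∀ x : Fin 11, x.val < 8 → p x ≠ ub x := h5
  have hlow : ∀ x : Fin 11, x.val < 8 → (p x).val < 8 := by
    intro x hx
    by_contra hcon
    have e := h1 (p x) (by omega)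
    rw [h2] at e
    rw [← e] at hcon
    exact hcon hx
  set a := p 0 with ha
  have ha8 : a.val < 8 := hlow 0 (by norm_num)
  have ha0 : a ≠ 0 := h4 0 (by norm_num)
  have ha1 : a ≠ 1 := by
    have := h5' 0 (by norm_num)
    rwa [ub_zero] at this
  have ha2 : 2 ≤ a.val := by
    have e0 : a.val ≠ 0 := fun h => ha0 (Fin.ext h)
    have e1 : a.val ≠ 1 := fun h => ha1 (Fin.ext h)
    omega
  have p1 : p 1 = ub a := by rw [← ub_zero, h3']
  have pa : p a = 0 := h2 0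
  have pua : p (ub a) = 1 := by rw [h3', pa, ub_zero]
  obtain ⟨b8, b0, b1, ba, bua⟩ := bf_spec a ha2 ha8
  set b := bf a with hb
  set c := p b with hc
  have pc : p c = b := h2 b
  have c8 : c.val < 8 := hlow b b8
  have c0 : c ≠ 0 := by
    intro e
    rw [e] at pc
    exact ba pc.symm
  have c1 : c ≠ 1 := by
    intro e
    rw [e, p1] at pc
    exact bua pc.symm
  have ca : c ≠ a := by
    intro e
    rw [e, pa] at pc
    exact b0 pc.symm
  have cua : c ≠ ub a := by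
    intro e
    rw [e, pua] at pc
    exact b1 pc.symm
  have cb : c ≠ b := h4 b b8
  have cub : c ≠ ub b := h5' b b8
  have ho : okac a c = true := by
    unfold okac
    simp [ha2, ha8, c8, c0, c1, ca, cua, ← hb, cb, cub]
  have hp : eqs p a c = true := by
    unfold eqs
    simp [← ha, p1, pa, pua, ← hb, ← hc, h3', pc, h1 8 (by norm_num), h1 9 (by norm_num), h1 10 (by norm_num)]
  have h := cover_aux a c
  rw [ho, Bool.not_true, Bool.false_or, List.any_eq_true] at h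
  obtain ⟨j, hj, h⟩ := h
  rw [List.mem_range] at hj
  rw [Bool.or_eq_true] at h
  refine ⟨j, hj, ?_⟩
  rcases h with h | h
  · left
    exact DFunLike.coe_injective (eqs_ext ho hp h)
  · right
    exact DFunLike.coe_injective (eqs_ext ho hp h)

/-! ### the elements -/

variable {G : Type*} [Group G]

theorem sign_pm (w : Wd) (hw : ∀ p ∈ w, p.1 ≠ p.2) : Perm.sign (pm w) = (-1) ^ w.length := by
  induction w with
  | nil => simp [pm]
  | cons p w ih =>
    have e : pm (p :: w) = swap p.1 p.2 * pm w := by simp [pm]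
    rw [e, map_mul, ih fun q hq => hw q (List.mem_cons_of_mem _ hq), Perm.sign_swap (hw p List.mem_cons_self),
      List.length_cons, pow_succ', mul_comm]

/-- evenness -/
def evn (w : Wd) : Bool := w.all (fun p => p.1 != p.2) && w.length % 2 == 0

theorem pm_mem {w : Wd} (h : evn w = true) : pm w ∈ alternatingGroup (Fin 11) := by
  simp only [evn, Bool.and_eq_true, List.all_eq_true, bne_iff_ne, beq_iff_eq] at h
  rw [Perm.mem_alternatingGroup, sign_pm w h.1]
  have : w.length = 2 * (w.length / 2) := by omega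
  rw [this, pow_mul]
  simp only [_root_.even_two, _root_.Even.neg_pow, _root_.one_pow]

theorem exists_EV {L : MT 11 G} {E : centralizer ({L.t} : Set G) →* cover 11}
    (hp : ∀ x, proj 11 (E x) = L.K.π x) (hz : E L.K.z = zz 11) (s : Bool) (w : Wd) (hw : evn w = true) :
    ∃ x : G, EV E x s w := by
  obtain ⟨c, hc⟩ := L.K.exists_lift (pm_mem hw)
  rw [← hp] at hc
  obtain ⟨s', hs'⟩ := exists_sign hc
  by_cases h : s' = s
  · exact ⟨c, c.2, by rw [← h]; exact hs'⟩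
  · refine ⟨((L.K.z * c : centralizer ({L.t} : Set G)) : G), (L.K.z * c).2, ?_⟩
    have e : s = xor true s' := by cases s <;> cases s' <;> simp_all only [_root_.Subtype.forall, _root_.Cfsg.Agent.R10.TCalc.sg_true, _root_.map_mul, _root_.not_true_eq_false, _root_.Bool.true_eq_false, _root_.not_false_eq_true, _root_.bne_self_eq_false, _root_.Cfsg.Agent.R10.TCalc.sg_false, _root_.one_mul, _root_.Bool.false_eq_true, _root_.Bool.bne_false]
    show E (L.K.z * c) = _
    rw [map_mul, hz, hs', e, ← sg_mul, sg_true, mul_assoc]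

/-- the projection of an element with known value -/
theorem EV_pi {L : MT 11 G} {E : centralizer ({L.t} : Set G) →* cover 11}
    (hp : ∀ x, proj 11 (E x) = L.K.π x) {x : G} {s : Bool} {w : Wd} (h : EV E x s w) (hx) :
    L.K.π ⟨x, hx⟩ = pm w := by
  obtain ⟨hx', e⟩ := h
  rw [← hp, e, map_mul, proj_sg, one_mul, proj_val]

theorem evnE : ∀ i < 16, evn (wE i) = true := by decide +kernel
theorem evnF : ∀ i < 16, evn (wF i) = true := by decide +kernel
theorem evnS : ∀ i < 4, evn (wS i) = true := by decide +kernel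
theorem evnS' : ∀ i < 4, evn (wS' i) = true := by decide +kernel

theorem exists_pair (L : MT 11 G) : ∃ ε s ε' s' : ℕ → G, Pair L TE TF ε s ε' s' := by
  obtain ⟨E, hE, hp, hz⟩ := exists_E (by norm_num) L.K
  have ht : EV E L.t true [] := by
    refine ⟨L.mem_iff.2 rfl, ?_⟩
    have : (⟨L.t, L.mem_iff.2 rfl⟩ : centralizer ({L.t} : Set G)) = L.K.z := Subtype.ext L.hz.symm
    rw [this, hz, sg_true, val_nil, mul_one]
  have hex : ∀ (gS : ℕ → Bool) (wS : ℕ → Wd) (N : ℕ), (∀ i < N, evn (wS i) = true) →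
      ∃ ε : ℕ → G, ∀ i < N, EV E (ε i) (gS i) (wS i) := by
    intro gS wS N h
    have : ∀ i, ∃ x : G, i < N → EV E x (gS i) (wS i) := by
      intro i
      by_cases hi : i < N
      · obtain ⟨x, hx⟩ := exists_EV hp hz (gS i) (wS i) (h i hi)
        exact ⟨x, fun _ => hx⟩
      · exact ⟨1, fun h => absurd h hi⟩
    choose ε hε using this
    exact ⟨ε, hε⟩
  obtain ⟨ε, hε⟩ := hex gE wE 16 evnE
  obtain ⟨ε', hε'⟩ := hex gF wF 16 evnF
  obtain ⟨s, hs⟩ := hex (fun _ => false) wS 4 evnS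
  obtain ⟨s', hs'⟩ := hex gS' wS' 4 evnS'
  refine ⟨ε, s, ε', s', ⟨?_, ?_, ?_, ?_, ?_, ?_, cover_spec, TF_ne⟩⟩
  · refine ⟨regE, ?_, ?_, ?_, ?_, ?_, ?_⟩
    · exact (hε 1 (by norm_num)).eq hE ht (by decide +kernel)
    · intro i hi j hj
      exact ((hε i hi).mul (hε j hj)).eq hE (hε _ (xor_lt hi hj)) (mulE i hi j hj)
    · intro i hi
      exact L.mem_iff.1 (hε i hi).mem
    · intro i hi h
      exact EV_pi hp (hε _ (by omega)) h
    · intro k hk
      exact L.mem_iff.1 (hs k hk).mem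
    · intro k hk i hi
      exact ((hs k hk).mul (hε i hi)).eq hE ((hε _ (gm_lt k i)).mul (hs k hk)) (actE k hk i hi)
  · refine ⟨regF, ?_, ?_, ?_, ?_, ?_, ?_⟩
    · exact (hε' 1 (by norm_num)).eq hE ht (by decide +kernel)
    · intro i hi j hj
      exact ((hε' i hi).mul (hε' j hj)).eq hE (hε' _ (xor_lt hi hj)) (mulF i hi j hj)
    · intro i hi
      exact L.mem_iff.1 (hε' i hi).mem
    · intro i hi h
      exact EV_pi hp (hε' _ (by omega)) h
    · intro k hk
      exact L.mem_iff.1 (hs' k hk).mem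
    · intro k hk i hi
      exact ((hs' k hk).mul (hε' i hi)).eq hE ((hε' _ (gm_lt k i)).mul (hs' k hk)) (actF k hk i hi)
  · exact (hε' 2 (by norm_num)).eq hE (hε 2 (by norm_num)) (by decide +kernel)
  · exact (hε 8 (by norm_num)).eq hE (hs' 0 (by norm_num)) (by decide +kernel)
  · exact (hs' 1 (by norm_num)).eq hE (hs 1 (by norm_num)) (by decide +kernel)
  · exact (hε' 8 (by norm_num)).eq hE (hs 0 (by norm_num)) (by decide +kernel)

/-- the automorphisms induced on the elementary abelian group -/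
theorem aut_of {L : MT 11 G} {T : ℕ → Perm (Fin 11)} {ε s : ℕ → G} (D : Loc L T ε s) {g : G}
    (hg : ∀ i < 16, g * ε i * g⁻¹ = ε (gm 4 i)) (x : G) (h : ∀ i < 16, ∃ j < 16, x * ε i * x⁻¹ = ε j) :
    ∃ w : List ℕ, (∀ k ∈ w, k < 5) ∧ ∀ i < 16, x * ε i * x⁻¹ = ε (act w i) := by
  obtain ⟨m, hm, hme, hml⟩ := D.exists_act x h
  have hm8 : ∀ {m : ℕ → ℕ}, (∀ i < 16, m i < 16) → (∀ k ∈ [2, 4, 8], m k / 2 < 8) := by
    intro m hm k hk
    have : k < 16 := by
      simp at hk; omega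
    have := hm k this
    omega
  by_cases h1 : m 1 = 1
  · have hxC : x ∈ centralizer ({L.t} : Set G) := by
      rw [L.mem_iff]
      have := hme 1 (by norm_num)
      rw [h1, D.one] at this
      exact mul_inv_eq_iff_eq_mul.1 this
    obtain ⟨ho, ha⟩ := D.autt x hxC hm hme
    obtain ⟨hw, -⟩ := wd_spec (hm8 hm 2 (by simp)) (hm8 hm 4 (by simp)) (hm8 hm 8 (by simp)) ho
    exact ⟨_, fun k hk => (hw k hk).trans (by norm_num), fun i hi => by rw [hme i hi, ← ha i hi]⟩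
  · have h0 : m 1 ≠ 0 := by
      intro h
      have h2 := hme 1 (by norm_num)
      rw [h, D.zero, mul_inv_eq_one, mul_eq_left] at h2
      exact absurd (D.inj 1 (by norm_num) h2) (by norm_num)
    have htw := tw_spec (m 1) (hm 1 (by norm_num))
    have htw5 : ∀ k ∈ tw (m 1), k < 5 := fun k hk => (htw k hk).trans (by norm_num)
    have htw3 := tw_three (m 1) (hm 1 (by norm_num)) h0 h1
    set W := ((tw (m 1)).map s).prod with hW
    have hy : ∀ i < 16, (g * W * x) * ε i * (g * W * x)⁻¹ = ε (gm 4 (act (tw (m 1)) (m i))) := by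
      intro i hi
      have e := D.W_conj _ htw (hm i hi)
      rw [← hW, ← hme i hi] at e
      rw [← hg _ (act_lt _ (hm i hi)), ← e]
      group
    have hyC : g * W * x ∈ centralizer ({L.t} : Set G) := by
      rw [L.mem_iff]
      have := hy 1 (by norm_num)
      rw [htw3, show gm 4 3 = 1 by decide, D.one] at this
      exact mul_inv_eq_iff_eq_mul.1 this
    obtain ⟨ho, ha⟩ := D.autt _ hyC (m := fun i => gm 4 (act (tw (m 1)) (m i))) (fun i _ => gm_lt 4 _) hy
    obtain ⟨hw, -⟩ := wd_spec (hm8 (m := fun i => gm 4 (act (tw (m 1)) (m i))) (fun i _ => gm_lt 4 _) 2 (by simp))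
      (hm8 (m := fun i => gm 4 (act (tw (m 1)) (m i))) (fun i _ => gm_lt 4 _) 4 (by simp))
      (hm8 (m := fun i => gm 4 (act (tw (m 1)) (m i))) (fun i _ => gm_lt 4 _) 8 (by simp)) ho
    set w := wd (gm 4 (act (tw (m 1)) (m 2)) / 2) (gm 4 (act (tw (m 1)) (m 4)) / 2) (gm 4 (act (tw (m 1)) (m 8)) / 2)
    refine ⟨(tw (m 1)).reverse ++ (4 :: w), ?_, fun i hi => ?_⟩
    · intro k hk
      rw [List.mem_append, List.mem_reverse, List.mem_cons] at hk
      rcases hk with hk | rfl | hk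
      · exact htw5 k hk
      · norm_num
      · exact (hw k hk).trans (by norm_num)
    · rw [hme i hi, act_append, act_cons, ← ha i hi, gm_gm 4 (by norm_num) _ (act_lt _ (hm i hi)),
        act_reverse _ htw5 _ (hm i hi)]

end Cfsg.Agent.TypeM.LyL
end

private theorem dce_ee9b2e543e5e : _root_.True := by
  try have : _root_.True := by simp only [_root_.Cfsg.Agent.R10.TCalc.pm.eq_1]
  try have : _root_.True := by simp only [_root_.Cfsg.Agent.TypeM.LyL.okk.eq_1]
  try have : _root_.True := by simp only [_root_.Cfsg.Agent.TypeM.LyL.eqs.eq_1]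
  try have : _root_.True := by simp only [_root_.Cfsg.Agent.TypeM.LyL.nu.eq_1]
  try have : _root_.True := by simp only [_root_.Cfsg.Agent.TypeM.LyL.evn.eq_1]
  exact _root_.True.intro
end

-- part: TypeM/OddConj
section
set_option linter.all false
open scoped Cfsg.Agent.FastGrp

/-!
# 2-subgroups which are congruent modulo an odd subgroup are conjugate under it

`conj_exact`, `frattini_exact`, `exists_oddPart` (the odd part of a group with a central subgroup containing all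
2-elements); used in piece [WA] of Theorem W, S1739.
-/

set_option autoImplicit false

namespace Cfsg.Agent.TypeM.OddConj

open Subgroup Pointwise

variable {G : Type*} [Group G]

/-- an element of 2-power order and of odd order is trivial -/
theorem eq_one_of_two {x : G} {P : Subgroup G} (hP : IsPGroup 2 P) (hx : x ∈ P) (ho : Odd (orderOf x)) : x = 1 := by
  obtain ⟨n, hn⟩ := hP ⟨x, hx⟩
  have h1 : x ^ 2 ^ n = 1 := congrArg Subtype.val hn
  have h2 : orderOf x ∣ 2 ^ n := orderOf_dvd_of_pow_eq_one h1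
  have h3 : Nat.Coprime (orderOf x) (2 ^ n) := Nat.Coprime.pow_right n ho.coprime_two_right
  exact orderOf_eq_one_iff.1 (Nat.eq_one_of_dvd_coprimes h3 dvd_rfl h2)

/-- **Conjugacy of congruent 2-subgroups.** -/
theorem conj_exact [Finite G] {O T₁ T₂ : Subgroup G} (hO : ∀ x ∈ O, Odd (orderOf x)) (h₁ : IsPGroup 2 T₁)
    (h₂ : IsPGroup 2 T₂) (hn : ∀ y ∈ T₂, ∀ o ∈ O, y * o * y⁻¹ ∈ O) (h : ∀ x ∈ T₁, ∃ y ∈ T₂, y⁻¹ * x ∈ O) :
    ∃ n ∈ O, ∀ x ∈ T₁, ∀ y ∈ T₂, y⁻¹ * x ∈ O → n * x * n⁻¹ = y := by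
  classical
  have hinv : ∀ y ∈ T₂, ∀ o ∈ O, y⁻¹ * o * y ∈ O := fun y hy o ho => by
    have := hn y⁻¹ (inv_mem hy) o ho
    rwa [inv_inv] at this
  -- `W = T₂ O`
  let W : Subgroup G :=
    { carrier := {x | ∃ y ∈ T₂, ∃ o ∈ O, x = y * o}
      one_mem' := ⟨1, one_mem _, 1, one_mem _, by simp⟩
      mul_mem' := by
        rintro _ _ ⟨y, hy, o, ho, rfl⟩ ⟨y', hy', o', ho', rfl⟩
        refine ⟨y * y', mul_mem hy hy', (y'⁻¹ * o * y') * o', mul_mem (hinv y' hy' o ho) ho', by group⟩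
      inv_mem' := by
        rintro _ ⟨y, hy, o, ho, rfl⟩
        exact ⟨y⁻¹, inv_mem hy, y * o⁻¹ * y⁻¹, hn y hy _ (inv_mem ho), by group⟩ }
  have hW₂ : T₂ ≤ W := fun y hy => ⟨y, hy, 1, one_mem _, by simp⟩
  have hW₁ : T₁ ≤ W := by
    intro x hx
    obtain ⟨y, hy, ho⟩ := h x hx
    exact ⟨y, hy, _, ho, by group⟩
  obtain ⟨P₁, hP₁⟩ := (h₁.of_equiv (Subgroup.subgroupOfEquivOfLe hW₁).symm).exists_le_sylow
  obtain ⟨P₂, hP₂⟩ := (h₂.of_equiv (Subgroup.subgroupOfEquivOfLe hW₂).symm).exists_le_sylow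
  -- `P₂ = T₂`
  have hP : ∀ x : W, x ∈ (P₂ : Subgroup W) → (x : G) ∈ T₂ := by
    rintro ⟨x, hxW⟩ hx
    obtain ⟨y, hy, o, ho, rfl⟩ := hxW
    have h3 : (⟨y, hW₂ hy⟩ : W) ∈ (P₂ : Subgroup W) := hP₂ (Subgroup.mem_subgroupOf.2 hy)
    have h4 := (P₂ : Subgroup W).mul_mem ((P₂ : Subgroup W).inv_mem h3) hx
    have h5 : IsPGroup 2 ((P₂ : Subgroup W).map W.subtype) := P₂.2.map _
    have h6 : o ∈ (P₂ : Subgroup W).map W.subtype := ⟨_, h4, by simp⟩
    have h7 : o = 1 := eq_one_of_two h5 h6 (hO o ho)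
    show y * o ∈ T₂
    rw [h7, mul_one]
    exact hy
  obtain ⟨w, hw⟩ := MulAction.exists_smul_eq W P₁ P₂
  obtain ⟨y₀, hy₀, n, hnO, hw'⟩ := w.2
  refine ⟨n, hnO, ?_⟩
  intro x hx y hy hxy
  have h1 : w * ⟨x, hW₁ hx⟩ * w⁻¹ ∈ (P₂ : Subgroup W) := by
    rw [← hw]
    exact Subgroup.smul_mem_pointwise_smul _ (MulAut.conj w) _ (hP₁ (Subgroup.mem_subgroupOf.2 hx))
  have h2 := hP _ h1
  have h3 : ((w * ⟨x, hW₁ hx⟩ * w⁻¹ : W) : G) = y₀ * (n * x * n⁻¹) * y₀⁻¹ := by
    simp only [Subgroup.coe_mul, Subgroup.coe_inv]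
    rw [hw']
    group
  rw [h3] at h2
  have h4 : n * x * n⁻¹ ∈ T₂ := by
    have h5 := mul_mem (mul_mem (inv_mem hy₀) h2) hy₀
    have h6 : y₀⁻¹ * (y₀ * (n * x * n⁻¹) * y₀⁻¹) * y₀ = n * x * n⁻¹ := by group
    rwa [h6] at h5
  have h5 : y⁻¹ * (n * x * n⁻¹) ∈ O := by
    have h6 : y⁻¹ * (n * x * n⁻¹) = (y⁻¹ * n * y) * (y⁻¹ * x) * n⁻¹ := by group
    rw [h6]
    exact mul_mem (mul_mem (hinv y hy n hnO) hxy) (inv_mem hnO)
  have h6 := eq_one_of_two h₂ (mul_mem (inv_mem hy) h4) (hO _ h5)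
  exact (inv_mul_eq_one.1 h6).symm

/-- **Frattini argument**: an element `g` with `T ^ g ≤ T O` can be corrected by an element of `O`. -/
theorem frattini_exact [Finite G] {O T : Subgroup G} (hO : ∀ x ∈ O, Odd (orderOf x)) (hT : IsPGroup 2 T)
    (hn : ∀ y ∈ T, ∀ o ∈ O, y * o * y⁻¹ ∈ O) {g : G} (hg : ∀ x ∈ T, ∃ y ∈ T, y⁻¹ * (g * x * g⁻¹) ∈ O) :
    ∃ n ∈ O, ∀ x ∈ T, ∀ y ∈ T, y⁻¹ * (g * x * g⁻¹) ∈ O → (n * g) * x * (n * g)⁻¹ = y := by
  obtain ⟨n, hn1, hn2⟩ := conj_exact (T₁ := T.map (MulAut.conj g).toMonoidHom) hO (hT.map _) hT hn (by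
    rintro _ ⟨x, hx, rfl⟩
    exact hg x hx)
  refine ⟨n, hn1, fun x hx y hy h => ?_⟩
  have h1 := hn2 (g * x * g⁻¹) ⟨x, hx, rfl⟩ y hy h
  rw [← h1]
  group

/-- A power of `g` of odd order which is congruent to `g` modulo the 2-part: `g ^ j`, `j = 4 ^ a`. -/
theorem exists_odd_pow [Finite G] (g : G) : ∃ a : ℕ, Odd (orderOf (g ^ 4 ^ a)) := by
  obtain ⟨k, m, hm, hk⟩ := Nat.exists_eq_two_pow_mul_odd (orderOf_pos g).ne'
  refine ⟨k, ?_⟩
  have h1 : (g ^ 4 ^ k) ^ m = 1 := by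
    rw [← pow_mul, show (4 : ℕ) ^ k * m = orderOf g * 2 ^ k by
      rw [hk, show (4 : ℕ) = 2 * 2 by norm_num, mul_pow]; ring, pow_mul, pow_orderOf_eq_one, one_pow]
  exact Odd.of_dvd_nat hm (orderOf_dvd_of_pow_eq_one h1)

/-- an odd power which is a 2-element -/
theorem exists_two_pow [Finite G] (g : G) : ∃ m : ℕ, Odd m ∧ ∃ n : ℕ, (g ^ m) ^ 2 ^ n = 1 := by
  obtain ⟨k, m, hm, hk⟩ := Nat.exists_eq_two_pow_mul_odd (orderOf_pos g).ne'
  exact ⟨m, hm, k, by rw [← pow_mul, mul_comm, ← hk, pow_orderOf_eq_one]⟩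

end Cfsg.Agent.TypeM.OddConj
end

-- part: TypeM/SLift
section
prune_inst 0x400006404112200000000001000000020100000000000000100800102094080010002080038100700112008a06008004811100049421000000a00020040000000000120c010340c0011000000c800080c00000000000000000000000000000000000000000
set_option linter.all false
open scoped Cfsg.Agent.FastGrp

-- part: TypeM/SRel
section
/-!
# The 2-group `2⁴ : D₈` given by two elementary abelian groups of order 16 and an involution

(piece [WA] of Theorem W, S1739)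
-/

set_option autoImplicit false

namespace Cfsg.Agent.TypeM

open Subgroup Cfsg.Agent.TypeM.LyL

/-- `{μ i}` and `{ν i}` are elementary abelian groups of order 16 with intersection `{μ i | i < 4}`, `ν j` acts on
`{μ i}` by a matrix which depends on `j / 4`, the involution `β` acts on both groups by the matrix `gm 1`. -/
structure SRel {G : Type*} [Group G] (μ ν : ℕ → G) (β : G) : Prop where
  mul : ∀ i < 16, ∀ j < 16, μ i * μ j = μ (i ^^^ j)
  inj : ∀ i < 16, μ i = 1 → i = 0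
  mul' : ∀ i < 16, ∀ j < 16, ν i * ν j = ν (i ^^^ j)
  inj' : ∀ i < 16, ν i = 1 → i = 0
  low : ∀ i < 4, ν i = μ i
  nact : ∀ j < 16, ∀ i < 16, ν j * μ i = μ (act (cl (j / 4)) i) * ν j
  ββ : β * β = 1
  βμ : ∀ i < 16, β * μ i = μ (gm 1 i) * β
  βν : ∀ i < 16, β * ν i = ν (gm 1 i) * β

namespace SRel

theorem cl_lt : ∀ c < 4, ∀ k ∈ cl c, k < 5 := by decide

theorem div_lt : ∀ i < 16, i / 4 < 4 := by decide

theorem four_mul_lt : ∀ i < 4, 4 * i < 16 := by decide

theorem four_mul_div : ∀ i < 4, 4 * i / 4 = i := by decide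

theorem split : ∀ i < 16, i = (4 * (i / 4)) ^^^ (i % 4) := by decide

theorem four_xor : ∀ i < 4, ∀ j < 4, (4 * i) ^^^ (4 * j) = 4 * (i ^^^ j) := by decide

theorem xor_lt4 : ∀ i < 4, ∀ j < 4, i ^^^ j < 4 := by decide

theorem clxor : ∀ a < 4, ∀ b < 4, ∀ i < 16, act (cl a) (act (cl b) i) = act (cl (a ^^^ b)) i := by decide +kernel

theorem cl_com : ∀ c < 4, ∀ i < 16, i ^^^ act (cl c) i < 4 := by decide +kernel

theorem cl_fix : ∀ c < 4, c ≠ 0 → ∀ i < 16, act (cl c) i = i → i < 4 := by decide +kernel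

theorem cl_lowfix : ∀ c < 4, ∀ i < 4, act (cl c) i = i := by decide +kernel

theorem cl_inj : ∀ a < 4, ∀ b < 4, (∀ i < 16, act (cl a) i = act (cl b) i) → a = b := by decide +kernel

theorem gm1_split : ∀ i < 4, gm 1 (4 * i) = 4 * (gm 1 (4 * i) / 4) := by decide +kernel

theorem gm1_not_cl : ∀ c < 4, ∃ i < 16, act (cl c) (gm 1 i) ≠ i := by decide +kernel

section

variable {G : Type*} [Group G] {μ ν : ℕ → G} {β : G} (H : SRel μ ν β)
include H

theorem zero : μ 0 = 1 := by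
  have := H.mul 0 (by norm_num) 0 (by norm_num)
  simpa using this

theorem zero' : ν 0 = 1 := by
  have := H.mul' 0 (by norm_num) 0 (by norm_num)
  simpa using this

theorem sq {i : ℕ} (hi : i < 16) : μ i * μ i = 1 := by rw [H.mul i hi i hi, Nat.xor_self, H.zero]

theorem sq' {i : ℕ} (hi : i < 16) : ν i * ν i = 1 := by rw [H.mul' i hi i hi, Nat.xor_self, H.zero']

theorem inv {i : ℕ} (hi : i < 16) : (μ i)⁻¹ = μ i := inv_eq_of_mul_eq_one_left (H.sq hi)

theorem inv' {i : ℕ} (hi : i < 16) : (ν i)⁻¹ = ν i := inv_eq_of_mul_eq_one_left (H.sq' hi)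

theorem invβ : β⁻¹ = β := inv_eq_of_mul_eq_one_left H.ββ

theorem comm {i j : ℕ} (hi : i < 16) (hj : j < 16) : μ i * μ j = μ j * μ i := by
  rw [H.mul i hi j hj, H.mul j hj i hi, Nat.xor_comm]

theorem comm' {i j : ℕ} (hi : i < 16) (hj : j < 16) : ν i * ν j = ν j * ν i := by
  rw [H.mul' i hi j hj, H.mul' j hj i hi, Nat.xor_comm]

theorem eq_of {i j : ℕ} (hi : i < 16) (hj : j < 16) (h : μ i = μ j) : i = j := by
  have h1 : μ (i ^^^ j) = 1 := by rw [← H.mul i hi j hj, h, H.sq hj]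
  exact Nat.xor_eq_zero_iff.1 (H.inj _ (xor_lt hi hj) h1)

theorem eq_of' {i j : ℕ} (hi : i < 16) (hj : j < 16) (h : ν i = ν j) : i = j := by
  have h1 : ν (i ^^^ j) = 1 := by rw [← H.mul' i hi j hj, h, H.sq' hj]
  exact Nat.xor_eq_zero_iff.1 (H.inj' _ (xor_lt hi hj) h1)

/-- `ν i` as product of its class representative and an element of `V` -/
theorem nu_split {i : ℕ} (hi : i < 16) : ν i = μ (i % 4) * ν (4 * (i / 4)) := by
  have h1 : i % 4 < 4 := Nat.mod_lt _ (by norm_num)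
  rw [← H.low _ h1, H.comm' (by omega) (four_mul_lt _ (div_lt i hi)), H.mul' _ (four_mul_lt _ (div_lt i hi)) _ (by omega),
    ← split i hi]

/-- action of `μ i` on `ν j` -/
theorem nact' {i j : ℕ} (hi : i < 16) (hj : j < 16) :
    μ i * ν j = ν (j ^^^ (i ^^^ act (cl (j / 4)) i)) * μ i := by
  have hc : j / 4 < 4 := div_lt j hj
  have hlt : i ^^^ act (cl (j / 4)) i < 4 := cl_com _ hc i hi
  have h1 := H.nact j hj i hi
  have h2 : μ (act (cl (j / 4)) i) * (μ (act (cl (j / 4)) i) * ν j) = ν j := by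
    rw [← mul_assoc, H.sq (act_lt _ hi), one_mul]
  rw [← H.mul' j hj _ (by omega), H.low _ hlt, H.nact j hj _ (by omega), cl_lowfix _ hc _ hlt, ← H.mul i hi _ (act_lt _ hi),
    mul_assoc, mul_assoc, h1, h2]

/-- multiplication in `{μ i * ν (4 j)}` -/
theorem mulP {i i' j j' : ℕ} (hi : i < 16) (hi' : i' < 16) (hj : j < 4) (hj' : j' < 4) :
    (μ i * ν (4 * j)) * (μ i' * ν (4 * j')) = μ (i ^^^ act (cl j) i') * ν (4 * (j ^^^ j')) := by
  have h1 := H.nact (4 * j) (four_mul_lt j hj) i' hi'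
  rw [four_mul_div j hj] at h1
  calc (μ i * ν (4 * j)) * (μ i' * ν (4 * j')) = μ i * (ν (4 * j) * μ i') * ν (4 * j') := by group
    _ = (μ i * μ (act (cl j) i')) * (ν (4 * j) * ν (4 * j')) := by rw [h1]; group
    _ = _ := by rw [H.mul i hi _ (act_lt _ hi'), H.mul' _ (four_mul_lt j hj) _ (four_mul_lt j' hj'), four_xor j hj j' hj']

/-- `β` on `{μ i * ν (4 j)}` -/
theorem conjP {i j : ℕ} (hi : i < 16) (hj : j < 4) :
    β * (μ i * ν (4 * j)) = (μ (gm 1 i) * ν (4 * (gm 1 (4 * j) / 4))) * β := by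
  rw [← mul_assoc, H.βμ i hi, mul_assoc, H.βν _ (four_mul_lt j hj), ← gm1_split j hj, mul_assoc]

theorem uniqP {i i' j j' : ℕ} (hi : i < 16) (hi' : i' < 16) (hj : j < 4) (hj' : j' < 4)
    (h : μ i * ν (4 * j) = μ i' * ν (4 * j')) : i = i' ∧ j = j' := by
  have hj4 := four_mul_lt j hj
  have hj4' := four_mul_lt j' hj'
  have h1 : ν (4 * (j ^^^ j')) = μ (i ^^^ i') := by
    rw [← four_xor j hj j' hj', ← H.mul' _ hj4 _ hj4', ← H.mul i hi i' hi']
    calc ν (4 * j) * ν (4 * j') = (μ i)⁻¹ * (μ i * ν (4 * j)) * ν (4 * j') := by group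
      _ = (μ i)⁻¹ * μ i' * (ν (4 * j') * ν (4 * j')) := by rw [h]; group
      _ = μ i * μ i' := by rw [H.inv hi, H.sq' hj4', mul_one]
  have hlt : j ^^^ j' < 4 := xor_lt4 j hj j' hj'
  have h2 : j ^^^ j' = 0 := by
    refine (cl_inj _ hlt 0 (by norm_num) fun k hk => ?_)
    have h3 := H.nact _ (four_mul_lt _ hlt) k hk
    rw [four_mul_div _ hlt, h1, H.comm (xor_lt hi hi') hk] at h3
    have h4 := mul_right_cancel h3
    rw [← H.eq_of hk (act_lt _ hk) h4]
    rfl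
  have h3 : j = j' := Nat.xor_eq_zero_iff.1 h2
  refine ⟨?_, h3⟩
  subst h3
  exact H.eq_of hi hi' (mul_right_cancel h)

end

/-- the group `P = {μ i * ν j}` of order 64 -/
def P {G : Type*} [Group G] {μ ν : ℕ → G} {β : G} (H : SRel μ ν β) : Subgroup G where
  carrier := {x | ∃ i < 16, ∃ j < 4, x = μ i * ν (4 * j)}
  one_mem' := ⟨0, by norm_num, 0, by norm_num, by rw [mul_zero, H.zero, H.zero', one_mul]⟩
  mul_mem' := by
    rintro _ _ ⟨i, hi, j, hj, rfl⟩ ⟨i', hi', j', hj', rfl⟩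
    exact ⟨_, xor_lt hi (act_lt _ hi'), _, xor_lt4 j hj j' hj', H.mulP hi hi' hj hj'⟩
  inv_mem' := by
    rintro _ ⟨i, hi, j, hj, rfl⟩
    refine ⟨act (cl j) i, act_lt _ hi, j, hj, ?_⟩
    have h1 := H.nact (4 * j) (four_mul_lt j hj) i hi
    rw [four_mul_div j hj] at h1
    rw [mul_inv_rev, H.inv hi, H.inv' (four_mul_lt j hj), h1]

section

variable {G : Type*} [Group G] {μ ν : ℕ → G} {β : G} (H : SRel μ ν β)

theorem mem_P {x : G} : x ∈ H.P ↔ ∃ i < 16, ∃ j < 4, x = μ i * ν (4 * j) := Iff.rfl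

theorem mu_mem_P {i : ℕ} (hi : i < 16) : μ i ∈ H.P :=
  ⟨i, hi, 0, by norm_num, by rw [mul_zero, H.zero', mul_one]⟩

theorem nu_mem_P {i : ℕ} (hi : i < 16) : ν i ∈ H.P := by
  rw [H.nu_split hi]
  exact ⟨i % 4, by omega, i / 4, div_lt i hi, rfl⟩

theorem card_P : Nat.card H.P = 64 := by
  have h1 : Function.Bijective (fun p : Fin 16 × Fin 4 => (⟨μ p.1 * ν (4 * p.2), p.1, p.1.2, p.2, p.2.2, rfl⟩ : H.P)) := by
    constructor
    · rintro ⟨i, j⟩ ⟨i', j'⟩ h
      obtain ⟨h1, h2⟩ := H.uniqP i.2 i'.2 j.2 j'.2 (congrArg Subtype.val h)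
      exact Prod.ext (Fin.ext h1) (Fin.ext h2)
    · rintro ⟨_, i, hi, j, hj, rfl⟩
      exact ⟨(⟨i, hi⟩, ⟨j, hj⟩), rfl⟩
  rw [← Nat.card_congr (Equiv.ofBijective _ h1)]
  simp

theorem β_P : ∀ x ∈ H.P, β * x * β⁻¹ ∈ H.P := by
  rintro _ ⟨i, hi, j, hj, rfl⟩
  rw [H.conjP hi hj, mul_inv_cancel_right]
  exact ⟨_, gm_lt 1 i, _, div_lt _ (gm_lt 1 _), rfl⟩

theorem β_not_mem : β ∉ H.P := by
  rintro ⟨i, hi, j, hj, h⟩
  obtain ⟨k, hk, hk'⟩ := gm1_not_cl j hj
  have h1 := H.βμ k hk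
  have h2 : μ i * ν (4 * j) * μ k = μ (act (cl j) k) * (μ i * ν (4 * j)) := by
    have h3 := H.nact (4 * j) (four_mul_lt j hj) k hk
    rw [four_mul_div j hj] at h3
    rw [mul_assoc, h3, ← mul_assoc, H.comm hi (act_lt _ hk), mul_assoc]
  rw [h] at h1
  rw [h1] at h2
  have h4 := H.eq_of (gm_lt 1 k) (act_lt _ hk) (mul_right_cancel h2)
  apply hk'
  rw [h4, clxor j hj j hj k hk, Nat.xor_self]
  rfl

end

/-- the group `{μ i * ν j * β ^ k}` of order 128 -/
def S {G : Type*} [Group G] {μ ν : ℕ → G} {β : G} (H : SRel μ ν β) : Subgroup G := WThreeAbs.Qs H.P β H.ββ H.β_P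

section

variable {G : Type*} [Group G] {μ ν : ℕ → G} {β : G} (H : SRel μ ν β)

theorem mem_S {x : G} : x ∈ H.S ↔ x ∈ H.P ∨ x * β ∈ H.P := WThreeAbs.mem_Qs

theorem P_le_S : H.P ≤ H.S := fun _ hx => H.mem_S.2 (Or.inl hx)

theorem β_mem : β ∈ H.S := H.mem_S.2 (Or.inr (by rw [H.ββ]; exact H.P.one_mem))

theorem mu_mem {i : ℕ} (hi : i < 16) : μ i ∈ H.S := H.P_le_S (H.mu_mem_P hi)

theorem nu_mem {i : ℕ} (hi : i < 16) : ν i ∈ H.S := H.P_le_S (H.nu_mem_P hi)

theorem card_S : Nat.card H.S = 128 := by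
  rw [WThreeAbs.card_double (H := H.P) (K := H.S) (s := β) H.P_le_S H.β_mem H.β_not_mem (fun x hx => H.mem_S.1 hx), H.card_P]

theorem isPGroup_S : IsPGroup 2 H.S := IsPGroup.of_card (n := 7) (by rw [H.card_S]; norm_num)

theorem isPGroup_P : IsPGroup 2 H.P := IsPGroup.of_card (n := 6) (by rw [H.card_P]; norm_num)

theorem S_le {A : Subgroup G} (h1 : ∀ i < 16, μ i ∈ A) (h2 : ∀ i < 16, ν i ∈ A) (h3 : β ∈ A) : H.S ≤ A := by
  intro x hx
  rcases H.mem_S.1 hx with h | h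
  · obtain ⟨i, hi, j, hj, rfl⟩ := h
    exact mul_mem (h1 i hi) (h2 _ (four_mul_lt j hj))
  · obtain ⟨i, hi, j, hj, h⟩ := h
    have h4 : x = μ i * ν (4 * j) * β := by rw [← h, mul_assoc, H.ββ, mul_one]
    rw [h4]
    exact mul_mem (mul_mem (h1 i hi) (h2 _ (four_mul_lt j hj))) h3

/-- every element of `S` acts on `{μ i}` and on `{ν i}` by words -/
theorem exists_word {x : G} (hx : x ∈ H.S) : ∃ w : List ℕ, (∀ k ∈ w, k < 5) ∧ ∀ i < 16, x * μ i * x⁻¹ = μ (act w i) := by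
  have hP : ∀ x ∈ H.P, ∃ w : List ℕ, (∀ k ∈ w, k < 5) ∧ ∀ i < 16, x * μ i * x⁻¹ = μ (act w i) := by
    rintro _ ⟨i, hi, j, hj, rfl⟩
    refine ⟨cl j, cl_lt j hj, fun k hk => ?_⟩
    have h3 := H.nact (4 * j) (four_mul_lt j hj) k hk
    rw [four_mul_div j hj] at h3
    calc μ i * ν (4 * j) * μ k * (μ i * ν (4 * j))⁻¹ = μ i * (ν (4 * j) * μ k) * (ν (4 * j))⁻¹ * (μ i)⁻¹ := by group
      _ = μ i * μ (act (cl j) k) * (μ i)⁻¹ := by rw [h3]; group
      _ = _ := by rw [H.comm hi (act_lt _ hk), mul_inv_cancel_right]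
  rcases H.mem_S.1 hx with h | h
  · exact hP x h
  · obtain ⟨w, hw, h1⟩ := hP _ h
    refine ⟨w ++ [1], ?_, fun i hi => ?_⟩
    · intro k hk
      rw [List.mem_append] at hk
      rcases hk with hk | hk
      · exact hw k hk
      · rw [List.mem_singleton] at hk
        omega
    · rw [act_append, act_cons, act_nil, ← h1 _ (gm_lt 1 i)]
      have h4 : β * μ i * β = μ (gm 1 i) := by rw [H.βμ i hi, mul_assoc, H.ββ, mul_one]
      rw [← h4, mul_inv_rev, H.invβ]
      have h5 : ∀ a b : G, a * β * (β * b * β) * (β * a⁻¹) = a * (β * β) * b * (β * β) * a⁻¹ := fun a b => by group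
      rw [h5, H.ββ, mul_one, mul_one]

theorem conj_nu {x : G} (hx : x ∈ H.S) {k : ℕ} (hk : k < 16) : ∃ l < 16, x * ν k * x⁻¹ = ν l := by
  have hP : ∀ x ∈ H.P, ∀ k < 16, ∃ l < 16, x * ν k * x⁻¹ = ν l := by
    rintro _ ⟨i, hi, j, hj, rfl⟩ k hk
    refine ⟨k ^^^ (i ^^^ act (cl (k / 4)) i), xor_lt hk (xor_lt hi (act_lt _ hi)), ?_⟩
    calc μ i * ν (4 * j) * ν k * (μ i * ν (4 * j))⁻¹ = μ i * (ν (4 * j) * ν k) * (ν (4 * j))⁻¹ * (μ i)⁻¹ := by group
      _ = μ i * ν k * (μ i)⁻¹ := by rw [H.comm' (four_mul_lt j hj) hk]; group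
      _ = _ := by rw [H.nact' hi hk, mul_inv_cancel_right]
  rcases H.mem_S.1 hx with h | h
  · exact hP x h k hk
  · obtain ⟨l, hl, h1⟩ := hP _ h (gm 1 k) (gm_lt 1 k)
    refine ⟨l, hl, ?_⟩
    rw [← h1]
    have h4 : β * ν k * β = ν (gm 1 k) := by rw [H.βν k hk, mul_assoc, H.ββ, mul_one]
    rw [← h4, mul_inv_rev, H.invβ]
    have h5 : ∀ a b : G, a * β * (β * b * β) * (β * a⁻¹) = a * (β * β) * b * (β * β) * a⁻¹ := fun a b => by group
    rw [h5, H.ββ, mul_one, mul_one]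

/-- Transport by a homomorphism which is injective on `S`. -/
theorem map {G' : Type*} [Group G'] (f : G → G') (hf : ∀ x ∈ H.S, ∀ y ∈ H.S, f (x * y) = f x * f y)
    (hinj : ∀ x ∈ H.S, f x = 1 → x = 1) : SRel (fun i => f (μ i)) (fun i => f (ν i)) (f β) where
  mul i hi j hj := by rw [← hf _ (H.mu_mem hi) _ (H.mu_mem hj), H.mul i hi j hj]
  inj i hi h := H.inj i hi (hinj _ (H.mu_mem hi) h)
  mul' i hi j hj := by rw [← hf _ (H.nu_mem hi) _ (H.nu_mem hj), H.mul' i hi j hj]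
  inj' i hi h := H.inj' i hi (hinj _ (H.nu_mem hi) h)
  low i hi := by rw [H.low i hi]
  nact j hj i hi := by
    rw [← hf _ (H.nu_mem hj) _ (H.mu_mem hi), H.nact j hj i hi, hf _ (H.mu_mem (act_lt _ hi)) _ (H.nu_mem hj)]
  ββ := by
    have h1 : f 1 = 1 := by
      have := hf 1 (one_mem _) 1 (one_mem _)
      rw [mul_one] at this
      exact mul_eq_left.1 this.symm
    rw [← hf _ H.β_mem _ H.β_mem, H.ββ, h1]
  βμ i hi := by rw [← hf _ H.β_mem _ (H.mu_mem hi), H.βμ i hi, hf _ (H.mu_mem (gm_lt 1 i)) _ H.β_mem]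
  βν i hi := by rw [← hf _ H.β_mem _ (H.nu_mem hi), H.βν i hi, hf _ (H.nu_mem (gm_lt 1 i)) _ H.β_mem]

end

end SRel

end Cfsg.Agent.TypeM
end

-- part: TypeM/SLift
section
/-!
# The 2-group `S = E E' ⟨b⟩` of order 128 in `L` and in `K`

(piece [WA] of Theorem W, S1739)
-/

set_option autoImplicit false

namespace Cfsg.Agent.TypeM.SLift

open Subgroup Cfsg.Agent.TypeM.LyL Cfsg.Agent.TypeM.SRel

/-- The relations between the two elementary abelian groups. -/
structure PairRel {L : Type*} [Group L] (ε s ε' s' : ℕ → L) : Prop where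
  b : s' 1 = s 1
  e8' : ε' 8 = s 0

section L

variable {L : Type*} [Group L] {ε s ε' s' : ℕ → L}

theorem act_pow {x : L} {k : ℕ} (hk : k < 5) (hx : ∀ i < 16, x * ε i = ε (gm k i) * x) :
    ∀ m, Odd m → ∀ i < 16, x ^ m * ε i = ε (gm k i) * x ^ m := by
  rintro m ⟨q, rfl⟩ i hi
  have h1 : ∀ i < 16, (x ^ 2) * ε i = ε i * x ^ 2 := by
    intro i hi
    rw [pow_two, mul_assoc, hx i hi, ← mul_assoc, hx _ (gm_lt k i), gm_gm k hk i hi, mul_assoc]
  have h2 : ∀ q : ℕ, ∀ i < 16, (x ^ 2) ^ q * ε i = ε i * (x ^ 2) ^ q := by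
    intro q i hi
    have : Commute (x ^ 2) (ε i) := h1 i hi
    exact (this.pow_left q).eq
  rw [pow_succ, pow_mul, mul_assoc, hx i hi, ← mul_assoc, h2 q _ (gm_lt k i), mul_assoc]

/-- action of `{ε' j}` on `{ε i}` -/
theorem nact (E : ELoc ε s) (E' : ELoc ε' s') (low : ∀ i < 4, ε' i = ε i) (R : PairRel ε s ε' s') :
    ∀ j < 16, ∀ i < 16, ε' j * ε i = ε (act (cl (j / 4)) i) * ε' j := by
  have comm : ∀ i < 16, ∀ j < 16, ε i * ε j = ε j * ε i := fun i hi j hj => by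
    rw [E.mul i hi j hj, E.mul j hj i hi, Nat.xor_comm]
  have zero' : ε' 0 = 1 := by
    have := E'.mul 0 (by norm_num) 0 (by norm_num)
    simpa using this
  have h8 : ∀ i < 16, ε' 8 * ε i = ε (gm 0 i) * ε' 8 := fun i hi => by
    rw [R.e8']; exact E.sε 0 (by norm_num) i hi
  have e4 : ε' 4 = s 1 * ε' 8 * (s 1)⁻¹ := by
    have := E'.sε 1 (by norm_num) 8 (by norm_num)
    rw [show gm 1 8 = 4 by decide, R.b] at this
    rw [this, mul_inv_cancel_right]
  have hb : ∀ i < 16, (s 1)⁻¹ * ε i = ε (gm 1 i) * (s 1)⁻¹ := by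
    intro i hi
    have := E.sε 1 (by norm_num) (gm 1 i) (gm_lt 1 i)
    rw [gm_gm 1 (by norm_num) i hi] at this
    rw [inv_mul_eq_iff_eq_mul, ← mul_assoc, this, mul_inv_cancel_right]
  have h4 : ∀ i < 16, ε' 4 * ε i = ε (gm 1 (gm 0 (gm 1 i))) * ε' 4 := by
    intro i hi
    rw [e4, mul_assoc, hb i hi, ← mul_assoc, mul_assoc (s 1), h8 _ (gm_lt 1 i), ← mul_assoc,
      E.sε 1 (by norm_num) _ (gm_lt 0 _)]
    simp only [mul_assoc]
  have hc : ∀ c < 4, ∀ i < 16, ε' (4 * c) * ε i = ε (act (cl c) i) * ε' (4 * c) := by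
    intro c hc i hi
    interval_cases c
    · rw [mul_zero, zero', one_mul, mul_one]; rfl
    · exact h4 i hi
    · exact h8 i hi
    · have e12 : ε' (4 * 3) = ε' 4 * ε' 8 := by
        rw [E'.mul 4 (by norm_num) 8 (by norm_num)]; rfl
      rw [e12, mul_assoc, h8 i hi, ← mul_assoc, h4 _ (gm_lt 0 i), mul_assoc]
      rfl
  intro j hj i hi
  have hsp : ∀ j < 16, 4 * (j / 4) ^^^ (j % 4) = j := by decide
  have e : ε' j = ε' (4 * (j / 4)) * ε (j % 4) := by
    rw [← low (j % 4) (by omega), E'.mul _ (by omega) _ (by omega), hsp j hj]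
  rw [e, mul_assoc, comm _ (by omega) _ hi, ← mul_assoc, hc _ (by omega) i hi, mul_assoc]

theorem fix_low : ∀ i < 4, gm 1 i = i → i = 0 ∨ i = 1 := by decide +kernel

/-- **The group `S` in `L`.** -/
theorem exists_SRel_L [Finite L] (F : LFacts ε s ε' s') (R : PairRel ε s ε' s') : ∃ b : L, SRel ε ε' b := by
  have hact := nact F.E F.E' F.low R
  have comm : ∀ i < 16, ∀ j < 16, ε i * ε j = ε j * ε i := fun i hi j hj => by
    rw [F.E.mul i hi j hj, F.E.mul j hj i hi, Nat.xor_comm]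
  have comm' : ∀ i < 16, ∀ j < 16, ε' i * ε' j = ε' j * ε' i := fun i hi j hj => by
    rw [F.E'.mul i hi j hj, F.E'.mul j hj i hi, Nat.xor_comm]
  obtain ⟨m, hm, n, hn⟩ := OddConj.exists_two_pow (s 1)
  set x : L := s 1 ^ m with hx
  have h1 : ∀ i < 16, x * ε i = ε (gm 1 i) * x := act_pow (by norm_num) (F.E.sε 1 (by norm_num)) m hm
  have h1' : ∀ i < 16, x * ε' i = ε' (gm 1 i) * x :=
    act_pow (by norm_num) (fun i hi => by rw [← R.b]; exact F.E'.sε 1 (by norm_num) i hi) m hm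
  have h2 : TwoElt (x * x) := ⟨n, by rw [← pow_two, ← pow_mul, mul_comm, pow_mul, hn, one_pow]⟩
  have h3 : ∀ i < 16, x * x * ε i = ε i * (x * x) := by
    intro i hi
    rw [mul_assoc, h1 i hi, ← mul_assoc, h1 _ (gm_lt 1 i), gm_gm 1 (by norm_num) i hi, mul_assoc]
  have h3' : ∀ i < 16, x * x * ε' i = ε' i * (x * x) := by
    intro i hi
    rw [mul_assoc, h1' i hi, ← mul_assoc, h1' _ (gm_lt 1 i), gm_gm 1 (by norm_num) i hi, mul_assoc]
  obtain ⟨i, hi, h4⟩ := F.E.cen _ h2 h3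
  have eq_of : ∀ i < 16, ∀ j < 16, ε i = ε j → i = j := by
    intro i hi j hj h
    have zero : ε 0 = 1 := by
      have := F.E.mul 0 (by norm_num) 0 (by norm_num)
      simpa using this
    have h5 : ε (i ^^^ j) = 1 := by
      rw [← F.E.mul i hi j hj, h, F.E.mul j hj j hj, Nat.xor_self, zero]
    exact Nat.xor_eq_zero_iff.1 (F.E.inj _ (xor_lt hi hj) h5)
  have h5 : i < 4 := by
    refine cl_fix 1 (by norm_num) (by norm_num) i hi (eq_of _ (act_lt _ hi) _ hi ?_)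
    have h6 := hact 4 (by norm_num) i hi
    have h7 := h3' 4 (by norm_num)
    rw [h4] at h7
    rw [← h7] at h6
    exact (mul_right_cancel h6).symm
  have h6 : gm 1 i = i := by
    refine eq_of _ (gm_lt 1 i) _ hi ?_
    have h7 := h1 i hi
    rw [← h4] at h7
    have h8 : x * (x * x) = x * x * x := by group
    rw [h8, h4] at h7
    exact (mul_right_cancel h7).symm
  have base : ∀ y : L, y * y = 1 → (∀ i < 16, y * ε i = ε (gm 1 i) * y) → (∀ i < 16, y * ε' i = ε' (gm 1 i) * y) →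
      SRel ε ε' y := fun y hy h h' =>
    ⟨F.E.mul, F.E.inj, F.E'.mul, F.E'.inj, F.low, hact, hy, h, h'⟩
  rcases fix_low i h5 h6 with h7 | h7
  · refine ⟨x, base x ?_ h1 h1'⟩
    rw [h4, h7]
    have := F.E.mul 0 (by norm_num) 0 (by norm_num)
    simpa using this
  · refine ⟨x * ε 2, base _ ?_ ?_ ?_⟩
    · have h8 : ε 2 * x = x * ε 3 := by
        rw [h1 3 (by norm_num), show gm 1 3 = 2 by decide]
      calc x * ε 2 * (x * ε 2) = x * (ε 2 * x) * ε 2 := by group
        _ = (x * x) * (ε 3 * ε 2) := by rw [h8]; group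
        _ = ε 1 * ε 1 := by rw [h4, h7, F.E.mul 3 (by norm_num) 2 (by norm_num)]; rfl
        _ = 1 := by
          rw [F.E.mul 1 (by norm_num) 1 (by norm_num), Nat.xor_self]
          have := F.E.mul 0 (by norm_num) 0 (by norm_num)
          simpa using this
    · intro i hi
      rw [mul_assoc, comm 2 (by norm_num) i hi, ← mul_assoc, h1 i hi, mul_assoc]
    · intro i hi
      rw [mul_assoc, ← F.low 2 (by norm_num), comm' 2 (by norm_num) i hi, ← mul_assoc, h1' i hi, mul_assoc]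

end L

section K

variable {G L : Type*} [Group G] [Group L] {K : Subgroup G} {π : K →* L}

/-- **The group `S` in `K`.** -/
theorem exists_SRel_K [Finite G] (hπ : Function.Surjective π) (hodd : Odd (Nat.card π.ker)) {ε ε' : ℕ → L} {b₀ : L}
    (S : SRel ε ε' b₀) : ∃ e e' : ℕ → G, ∃ b : G, SRel e e' b ∧ (∀ i < 16, ∃ h : e i ∈ K, π ⟨e i, h⟩ = ε i) ∧
      (∀ i < 16, ∃ h : e' i ∈ K, π ⟨e' i, h⟩ = ε' i) ∧ b ∈ K := by
  obtain ⟨P, hP, h1, h2, h3⟩ := exists_lift_two π hπ hodd S.S S.isPGroup_S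
  have h4 : ∀ a : L, ∃ x : K, a ∈ S.S → x ∈ P ∧ π x = a := by
    intro a
    by_cases ha : a ∈ S.S
    · obtain ⟨x, hx, hx'⟩ := h2 a ha
      exact ⟨x, fun _ => ⟨hx, hx'⟩⟩
    · exact ⟨1, fun h => absurd h ha⟩
  choose f hf using h4
  have hmul : ∀ x ∈ S.S, ∀ y ∈ S.S, f (x * y) = f x * f y := by
    intro x hx y hy
    refine h3 _ (hf _ (mul_mem hx hy)).1 _ (mul_mem (hf x hx).1 (hf y hy).1) ?_
    rw [(hf _ (mul_mem hx hy)).2, map_mul, (hf x hx).2, (hf y hy).2]
  have hinj : ∀ x ∈ S.S, f x = 1 → x = 1 := by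
    intro x hx h
    rw [← (hf x hx).2, h, map_one]
  have hS := S.map (fun x => ((f x : K) : G)) (fun x hx y hy => by rw [hmul x hx y hy]; rfl)
    (fun x hx h => hinj x hx (Subtype.ext h))
  refine ⟨_, _, _, hS, fun i hi => ⟨(f (ε i)).2, (hf _ (S.mu_mem hi)).2⟩,
    fun i hi => ⟨(f (ε' i)).2, (hf _ (S.nu_mem hi)).2⟩, (f b₀).2⟩

end K

end Cfsg.Agent.TypeM.SLift
end
end

-- part: TypeM/LPairW
section
set_option linter.all false
open scoped Cfsg.Agent.FastGrp

-- part: TypeM/LPair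
section
/-!
# All facts on the groups of type `MT 8`, `MT 11` used in Theorem W, with the relations `PairRel`

`LP ε s ε' s'`: `LFacts`, `PairRel` and the facts (o1), (o1'), (o2), (o3) on automorphisms.
-/

set_option autoImplicit false
set_option maxRecDepth 100000

namespace Cfsg.Agent.TypeM.LPair

open Subgroup Equiv Cfsg.Agent.SporRec.TwoAn Cfsg.Agent.TypeM.Two Cfsg.Agent.TypeM.OuterMcL
open Cfsg.Agent.TypeM.SLift Cfsg.Agent.TypeM.FactsAut

/-- the facts on `L` and its automorphisms -/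
structure LP {L : Type*} [Group L] (ε s ε' s' : ℕ → L) : Prop where
  F : LFacts ε s ε' s'
  R : PairRel ε s ε' s'
  o1 : ∀ φ : MulAut L, (∀ i < 16, ∃ j < 16, φ (ε i) = ε j) → φ ∈ (MulAut.conj : L →* MulAut L).range
  o1' : ∀ φ : MulAut L, (∀ i < 16, ∃ j < 16, φ (ε' i) = ε' j) → φ ∈ (MulAut.conj : L →* MulAut L).range
  o2 : ∀ φ : MulAut L, φ * φ = 1 → ∀ A : Subgroup L, (∀ x ∈ A, x * x = 1) → Nat.card A = 8 →
    (∀ x ∈ A, φ x = x) → φ ∈ (MulAut.conj : L →* MulAut L).range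
  o3 : ∀ φ ψ : MulAut L, φ ∉ (MulAut.conj : L →* MulAut L).range → ψ ∉ (MulAut.conj : L →* MulAut L).range →
    φ * ψ ∈ (MulAut.conj : L →* MulAut L).range

/-- `McL` -/
theorem exists_eight {M : Type*} [Group M] (L : MT 8 M) (hG : Gen L) :
    ∃ ε s ε' s' : ℕ → M, LP ε s ε' s' := by
  obtain ⟨a, b, c, x, y, w, u, d, D⟩ := LFactsMcL.exists_data L
  have F := LFactsMcL.lfacts L D
  have hE : ExPerm L := OuterInst.exPerm L (by norm_num)
  have hI : EvenInner L := OuterInst.evenInner L (Or.inl rfl) hG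
  have h1 : LFactsMcL.e1 L.t u b c 1 = L.t := by rw [LFactsMcL.e1, Cfsg.Agent.McLType.Relators.four_one]
  have h2 : LFactsMcL.e2 L.t u a b 1 = L.t := by
    rw [LFactsMcL.e2, show LFactsMcL.sw 1 = 1 from rfl, Cfsg.Agent.McLType.Relators.four_one]
  -- the centre is trivial
  have hc : ∀ x : M, (∀ y, x * y = y * x) → x = 1 := by
    intro x hx
    have hxt : x ∈ centralizer ({L.t} : Set M) := mem_centralizer_singleton_iff.2 (hx _)
    have h3 : (⟨x, hxt⟩ : centralizer ({L.t} : Set M)) ∈ center (centralizer ({L.t} : Set M)) :=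
      mem_center_iff.2 fun g => Subtype.ext (hx g).symm
    rcases (L.K.mem_center_iff (by simp)).1 h3 with h4 | h4
    · exact congrArg Subtype.val h4
    · exfalso
      have h5 : x = L.t := (congrArg Subtype.val h4).trans L.hz
      obtain ⟨v, hv1, hv2, hv3, -⟩ := FactsAut.exists_u L (Or.inl rfl)
      obtain ⟨g, hg⟩ := L.one v hv1 hv2
      rw [← h5, ← hx g, mul_inv_cancel_right] at hg
      exact hv3 (by rw [← hg, h5])
  refine ⟨_, _, _, _, F, ⟨rfl, ?_⟩, fun φ h => inner_of_norm L hE hI hc h1 F.E.mul F.E.inj F.E.sε h,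
    fun φ h => inner_of_norm L hE hI hc h2 F.E'.mul F.E'.inj F.E'.sε h,
    fun φ _ A hA hA8 h => inner_of_fix L hE hI hA (by rw [hA8]) h, fun φ ψ h h' => inner_mul L hE hI h h'⟩
  rw [LFactsMcL.e2, show LFactsMcL.sw 8 = 4 from rfl, Cfsg.Agent.McLType.Relators.four_four]
  rfl

/-- `Ly` -/
theorem exists_eleven {G : Type*} [Group G] (L : MT 11 G)
    (hin : ∀ φ : MulAut G, φ ∈ (MulAut.conj : G →* MulAut G).range) :
    ∃ ε s ε' s' : ℕ → G, LP ε s ε' s' := by
  obtain ⟨ε, s, ε', s', P⟩ := LyL.exists_pair L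
  obtain ⟨g, hg, hg'⟩ := P.exists_g
  have hsε : ∀ {T : ℕ → Perm (Fin 11)} {ε s : ℕ → G}, LyL.Loc L T ε s → (∀ i < 16, g * ε i * g⁻¹ = ε (gm 4 i)) →
      ∀ k < 5, ∀ i < 16, (if k = 4 then g else s k) * ε i = ε (gm k i) * (if k = 4 then g else s k) := by
    intro T ε s D hg k hk i hi
    by_cases h4 : k = 4
    · rw [if_pos h4, h4, ← hg i hi, inv_mul_cancel_right]
    · rw [if_neg h4]
      exact D.sε k (by omega) i hi
  refine ⟨ε, fun k => if k = 4 then g else s k, ε', fun k => if k = 4 then g else s' k,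
    ⟨⟨P.D.mul, P.D.inj, hsε P.D hg, P.D.cen, LyL.aut_of P.D hg⟩,
    ⟨P.D'.mul, P.D'.inj, hsε P.D' hg', P.D'.cen, LyL.aut_of P.D' hg'⟩, P.low', ?_, ?_⟩, ⟨P.b, P.e8'⟩,
    fun φ _ => hin φ, fun φ _ => hin φ, fun φ _ _ _ _ _ => hin φ, fun φ ψ _ _ => hin (φ * ψ)⟩
  · intro x hx hx1
    obtain ⟨h, hh⟩ := L.one x hx hx1
    refine ⟨h⁻¹, ?_⟩
    rw [← hh, P.D.one]
    group
  · intro f hf
    have f0 : f 0 = 1 := by
      have := hf.mul 0 (by norm_num) 0 (by norm_num)
      simpa using this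
    have hsq : f 1 * f 1 = 1 := by rw [hf.mul 1 (by norm_num) 1 (by norm_num), Nat.xor_self, f0]
    obtain ⟨h, hh⟩ := L.one (f 1) hsq (fun e => absurd (hf.inj 1 (by norm_num) e) (by norm_num))
    obtain ⟨c, -, hc⟩ := P.D.nf (fun i => h⁻¹ * f i * h) ⟨by
      intro i hi j hj
      show h⁻¹ * f i * h * (h⁻¹ * f j * h) = h⁻¹ * f (i ^^^ j) * h
      rw [← hf.mul i hi j hj]
      group, by
      intro i hi e
      apply hf.inj i hi
      have : f i = h * (h⁻¹ * f i * h) * h⁻¹ := by group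
      rw [this, show h⁻¹ * f i * h = 1 from e]
      group⟩ (by
      show h⁻¹ * f 1 * h = L.t
      rw [← hh]; group)
    refine ⟨c * h⁻¹, Or.inl fun i hi => ?_⟩
    obtain ⟨j, hj, e⟩ := hc i hi
    refine ⟨j, hj, ?_⟩
    rw [← e]
    group

end Cfsg.Agent.TypeM.LPair
end

-- part: TypeM/LPairW
section
/-!
# Type `MT 11`: the frames of `LPair` with an involution swapping them

`w` is the lift of the involution `(01)(23)(45)(89)` of `A₁₁`.
-/

set_option autoImplicit false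
set_option maxRecDepth 100000

namespace Cfsg.Agent.TypeM.LPairW

open Equiv Subgroup
open Cfsg.Agent.CharactersDeep.DoubleCover
open Cfsg.Agent.SporadicRecognition.AltCover
open Cfsg.Agent.R10.TCalc Cfsg.Agent.R10.TEval
open Cfsg.Agent.TypeM.Two Cfsg.Agent.SporRec Cfsg.Agent.SporRec.TwoAn
open Cfsg.Agent.TypeM.LyL Cfsg.Agent.TypeM.LPair

variable {G : Type*} [Group G]

/-- the word of `w` -/
def oW : Wd := [(0, 1), (2, 3), (4, 5), (8, 9)]

theorem evnO : evn oW = true := by decide +kernel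

theorem sqO : vl (xor false false) (oW ++ oW) = vl false [] := by decide +kernel

theorem neO : pm oW ≠ 1 := by decide +kernel

theorem actO : ∀ i < 16, ∃ j < 16, vl (xor false (gE i)) (oW ++ wE i) = vl (xor (gF j) false) (wF j ++ oW) := by
  decide +kernel

theorem actO' : ∀ i < 16, ∃ j < 16, vl (xor false (gF i)) (oW ++ wF i) = vl (xor (gE j) false) (wE j ++ oW) := by
  decide +kernel

theorem actOb : vl (xor false false) (oW ++ bW) = vl (xor false false) (bW ++ oW) := by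
  decide +kernel

/-- An involution swapping the two frames. -/
structure WElt (ε s ε' : ℕ → G) (w : G) : Prop where
  sq : w * w = 1
  ne : w ≠ 1
  ne' : w ≠ ε 1
  comm : w * ε 1 = ε 1 * w
  sw : ∀ i < 16, ∃ j < 16, w * ε i * w⁻¹ = ε' j
  sw' : ∀ i < 16, ∃ j < 16, w * ε' i * w⁻¹ = ε j
  b : w * s 1 = s 1 * w

theorem exists_pair_w (L : MT 11 G) :
    ∃ ε s ε' s' : ℕ → G, Pair L TE TF ε s ε' s' ∧ ∃ w, WElt ε s ε' w := by
  obtain ⟨E, hE, hp, hz⟩ := exists_E (by norm_num) L.K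
  have ht : EV E L.t true [] := by
    refine ⟨L.mem_iff.2 rfl, ?_⟩
    have : (⟨L.t, L.mem_iff.2 rfl⟩ : centralizer ({L.t} : Set G)) = L.K.z := Subtype.ext L.hz.symm
    rw [this, hz, sg_true, val_nil, mul_one]
  have hex : ∀ (gS : ℕ → Bool) (wS : ℕ → Wd) (N : ℕ), (∀ i < N, evn (wS i) = true) →
      ∃ ε : ℕ → G, ∀ i < N, EV E (ε i) (gS i) (wS i) := by
    intro gS wS N h
    have : ∀ i, ∃ x : G, i < N → EV E x (gS i) (wS i) := by
      intro i
      by_cases hi : i < N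
      · obtain ⟨x, hx⟩ := exists_EV hp hz (gS i) (wS i) (h i hi)
        exact ⟨x, fun _ => hx⟩
      · exact ⟨1, fun h => absurd h hi⟩
    choose ε hε using this
    exact ⟨ε, hε⟩
  obtain ⟨ε, hε⟩ := hex gE wE 16 evnE
  obtain ⟨ε', hε'⟩ := hex gF wF 16 evnF
  obtain ⟨s, hs⟩ := hex (fun _ => false) wS 4 evnS
  obtain ⟨s', hs'⟩ := hex gS' wS' 4 evnS'
  have hone : ε 1 = L.t := (hε 1 (by norm_num)).eq hE ht (by decide +kernel)
  refine ⟨ε, s, ε', s', ⟨?_, ?_, ?_, ?_, ?_, ?_, cover_spec, TF_ne⟩, ?_⟩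
  · refine ⟨regE, ?_, ?_, ?_, ?_, ?_, ?_⟩
    · exact hone
    · intro i hi j hj
      exact ((hε i hi).mul (hε j hj)).eq hE (hε _ (xor_lt hi hj)) (mulE i hi j hj)
    · intro i hi
      exact L.mem_iff.1 (hε i hi).mem
    · intro i hi h
      exact EV_pi hp (hε _ (by omega)) h
    · intro k hk
      exact L.mem_iff.1 (hs k hk).mem
    · intro k hk i hi
      exact ((hs k hk).mul (hε i hi)).eq hE ((hε _ (gm_lt k i)).mul (hs k hk)) (actE k hk i hi)
  · refine ⟨regF, ?_, ?_, ?_, ?_, ?_, ?_⟩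
    · exact (hε' 1 (by norm_num)).eq hE ht (by decide +kernel)
    · intro i hi j hj
      exact ((hε' i hi).mul (hε' j hj)).eq hE (hε' _ (xor_lt hi hj)) (mulF i hi j hj)
    · intro i hi
      exact L.mem_iff.1 (hε' i hi).mem
    · intro i hi h
      exact EV_pi hp (hε' _ (by omega)) h
    · intro k hk
      exact L.mem_iff.1 (hs' k hk).mem
    · intro k hk i hi
      exact ((hs' k hk).mul (hε' i hi)).eq hE ((hε' _ (gm_lt k i)).mul (hs' k hk)) (actF k hk i hi)
  · exact (hε' 2 (by norm_num)).eq hE (hε 2 (by norm_num)) (by decide +kernel)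
  · exact (hε 8 (by norm_num)).eq hE (hs' 0 (by norm_num)) (by decide +kernel)
  · exact (hs' 1 (by norm_num)).eq hE (hs 1 (by norm_num)) (by decide +kernel)
  · exact (hε' 8 (by norm_num)).eq hE (hs 0 (by norm_num)) (by decide +kernel)
  · obtain ⟨w, hw⟩ := exists_EV hp hz false oW evnO
    have hwt : w * L.t = L.t * w := L.mem_iff.1 hw.mem
    have hpi : ∀ hx, L.K.π ⟨w, hx⟩ = pm oW := fun hx => EV_pi hp hw hx
    have hpit : ∀ hx, L.K.π (⟨L.t, hx⟩ : centralizer ({L.t} : Set G)) = 1 := by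
      intro hx
      have : (⟨L.t, hx⟩ : centralizer ({L.t} : Set G)) = L.K.z := Subtype.ext L.hz.symm
      rw [this, (L.K.ker _).2 (Or.inr rfl)]
    refine ⟨w, ?_, ?_, ?_, ?_, ?_, ?_, ?_⟩
    · exact (hw.mul hw).eq hE EV.one sqO
    · rintro rfl
      have h1 := hpi hw.mem
      have : (⟨1, hw.mem⟩ : centralizer ({L.t} : Set G)) = 1 := rfl
      rw [this, map_one] at h1
      exact neO h1.symm
    · rw [hone]
      rintro rfl
      have h1 := hpi hw.mem
      rw [hpit] at h1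
      exact neO h1.symm
    · rw [hone]; exact hwt
    · intro i hi
      obtain ⟨j, hj, e⟩ := actO i hi
      refine ⟨j, hj, mul_inv_eq_iff_eq_mul.2 ?_⟩
      exact (hw.mul (hε i hi)).eq hE ((hε' j hj).mul hw) e
    · intro i hi
      obtain ⟨j, hj, e⟩ := actO' i hi
      refine ⟨j, hj, mul_inv_eq_iff_eq_mul.2 ?_⟩
      exact (hw.mul (hε' i hi)).eq hE ((hε j hj).mul hw) e
    · have hs1 := hs 1 (by norm_num)
      exact (hw.mul hs1).eq hE (hs1.mul hw) actOb

/-- `Ly`: `LPair.exists_eleven` with the involution `w`. -/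
theorem exists_eleven (L : MT 11 G) (hin : ∀ φ : MulAut G, φ ∈ (MulAut.conj : G →* MulAut G).range) :
    ∃ ε s ε' s' : ℕ → G, LP ε s ε' s' ∧ ∃ w, WElt ε s ε' w := by
  obtain ⟨ε, s, ε', s', P, w, W⟩ := exists_pair_w L
  obtain ⟨g, hg, hg'⟩ := P.exists_g
  have hsε : ∀ {T : ℕ → Perm (Fin 11)} {ε s : ℕ → G}, LyL.Loc L T ε s → (∀ i < 16, g * ε i * g⁻¹ = ε (gm 4 i)) →
      ∀ k < 5, ∀ i < 16, (if k = 4 then g else s k) * ε i = ε (gm k i) * (if k = 4 then g else s k) := by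
    intro T ε s D hg k hk i hi
    by_cases h4 : k = 4
    · rw [if_pos h4, h4, ← hg i hi, inv_mul_cancel_right]
    · rw [if_neg h4]
      exact D.sε k (by omega) i hi
  refine ⟨ε, fun k => if k = 4 then g else s k, ε', fun k => if k = 4 then g else s' k,
    ⟨⟨⟨P.D.mul, P.D.inj, hsε P.D hg, P.D.cen, LyL.aut_of P.D hg⟩,
    ⟨P.D'.mul, P.D'.inj, hsε P.D' hg', P.D'.cen, LyL.aut_of P.D' hg'⟩, P.low', ?_, ?_⟩, ⟨P.b, P.e8'⟩,
    fun φ _ => hin φ, fun φ _ => hin φ, fun φ _ _ _ _ _ => hin φ, fun φ ψ _ _ => hin (φ * ψ)⟩, ?_⟩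
  · intro x hx hx1
    obtain ⟨h, hh⟩ := L.one x hx hx1
    refine ⟨h⁻¹, ?_⟩
    rw [← hh, P.D.one]
    group
  · intro f hf
    have f0 : f 0 = 1 := by
      have := hf.mul 0 (by norm_num) 0 (by norm_num)
      simpa using this
    have hsq : f 1 * f 1 = 1 := by rw [hf.mul 1 (by norm_num) 1 (by norm_num), Nat.xor_self, f0]
    obtain ⟨h, hh⟩ := L.one (f 1) hsq (fun e => absurd (hf.inj 1 (by norm_num) e) (by norm_num))
    obtain ⟨c, -, hc⟩ := P.D.nf (fun i => h⁻¹ * f i * h) ⟨by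
      intro i hi j hj
      show h⁻¹ * f i * h * (h⁻¹ * f j * h) = h⁻¹ * f (i ^^^ j) * h
      rw [← hf.mul i hi j hj]
      group, by
      intro i hi e
      apply hf.inj i hi
      have : f i = h * (h⁻¹ * f i * h) * h⁻¹ := by group
      rw [this, show h⁻¹ * f i * h = 1 from e]
      group⟩ (by
      show h⁻¹ * f 1 * h = L.t
      rw [← hh]; group)
    refine ⟨c * h⁻¹, Or.inl fun i hi => ?_⟩
    obtain ⟨j, hj, e⟩ := hc i hi
    refine ⟨j, hj, ?_⟩
    rw [← e]
    group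
  · exact ⟨w, W.sq, W.ne, W.ne', W.comm, W.sw, W.sw', W.b⟩

end Cfsg.Agent.TypeM.LPairW
end
end
end
end
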