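import Cfsg.Agent.TypeM.LFacts
import Cfsg.Agent.TypeM.Two
import Cfsg.Agent.TypeM.CoverTools
import Cfsg.Agent.McLType.Relators
set_option linter.all false

-- part: TypeM/StdAut
section
/-!
# Standard elementary abelian subgroups of order 16: the automizer is `A₇`

`StdAut.aut`: if `E = {ε i}` contains the involution `z = ε 1` with `C(z) = 2.A_8`, and five elements act on `E` by the
tables `gm k`, then every element of `N(E)` acts as a word in them. `StdAut.e16_of`: the elementary abelian subgroups of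
order 16, given the involutions of `C(z, u)`.
-/

set_option autoImplicit false
set_option maxRecDepth 100000

namespace Cfsg.Agent.TypeM.StdAut

open Subgroup Equiv Cfsg.Agent.SporRec.TwoAn Cfsg.Agent.TypeM.Two

/-- packed words for the 168 elements of the stabiliser of `1`, indexed by the images of `2, 4, 8` modulo `1` -/
def TW : ℕ := 0x1e400748005e40174800000000000000000127000000049e0011e000000004700000000000014b007b40000000000001720005c0000000000005270078400000000000149e0014700000000000004b00000000720012e000000001c00000000000000001ec406c9c05ec4127240000000000000000000000000000000000000000000000000000000000000079100724011e40172400000000000000000000000000000000000000000000000000006d1000000000001cb400000004720011c0000000067000000019e000000005e0000000017000000061c0000000000007490000001872001d1000000001b000000001e000000006e000000000700000000000000001e7101b2401b910672400000000000000000000000000000000000000000000000000000000049d000000072700479000000011d000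00001b40000000000006d200000005d2001740000000000000000000000000000000000000000000000006400148000000000000178005c8000000000000184000000000001d2700000052780014400000000000001200000001cb001b8000000000400000006c401271000000000001b12049c90000000000000000000000000000000000000000000000000000000004b401ed10000000000005c900171000000019d00000001e70000000179000000005d000000019100124000000000000478011c80000000000000000000000000000000000000000000000000000000001490187800000000000172d000510000000006000000007b00000001ee00000000010000000671012c40000000000017b1019c900000000000000000000000000000000000000000000000000000000127400712000000000001727001c400000006740000000000001d200000019d200074000000011200000000000127800000011cb00044000000000000052006780000000000005cb00014000000000000000000000000000000000000000000000000180004800078001c8000000000000000000000061d0121d0187901b27000000000000000000000000000000000000000000000000000000000000000000012d00000001c9004b90000000071000000006d00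0000007900000001b9000000001d000000000000049000000072d006e10000000011000000001900000001ed000000017b0000000005000000006100121001e100721000000000000000000000000000000000000000000000000000000000000001b1004b1007b1006c9000000000000000000000000000000000000000000000000000000000000000000000001e4701c9c012e405c9c000000000000000000000079c01b48006e401e720000000000006470049c000000000001b840127200000000000019c0052c0000000000005ec00672000000000000187004870061e0121e000000000000000000000006c0012c001ec001b2000000000000000000000000000000000000000000000000000000000000000000000000000000000000000000000000000000000000000000000000000000000000000000000000000000000000000000000000000000000000000000000000000000000000000000000000000000000000000000000000000000000000000000000000000000000000000000000000000000000000000000000000000000000000000000000000000000000000000000000000000000000000000000000000000000000000000000000000000000000000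

/-- decoding a word -/
def dec : ℕ → ℕ → List ℕ
  | 0, _ => []
  | n + 1, c => if Nat.ble c 1 then [] else dec n (c >>> 2) ++ [c &&& 3]

/-- the word for `(p, q, r)` -/
def tw (p q r : ℕ) : List ℕ := dec 9 ((TW >>> (20 * (p + 8 * q + 64 * r))) &&& 1048575)

/-- one check -/
def okw (p q r : ℕ) : Bool :=
  (Nat.beq p 0 || Nat.beq q 0 || Nat.beq p q || Nat.beq r 0 || Nat.beq r p || Nat.beq r q || Nat.beq r (p ^^^ q)) ||
    ((tw p q r).all (fun k => Nat.blt k 5) && Nat.beq (act (tw p q r) 1) 1 &&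
      Nat.beq (act (tw p q r) 2 >>> 1) p && Nat.beq (act (tw p q r) 4 >>> 1) q &&
      Nat.beq (act (tw p q r) 8 >>> 1) r)

theorem okw_all : ∀ p < 8, ∀ q < 8, ∀ r < 8, okw p q r = true := by decide +kernel

theorem tw_spec {p q r : ℕ} (hp : p < 8) (hq : q < 8) (hr : r < 8) (hp0 : p ≠ 0) (hq0 : q ≠ 0) (hpq : p ≠ q)
    (hr0 : r ≠ 0) (hrp : r ≠ p) (hrq : r ≠ q) (hrpq : r ≠ p ^^^ q) :
    (∀ k ∈ tw p q r, k < 5) ∧ act (tw p q r) 1 = 1 ∧ act (tw p q r) 2 >>> 1 = p ∧ act (tw p q r) 4 >>> 1 = q ∧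
      act (tw p q r) 8 >>> 1 = r := by
  have h := okw_all p hp q hq r hr
  unfold okw at h
  simp only [Bool.or_eq_true, Bool.and_eq_true, Nat.beq_eq, List.all_eq_true, Nat.blt_eq] at h
  rcases h with h | ⟨⟨⟨⟨h1, h2⟩, h3⟩, h4⟩, h5⟩
  · exfalso
    rcases h with (((((h | h) | h) | h) | h) | h) | h
    all_goals first | exact hp0 h | exact hq0 h | exact hpq h | exact hr0 h | exact hrp h | exact hrq h | exact hrpq h
  · exact ⟨h1, h2, h3, h4, h5⟩

/-! ### the regular subgroup -/

section regular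

variable {C : Type*} [Group C] (K : Cover (Fin 8) C) {ε : ℕ → C}

/-- an element which centralises `E` modulo `z` lies in `E` -/
theorem mem_of_comm (h1 : ε 1 = K.z) (mul : ∀ i < 16, ∀ j < 16, ε i * ε j = ε (i ^^^ j))
    (inj : ∀ i < 16, ε i = 1 → i = 0) {x : C}
    (hx : ∀ i < 16, x * ε i = ε i * x ∨ x * ε i = ε i * x * K.z) : ∃ i < 16, x = ε i := by
  have h0 : ε 0 = 1 := by
    have := mul 0 (by norm_num) 0 (by norm_num)
    rw [Nat.xor_self] at this
    exact mul_eq_left.1 this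
  have xlt : ∀ i < 16, ∀ j < 16, i ^^^ j < 16 := by decide
  have injε : ∀ i < 16, ∀ j < 16, ε i = ε j → i = j := by
    intro i hi j hj h
    have h2 := mul i hi j hj
    rw [h, mul j hj j hj, Nat.xor_self, h0] at h2
    have h3 := inj _ (xlt i hi j hj) h2.symm
    exact Nat.xor_eq_zero_iff.1 h3
  -- fixed-point-freeness
  have hfpf : ∀ i < 16, i ≠ 0 → i ≠ 1 → ∀ a, K.π (ε i) a ≠ a := by
    intro i hi hi0 hi1 a ha
    have h2 : ε i * ε i = 1 := by rw [mul i hi i hi, Nat.xor_self, h0]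
    have h3 : (K.π (ε i)).support.card = 8 :=
      Cfsg.Agent.SporRec.LyType.card_support_eq_eight K (by simp) h2 (fun e => hi0 (inj i hi e))
        (fun e => hi1 (injε i hi 1 (by norm_num) (e.trans h1.symm)))
    have h4 : (K.π (ε i)).support = Finset.univ := by
      rw [← Finset.card_eq_iff_eq_univ, h3, Fintype.card_fin]
    have h5 : a ∈ (K.π (ε i)).support := by rw [h4]; exact Finset.mem_univ a
    exact Perm.mem_support.1 h5 ha
  -- transitivity
  let f : Fin 8 → Fin 8 := fun i => K.π (ε (2 * (i : ℕ))) 0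
  have hf : Function.Injective f := by
    intro i j hij
    have hi : 2 * (i : ℕ) < 16 := by omega
    have hj : 2 * (j : ℕ) < 16 := by omega
    have h2 : K.π (ε (2 * (i : ℕ) ^^^ 2 * (j : ℕ))) 0 = 0 := by
      have h3 : K.π (ε (2 * (i : ℕ))) 0 = K.π (ε (2 * (j : ℕ))) 0 := hij
      rw [← mul _ hi _ hj, map_mul, Perm.mul_apply, ← h3, ← Perm.mul_apply, ← map_mul, mul _ hi _ hi,
        Nat.xor_self, h0, map_one, Perm.one_apply]
    by_contra hne
    refine hfpf _ (xlt _ hi _ hj) ?_ ?_ 0 h2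
    · intro e
      have := Nat.xor_eq_zero_iff.1 e
      exact hne (Fin.ext (by omega))
    · have h4 : ∀ a < 8, ∀ b < 8, 2 * a ^^^ 2 * b ≠ 1 := by decide
      exact h4 _ i.2 _ j.2
  obtain ⟨i, hi⟩ := (Finite.injective_iff_surjective.1 hf) (K.π x 0)
  have hi' : K.π (ε (2 * (i : ℕ))) 0 = K.π x 0 := hi
  have hi16 : 2 * (i : ℕ) < 16 := by omega
  set σ := (K.π (ε (2 * (i : ℕ))))⁻¹ * K.π x with hσ
  have hσ0 : σ 0 = 0 := by
    rw [hσ, Perm.mul_apply, ← hi', ← Perm.mul_apply, inv_mul_cancel, Perm.one_apply]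
  have hcomm : ∀ j < 16, σ * K.π (ε j) = K.π (ε j) * σ := by
    intro j hj
    have h2 : K.π x * K.π (ε j) = K.π (ε j) * K.π x := by
      rcases hx j hj with h | h
      · rw [← map_mul, h, map_mul]
      · rw [← map_mul, h, map_mul, map_mul, K.π_z, mul_one]
    have h3 : K.π (ε (2 * (i : ℕ))) * K.π (ε j) = K.π (ε j) * K.π (ε (2 * (i : ℕ))) := by
      rw [← map_mul, ← map_mul, mul _ hi16 _ hj, mul _ hj _ hi16, Nat.xor_comm]
    have h4 : Commute σ (K.π (ε j)) := (Commute.inv_left h3).mul_left h2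
    exact h4
  have hσ1 : σ = 1 := by
    ext a
    obtain ⟨j, hj⟩ := (Finite.injective_iff_surjective.1 hf) a
    have hj' : K.π (ε (2 * (j : ℕ))) 0 = a := hj
    have h2 := hcomm (2 * (j : ℕ)) (by omega)
    have h3 := congrArg (fun τ : Perm (Fin 8) => τ 0) h2
    simp only [Perm.mul_apply] at h3
    rw [hσ0, hj'] at h3
    rw [h3, Perm.one_apply]
  have h5 : K.π x = K.π (ε (2 * (i : ℕ))) := by
    rw [hσ, inv_mul_eq_one] at hσ1
    exact hσ1.symm
  rcases K.lift_eq h5 with h6 | h6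
  · exact ⟨_, hi16, h6⟩
  · refine ⟨2 * (i : ℕ) ^^^ 1, xlt _ hi16 _ (by norm_num), ?_⟩
    rw [h6, ← h1, mul _ hi16 _ (by norm_num)]

end regular

/-! ### the automizer -/

section aut

variable {M : Type*} [Group M] {ε s : ℕ → M}

/-- product of a word -/
def wp (s : ℕ → M) (w : List ℕ) : M := (w.map s).prod

theorem inv_swap {W a b : M} (h : W * a = b * W) : W⁻¹ * b = a * W⁻¹ := by
  rw [eq_mul_inv_iff_mul_eq, mul_assoc, ← h, inv_mul_cancel_left]

theorem wp_act (sε : ∀ k < 5, ∀ i < 16, s k * ε i = ε (gm k i) * s k) (w : List ℕ) (hw : ∀ k ∈ w, k < 5) :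
    ∀ i < 16, wp s w * ε i = ε (act w i) * wp s w := by
  induction w with
  | nil => intro i _; simp [wp, act_nil]
  | cons k w ih =>
    intro i hi
    have h1 := ih (fun k hk => hw k (List.mem_cons_of_mem _ hk)) i hi
    have h2 : wp s (k :: w) = s k * wp s w := rfl
    rw [h2, mul_assoc, h1, ← mul_assoc, sε k (hw k List.mem_cons_self) _ (act_lt w hi), act_cons, mul_assoc]

theorem act_xor (w : List ℕ) (hw : ∀ k ∈ w, k < 5) : ∀ i < 16, ∀ j < 16, act w (i ^^^ j) = act w i ^^^ act w j := by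
  induction w with
  | nil => intro i _ j _; rfl
  | cons k w ih =>
    intro i hi j hj
    rw [act_cons, act_cons, act_cons, ih (fun k hk => hw k (List.mem_cons_of_mem _ hk)) i hi j hj,
      gm_xor k (hw k List.mem_cons_self) _ (act_lt w hi) _ (act_lt w hj)]

theorem act_inj (w : List ℕ) (hw : ∀ k ∈ w, k < 5) : ∀ i < 16, ∀ j < 16, act w i = act w j → i = j := by
  induction w with
  | nil => intro i _ j _ h; exact h
  | cons k w ih =>
    intro i hi j hj h
    rw [act_cons, act_cons] at h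
    have hg : ∀ k < 5, ∀ i < 16, ∀ j < 16, gm k i = gm k j → i = j := by decide +kernel
    exact ih (fun k hk => hw k (List.mem_cons_of_mem _ hk)) i hi j hj
      (hg k (hw k List.mem_cons_self) _ (act_lt w hi) _ (act_lt w hj) h)

/-- every element of the normaliser is the product of a word and an element centralising `E` modulo `ε 1` -/
theorem core (mul : ∀ i < 16, ∀ j < 16, ε i * ε j = ε (i ^^^ j)) (inj : ∀ i < 16, ε i = 1 → i = 0)
    (sε : ∀ k < 5, ∀ i < 16, s k * ε i = ε (gm k i) * s k)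
    (x : M) (hx : ∀ i < 16, ∃ j < 16, x * ε i * x⁻¹ = ε j) :
    ∃ (w : List ℕ) (y : M), (∀ k ∈ w, k < 5) ∧ x = wp s w * y ∧ y * ε 1 = ε 1 * y ∧
      ∀ i < 16, y * ε i = ε i * y ∨ y * ε i = ε i * y * ε 1 := by
  have h0 : ε 0 = 1 := by
    have := mul 0 (by norm_num) 0 (by norm_num)
    rw [Nat.xor_self] at this
    exact mul_eq_left.1 this
  have xlt : ∀ i < 16, ∀ j < 16, i ^^^ j < 16 := by decide
  have injε : ∀ i < 16, ∀ j < 16, ε i = ε j → i = j := by
    intro i hi j hj h
    have h2 := mul i hi j hj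
    rw [h, mul j hj j hj, Nat.xor_self, h0] at h2
    have h3 := inj _ (xlt i hi j hj) h2.symm
    exact Nat.xor_eq_zero_iff.1 h3
  -- the map induced by an element of the normaliser
  have hmap : ∀ x : M, (∀ i < 16, ∃ j < 16, x * ε i * x⁻¹ = ε j) → ∃ φ : ℕ → ℕ,
      (∀ i < 16, φ i < 16 ∧ x * ε i * x⁻¹ = ε (φ i)) ∧ (∀ i < 16, ∀ j < 16, φ (i ^^^ j) = φ i ^^^ φ j) ∧
      ∀ i < 16, φ i = 0 → i = 0 := by
    intro x hx
    choose! φ hφ using hx
    refine ⟨φ, hφ, ?_, ?_⟩
    · intro i hi j hj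
      apply injε _ (hφ _ (xlt i hi j hj)).1 _ (xlt _ (hφ i hi).1 _ (hφ j hj).1)
      rw [← (hφ _ (xlt i hi j hj)).2, ← mul i hi j hj, ← mul _ (hφ i hi).1 _ (hφ j hj).1, ← (hφ i hi).2,
        ← (hφ j hj).2]
      group
    · intro i hi h
      have h2 := (hφ i hi).2
      rw [h, h0, mul_inv_eq_one, mul_eq_left] at h2
      exact inj i hi h2
  obtain ⟨φ, hφ, -, hφ0⟩ := hmap x hx
  have hφ1 : φ 1 ≠ 0 := fun h => absurd (hφ0 1 (by norm_num) h) (by norm_num)
  -- fix `z`
  set w1 := wv (φ 1) with hw1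
  have hw1' : ∀ k ∈ w1, k < 5 := wv_lt _ (hφ 1 (by norm_num)).1
  have hw11 : act w1 1 = φ 1 := wv_one _ (hφ 1 (by norm_num)).1 hφ1
  set x' := (wp s w1)⁻¹ * x with hx'
  have hnx' : ∀ i < 16, ∃ j < 16, x' * ε i * x'⁻¹ = ε j ∧ act w1 j = φ i := by
    intro i hi
    obtain ⟨j, hj, hj2⟩ := act_surj w1 hw1' (φ i) (hφ i hi).1
    refine ⟨j, hj, ?_, hj2⟩
    have h2 := wp_act sε w1 hw1' j hj
    rw [hj2] at h2
    have h3 : ε (φ i) = wp s w1 * ε j * (wp s w1)⁻¹ := by rw [h2]; group
    calc x' * ε i * x'⁻¹ = (wp s w1)⁻¹ * (x * ε i * x⁻¹) * wp s w1 := by rw [hx']; group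
      _ = (wp s w1)⁻¹ * (wp s w1 * ε j * (wp s w1)⁻¹) * wp s w1 := by rw [(hφ i hi).2, h3]
      _ = ε j := by group
  obtain ⟨ψ, hψ, hψx, hψ0⟩ := hmap x' (fun i hi => by
    obtain ⟨j, hj, h, -⟩ := hnx' i hi
    exact ⟨j, hj, h⟩)
  have hψφ : ∀ i < 16, act w1 (ψ i) = φ i := by
    intro i hi
    obtain ⟨j, hj, h, h2⟩ := hnx' i hi
    rw [(hψ i hi).2] at h
    rw [injε _ (hψ i hi).1 _ hj h, h2]
  have hψ1 : ψ 1 = 1 := act_inj w1 hw1' _ (hψ 1 (by norm_num)).1 _ (by norm_num)
    (by rw [hψφ 1 (by norm_num), hw11])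
  -- the images modulo `1`
  have hsh : ∀ i < 16, i >>> 1 = 0 → i = 0 ∨ i = 1 := by decide
  have hsx : ∀ i < 16, ∀ j < 16, (i ^^^ j) >>> 1 = i >>> 1 ^^^ j >>> 1 := by decide
  have hs8 : ∀ i < 16, i >>> 1 < 8 := by decide
  have hmod : ∀ i < 16, ψ i >>> 1 = 0 → i = 0 ∨ i = 1 := by
    intro i hi h
    rcases hsh _ (hψ i hi).1 h with h2 | h2
    · exact Or.inl (hψ0 i hi h2)
    · right
      have h3 : ψ (i ^^^ 1) = 0 := by rw [hψx i hi 1 (by norm_num), h2, hψ1]; rfl
      have h4 := hψ0 _ (xlt i hi 1 (by norm_num)) h3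
      exact Nat.xor_eq_zero_iff.1 h4
  have l2 := (hψ 2 (by norm_num)).1
  have l4 := (hψ 4 (by norm_num)).1
  have l8 := (hψ 8 (by norm_num)).1
  have x24 : ψ 6 = ψ 2 ^^^ ψ 4 := hψx 2 (by norm_num) 4 (by norm_num)
  have x28 : ψ 10 = ψ 2 ^^^ ψ 8 := hψx 2 (by norm_num) 8 (by norm_num)
  have x48 : ψ 12 = ψ 4 ^^^ ψ 8 := hψx 4 (by norm_num) 8 (by norm_num)
  have x248 : ψ 14 = ψ 6 ^^^ ψ 8 := hψx 6 (by norm_num) 8 (by norm_num)
  have ne0 : ∀ i < 16, 2 ≤ i → ψ i >>> 1 ≠ 0 := fun i hi h2 h => by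
    rcases hmod i hi h with h3 | h3 <;> omega
  obtain ⟨t1, t2, t3, t4, t5⟩ := tw_spec (p := ψ 2 >>> 1) (q := ψ 4 >>> 1) (r := ψ 8 >>> 1) (hs8 _ l2) (hs8 _ l4)
    (hs8 _ l8) (ne0 2 (by norm_num) (by norm_num)) (ne0 4 (by norm_num) (by norm_num)) (by
      intro h
      refine ne0 6 (by norm_num) (by norm_num) ?_
      rw [x24, hsx _ l2 _ l4, h, Nat.xor_self]) (ne0 8 (by norm_num) (by norm_num)) (by
      intro h
      refine ne0 10 (by norm_num) (by norm_num) ?_
      rw [x28, hsx _ l2 _ l8, h, Nat.xor_self]) (by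
      intro h
      refine ne0 12 (by norm_num) (by norm_num) ?_
      rw [x48, hsx _ l4 _ l8, h, Nat.xor_self]) (by
      intro h
      refine ne0 14 (by norm_num) (by norm_num) ?_
      rw [x248, x24, hsx _ (xlt _ l2 _ l4) _ l8, hsx _ l2 _ l4, h, Nat.xor_self])
  set w2 := tw (ψ 2 >>> 1) (ψ 4 >>> 1) (ψ 8 >>> 1) with hw2
  -- `x'' = w2⁻¹ x'` centralises `E / z`
  set x'' := (wp s w2)⁻¹ * x' with hx''
  have hz'' : x'' * ε 1 = ε 1 * x'' := by
    have h2 := wp_act sε w2 t1 1 (by norm_num)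
    rw [t2] at h2
    have h3 := (hψ 1 (by norm_num)).2
    rw [hψ1, mul_inv_eq_iff_eq_mul] at h3
    rw [hx'', mul_assoc, h3, ← mul_assoc, inv_swap h2, mul_assoc]
  have hzE : ∀ i < 16, ε i * ε 1 = ε 1 * ε i := fun i hi => by
    rw [mul i hi 1 (by norm_num), mul 1 (by norm_num) i hi, Nat.xor_comm]
  have hz1 : ε 1 * ε 1 = 1 := by rw [mul 1 (by norm_num) 1 (by norm_num)]; exact h0
  have hclose : ∀ i < 16, ∀ j < 16, (x'' * ε i = ε i * x'' ∨ x'' * ε i = ε i * x'' * ε 1) →
      (x'' * ε j = ε j * x'' ∨ x'' * ε j = ε j * x'' * ε 1) →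
      (x'' * ε (i ^^^ j) = ε (i ^^^ j) * x'' ∨ x'' * ε (i ^^^ j) = ε (i ^^^ j) * x'' * ε 1) := by
    intro i hi j hj h h'
    rw [← mul i hi j hj]
    rcases h with h | h <;> rcases h' with h' | h'
    · left
      rw [← mul_assoc, h, mul_assoc, h', mul_assoc]
    · right
      rw [← mul_assoc, h, mul_assoc, h']
      group
    · right
      calc x'' * (ε i * ε j) = x'' * ε i * ε j := by group
        _ = ε i * x'' * (ε 1 * ε j) := by rw [h]; group
        _ = ε i * (x'' * ε j) * ε 1 := by rw [← hzE j hj]; group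
        _ = ε i * ε j * x'' * ε 1 := by rw [h']; group
    · left
      calc x'' * (ε i * ε j) = x'' * ε i * ε j := by group
        _ = ε i * x'' * (ε 1 * ε j) := by rw [h]; group
        _ = ε i * (x'' * ε j) * ε 1 := by rw [← hzE j hj]; group
        _ = ε i * ε j * x'' * (ε 1 * ε 1) := by rw [h']; group
        _ = ε i * ε j * x'' := by rw [hz1, mul_one]
  -- the generators
  have hgen : ∀ i < 16, act w2 i >>> 1 = ψ i >>> 1 → (x'' * ε i = ε i * x'' ∨ x'' * ε i = ε i * x'' * ε 1) := by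
    intro i hi h
    have h2 := (hψ i hi).2
    rw [mul_inv_eq_iff_eq_mul] at h2
    have hpos : ∀ a < 16, ∀ b < 16, a >>> 1 = b >>> 1 → b = a ∨ b = a ^^^ 1 := by decide
    rcases hpos _ (act_lt w2 hi) _ (hψ i hi).1 h with h3 | h3
    · left
      have h4 := wp_act sε w2 t1 i hi
      rw [hx'', mul_assoc, h2, h3, ← mul_assoc, inv_swap h4, mul_assoc]
    · right
      have h4 := wp_act sε w2 t1 (i ^^^ 1) (xlt i hi 1 (by norm_num))
      rw [act_xor w2 t1 i hi 1 (by norm_num), t2] at h4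
      have h5 : (wp s w2)⁻¹ * ε (act w2 i ^^^ 1) = ε (i ^^^ 1) * (wp s w2)⁻¹ := inv_swap h4
      rw [mul_assoc (ε i), hz'', ← mul_assoc, mul i hi 1 (by norm_num), hx'', mul_assoc, h2, h3, ← mul_assoc, h5,
        mul_assoc]
  have c1 : x'' * ε 1 = ε 1 * x'' ∨ x'' * ε 1 = ε 1 * x'' * ε 1 := Or.inl hz''
  have c2 := hgen 2 (by norm_num) t3
  have c4 := hgen 4 (by norm_num) t4
  have c8 := hgen 8 (by norm_num) t5
  have c3 := hclose 1 (by norm_num) 2 (by norm_num) c1 c2
  have c12 := hclose 4 (by norm_num) 8 (by norm_num) c4 c8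
  have hall : ∀ i < 16, (x'' * ε i = ε i * x'' ∨ x'' * ε i = ε i * x'' * ε 1) := by
    have c0 : x'' * ε 0 = ε 0 * x'' ∨ x'' * ε 0 = ε 0 * x'' * ε 1 := Or.inl (by rw [h0, mul_one, one_mul])
    have low : ∀ i < 4, (x'' * ε i = ε i * x'' ∨ x'' * ε i = ε i * x'' * ε 1) := by
      intro i hi
      interval_cases i
      · exact c0
      · exact c1
      · exact c2
      · exact c3
    have h4 : ∀ i < 4, (x'' * ε (i ^^^ 4) = ε (i ^^^ 4) * x'' ∨ x'' * ε (i ^^^ 4) = ε (i ^^^ 4) * x'' * ε 1) :=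
      fun i hi => hclose i (by omega) 4 (by norm_num) (low i hi) c4
    have h8 : ∀ i < 4, (x'' * ε (i ^^^ 8) = ε (i ^^^ 8) * x'' ∨ x'' * ε (i ^^^ 8) = ε (i ^^^ 8) * x'' * ε 1) :=
      fun i hi => hclose i (by omega) 8 (by norm_num) (low i hi) c8
    have h12 : ∀ i < 4, (x'' * ε (i ^^^ 12) = ε (i ^^^ 12) * x'' ∨ x'' * ε (i ^^^ 12) = ε (i ^^^ 12) * x'' * ε 1) :=
      fun i hi => hclose i (by omega) 12 (by norm_num) (low i hi) c12
    have hcase : ∀ i < 16, ∃ j < 4, i = j ∨ i = j ^^^ 4 ∨ i = j ^^^ 8 ∨ i = j ^^^ 12 := by decide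
    intro i hi
    obtain ⟨j, hj, h | h | h | h⟩ := hcase i hi
    · rw [h]; exact low j hj
    · rw [h]; exact h4 j hj
    · rw [h]; exact h8 j hj
    · rw [h]; exact h12 j hj
  have hx1 : x = wp s (w1 ++ w2) * x'' := by
    have h2 : wp s (w1 ++ w2) = wp s w1 * wp s w2 := by simp [wp]
    rw [h2, hx'', hx']
    group
  have hw12 : ∀ k ∈ w1 ++ w2, k < 5 := by
    intro k hk
    rcases List.mem_append.1 hk with h | h
    · exact hw1' k h
    · exact t1 k h
  exact ⟨w1 ++ w2, x'', hw12, hx1, hz'', hall⟩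

/-- **The automizer of `E`**, weak form of the last hypothesis. -/
theorem aut' (mul : ∀ i < 16, ∀ j < 16, ε i * ε j = ε (i ^^^ j)) (inj : ∀ i < 16, ε i = 1 → i = 0)
    (sε : ∀ k < 5, ∀ i < 16, s k * ε i = ε (gm k i) * s k)
    (cz : ∀ x, x * ε 1 = ε 1 * x → (∀ i < 16, x * ε i = ε i * x ∨ x * ε i = ε i * x * ε 1) →
      ∀ i < 16, x * ε i = ε i * x)
    (x : M) (hx : ∀ i < 16, ∃ j < 16, x * ε i * x⁻¹ = ε j) :
    ∃ w : List ℕ, (∀ k ∈ w, k < 5) ∧ ∀ i < 16, x * ε i * x⁻¹ = ε (act w i) := by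
  obtain ⟨w, y, hw, hx1, hy1, hy⟩ := core mul inj sε x hx
  refine ⟨w, hw, fun i hi => ?_⟩
  have h2 := wp_act sε w hw i hi
  have h3 : y * ε i = ε i * y := cz y hy1 hy i hi
  rw [hx1]
  calc wp s w * y * ε i * (wp s w * y)⁻¹ = wp s w * (y * ε i) * y⁻¹ * (wp s w)⁻¹ := by group
    _ = wp s w * ε i * (wp s w)⁻¹ := by rw [h3]; group
    _ = ε (act w i) := by rw [h2]; group

/-- **The automizer of `E`.** -/
theorem aut (mul : ∀ i < 16, ∀ j < 16, ε i * ε j = ε (i ^^^ j)) (inj : ∀ i < 16, ε i = 1 → i = 0)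
    (sε : ∀ k < 5, ∀ i < 16, s k * ε i = ε (gm k i) * s k)
    (cz : ∀ x, x * ε 1 = ε 1 * x → (∀ i < 16, x * ε i = ε i * x ∨ x * ε i = ε i * x * ε 1) → ∃ i < 16, x = ε i)
    (x : M) (hx : ∀ i < 16, ∃ j < 16, x * ε i * x⁻¹ = ε j) :
    ∃ w : List ℕ, (∀ k ∈ w, k < 5) ∧ ∀ i < 16, x * ε i * x⁻¹ = ε (act w i) := by
  refine aut' mul inj sε (fun y h1 hy i hi => ?_) x hx
  obtain ⟨j, hj, rfl⟩ := cz y h1 hy
  rw [mul j hj i hi, mul i hi j hj, Nat.xor_comm]

end aut

end Cfsg.Agent.TypeM.StdAut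
end

-- part: TypeM/LFactsMcL
section
/-!
# The facts on `McL` which are used in Theorem W

`exists_lfacts`: a group with one class of involutions and involution centraliser `2.A_8` has the two classes
`E, E'` of elementary abelian subgroups of order 16, with automizer `A₇`.
-/

set_option autoImplicit false
set_option maxRecDepth 100000

namespace Cfsg.Agent.TypeM.LFactsMcL

open Subgroup Cfsg.Agent.SporRec.TwoAn Cfsg.Agent.TypeM.Two Cfsg.Agent.TypeM.CoverTools
open Cfsg.Agent.McLType.Local Cfsg.Agent.McLType.Facts8 Cfsg.Agent.McLType.Relators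

/-- exchange of the bits 2 and 3 -/
def sw (i : ℕ) : ℕ := (i &&& 3) ||| ((i >>> 1) &&& 4) ||| ((i <<< 1) &&& 8)

theorem sw_lt : ∀ i < 16, sw i < 16 := by decide
theorem sw_sw : ∀ i < 16, sw (sw i) = i := by decide
theorem sw_low : ∀ i < 4, sw i = i := by decide
theorem sw_xor : ∀ i < 16, ∀ j < 16, sw (i ^^^ j) = sw i ^^^ sw j := by decide

theorem t_a1 : ∀ i < 16, lin (m1 0) i = gm 0 i := by decide +kernel
theorem t_b1 : ∀ i < 16, lin (m1 1) i = gm 1 i := by decide +kernel
theorem t_x1 : ∀ i < 16, lin (m1 3) i = gm 2 i := by decide +kernel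
theorem t_y1 : ∀ i < 16, lin (m1 4) i = gm 3 i := by decide +kernel
theorem t_g1 : ∀ i < 16, lin (m1 6) i = gm 4 i := by decide +kernel
theorem t_a2 : ∀ i < 16, lin (m2 1) (lin (m2 2) (lin (m2 1) (sw i))) = sw (gm 0 i) := by decide +kernel
theorem t_b2 : ∀ i < 16, lin (m2 1) (sw i) = sw (gm 1 i) := by decide +kernel
theorem t_x2 : ∀ i < 16, lin (m2 5) (sw i) = sw (gm 2 i) := by decide +kernel
theorem t_y2 : ∀ i < 16, lin (m2 1) (lin (m2 4) (lin (m2 1) (sw i))) = sw (gm 3 i) := by decide +kernel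
theorem t_g2 : ∀ i < 16, lin (m2 6) (sw i) = sw (gm 4 i) := by decide +kernel

section

variable {G : Type*} [Group G] {z a b c x y w u d : G} (D : Data z a b c x y w u d)

/-- the elements which act on `E` -/
def s1 (a b x y g : G) : ℕ → G
  | 0 => a
  | 1 => b
  | 2 => x
  | 3 => y
  | _ => g

/-- the elements which act on `E'` -/
def s2 (b c w y g : G) : ℕ → G
  | 0 => b * c * b
  | 1 => b
  | 2 => w
  | 3 => b * y * b
  | _ => g

/-- `E` -/
def e1 (z u b c : G) (i : ℕ) : G := four z u c (b * c * b) i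

/-- `E'` -/
def e2 (z u a b : G) (i : ℕ) : G := four z u a (b * a * b) (sw i)

include D

theorem e1_mul (i j : ℕ) : e1 z u b c i * e1 z u b c j = e1 z u b c (i ^^^ j) := D.F.four₁.mul i j

theorem e2_mul : ∀ i < 16, ∀ j < 16, e2 z u a b i * e2 z u a b j = e2 z u a b (i ^^^ j) := by
  intro i hi j hj
  rw [e2, e2, D.F.four₂.mul, ← sw_xor i hi j hj]
  rfl

theorem e1_inj : ∀ i < 16, e1 z u b c i = 1 → i = 0 := fun i hi h =>
  D.F.inj₁ i hi 0 (by norm_num) (by rw [four_zero]; exact h)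

theorem e2_inj : ∀ i < 16, e2 z u a b i = 1 → i = 0 := by
  intro i hi h
  have h1 := D.F.inj₂ (sw i) (sw_lt i hi) 0 (by norm_num) (by rw [four_zero]; exact h)
  rw [← sw_sw i hi, h1]
  rfl

theorem cj_b1 (i : ℕ) : cj b (four z u c (b * c * b) i) = four z u c (b * c * b) (lin (m1 1) i) :=
  D.cj_letter1 (k := 1) (by norm_num) i

theorem s1_e1 : ∀ k < 5, ∀ i < 16, s1 a b x y (b * (d * (y * b)⁻¹)) k * e1 z u b c i =
    e1 z u b c (gm k i) * s1 a b x y (b * (d * (y * b)⁻¹)) k := by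
  intro k hk i hi
  rw [← cj_eq]
  interval_cases k
  · rw [← t_a1 i hi]; exact D.cj_letter1 (k := 0) (by norm_num) i
  · rw [← t_b1 i hi]; exact D.cj_letter1 (k := 1) (by norm_num) i
  · rw [← t_x1 i hi]; exact D.cj_letter1 (k := 3) (by norm_num) i
  · rw [← t_y1 i hi]; exact D.cj_letter1 (k := 4) (by norm_num) i
  · rw [← t_g1 i hi]; exact D.cj_g1 i

theorem s2_e2 : ∀ k < 5, ∀ i < 16, s2 b c w y (b * (d * (y * b)⁻¹)) k * e2 z u a b i =
    e2 z u a b (gm k i) * s2 b c w y (b * (d * (y * b)⁻¹)) k := by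
  intro k hk i hi
  rw [← cj_eq]
  have hb : ∀ j, cj b (four z u a (b * a * b) j) = four z u a (b * a * b) (lin (m2 1) j) :=
    fun j => D.cj_letter2 (k := 1) (by norm_num) (by norm_num) j
  have hc : ∀ j, cj c (four z u a (b * a * b) j) = four z u a (b * a * b) (lin (m2 2) j) :=
    fun j => D.cj_letter2 (k := 2) (by norm_num) (by norm_num) j
  have hy : ∀ j, cj y (four z u a (b * a * b) j) = four z u a (b * a * b) (lin (m2 4) j) :=
    fun j => D.cj_letter2 (k := 4) (by norm_num) (by norm_num) j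
  interval_cases k
  · show cj (b * c * b) (four z u a (b * a * b) (sw i)) = four z u a (b * a * b) (sw (gm 0 i))
    rw [cj_mul_left, cj_mul_left, hb, hc, hb, t_a2 i hi]
  · show cj b (four z u a (b * a * b) (sw i)) = four z u a (b * a * b) (sw (gm 1 i))
    rw [hb, t_b2 i hi]
  · show cj w (four z u a (b * a * b) (sw i)) = four z u a (b * a * b) (sw (gm 2 i))
    rw [← t_x2 i hi]
    exact D.cj_letter2 (k := 5) (by norm_num) (by norm_num) _
  · show cj (b * y * b) (four z u a (b * a * b) (sw i)) = four z u a (b * a * b) (sw (gm 3 i))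
    rw [cj_mul_left, cj_mul_left, hb, hy, hb, t_y2 i hi]
  · show cj _ (four z u a (b * a * b) (sw i)) = four z u a (b * a * b) (sw (gm 4 i))
    rw [← t_g2 i hi]
    exact D.cj_g2 _

theorem e1_cen (k : G) (h : ∀ i < 16, k * e1 z u b c i = e1 z u b c i * k) : ∃ i < 16, k = e1 z u b c i := by
  have h1 := h 1 (by norm_num)
  have h2 := h 2 (by norm_num)
  have h4 := h 4 (by norm_num)
  have h8 := h 8 (by norm_num)
  rw [e1, four_one] at h1
  rw [e1, four_two] at h2
  rw [e1, four_four] at h4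
  rw [e1, four_eight] at h8
  exact D.F.cent₁ k h1 h2 h4 h8

theorem e2_cen (k : G) (h : ∀ i < 16, k * e2 z u a b i = e2 z u a b i * k) : ∃ i < 16, k = e2 z u a b i := by
  have h1 := h 1 (by norm_num)
  have h2 := h 2 (by norm_num)
  have h4 := h 8 (by norm_num)
  have h8 := h 4 (by norm_num)
  rw [e2, show sw 1 = 1 from rfl, four_one] at h1
  rw [e2, show sw 2 = 2 from rfl, four_two] at h2
  rw [e2, show sw 8 = 4 from rfl, four_four] at h4
  rw [e2, show sw 4 = 8 from rfl, four_eight] at h8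
  obtain ⟨i, hi, h⟩ := D.F.cent₂ k h1 h2 h4 h8
  exact ⟨sw i, sw_lt i hi, by rw [e2, sw_sw i hi, h]⟩

omit D in
theorem low : ∀ i < 4, e2 z u a b i = e1 z u b c i := by
  intro i hi
  rw [e2, e1, sw_low i hi]
  interval_cases i <;> simp [four, Nat.testBit]

/-- the elementary abelian subgroups of order 16 containing `z, u` -/
theorem e16_aux {f : ℕ → G} (hf : ∀ i < 16, ∀ j < 16, f i * f j = f (i ^^^ j)) (h1 : f 1 = z) (h2 : f 2 = u) :
    (∀ i < 16, ∃ j < 16, f i = e1 z u b c j) ∨ (∀ i < 16, ∃ j < 16, f i = e2 z u a b j) := by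
  have h0 : f 0 = 1 := by
    have := hf 0 (by norm_num) 0 (by norm_num)
    rw [Nat.xor_self] at this
    exact mul_eq_left.1 this
  have hc : ∀ i < 16, ∀ j < 16, f i * f j = f j * f i := fun i hi j hj => by
    rw [hf i hi j hj, hf j hj i hi, Nat.xor_comm]
  have hor : ∀ i < 16, (∃ j < 16, f i = e1 z u b c j) ∨ (∃ j < 16, f i = e2 z u a b j) := by
    intro i hi
    rcases D.F.invol (f i) (by rw [← h1]; exact hc i hi 1 (by norm_num))
      (by rw [← h2]; exact hc i hi 2 (by norm_num)) (by rw [hf i hi i hi, Nat.xor_self, h0]) with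
      ⟨j, hj, h⟩ | ⟨j, hj, h⟩
    · exact Or.inl ⟨j, hj, h⟩
    · exact Or.inr ⟨sw j, sw_lt j hj, by rw [e2, sw_sw j hj, h]⟩
  have c1 : ∀ i < 16, ∀ j < 16, (∃ k < 16, f i = e1 z u b c k) → (∃ k < 16, f j = e1 z u b c k) →
      ∃ k < 16, f (i ^^^ j) = e1 z u b c k := by
    rintro i hi j hj ⟨k, hk, h⟩ ⟨l, hl, h'⟩
    exact ⟨k ^^^ l, xor_lt hk hl, by rw [← hf i hi j hj, h, h', e1_mul D]⟩
  have c2 : ∀ i < 16, ∀ j < 16, (∃ k < 16, f i = e2 z u a b k) → (∃ k < 16, f j = e2 z u a b k) →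
      ∃ k < 16, f (i ^^^ j) = e2 z u a b k := by
    rintro i hi j hj ⟨k, hk, h⟩ ⟨l, hl, h'⟩
    exact ⟨k ^^^ l, xor_lt hk hl, by rw [← hf i hi j hj, h, h', e2_mul D k hk l hl]⟩
  by_contra hcon
  rw [not_or] at hcon
  obtain ⟨hcon1, hcon2⟩ := hcon
  push Not at hcon1 hcon2
  obtain ⟨i, hi, hi'⟩ := hcon1
  obtain ⟨j, hj, hj'⟩ := hcon2
  have hi1 : ¬ ∃ k < 16, f i = e1 z u b c k := by
    rintro ⟨k, hk, h⟩
    exact hi' k hk h
  have hj1 : ¬ ∃ k < 16, f j = e2 z u a b k := by
    rintro ⟨k, hk, h⟩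
    exact hj' k hk h
  have hi2 := (hor i hi).resolve_left hi1
  have hj2 := (hor j hj).resolve_right hj1
  rcases hor _ (xor_lt hi hj) with h | h
  · have h3 := c1 _ (xor_lt hi hj) j hj h hj2
    rw [Nat.xor_assoc, Nat.xor_self, Nat.xor_zero] at h3
    exact hi1 h3
  · have h3 := c2 i hi _ (xor_lt hi hj) hi2 h
    rw [← Nat.xor_assoc, Nat.xor_self, Nat.zero_xor] at h3
    exact hj1 h3

end

section

variable {M : Type*} [Group M] (L : MT 8 M)

/-- membership of elements centralising a regular elementary subgroup modulo `t` -/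
theorem cz {ε : ℕ → M} (h1 : ε 1 = L.t) (mul : ∀ i < 16, ∀ j < 16, ε i * ε j = ε (i ^^^ j))
    (inj : ∀ i < 16, ε i = 1 → i = 0) (x : M) (hx1 : x * ε 1 = ε 1 * x)
    (hx : ∀ i < 16, x * ε i = ε i * x ∨ x * ε i = ε i * x * ε 1) : ∃ i < 16, x = ε i := by
  have hmem : ∀ i, i < 16 → ε i ∈ centralizer ({L.t} : Set M) := by
    intro i hi
    rw [mem_centralizer_singleton_iff, ← h1, mul i hi 1 (by norm_num), mul 1 (by norm_num) i hi, Nat.xor_comm]
  have hxm : x ∈ centralizer ({L.t} : Set M) := by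
    rw [mem_centralizer_singleton_iff, ← h1]
    exact hx1
  let η : ℕ → centralizer ({L.t} : Set M) := fun i => if h : i < 16 then ⟨ε i, hmem i h⟩ else 1
  have hη : ∀ i < 16, (η i : M) = ε i := by
    intro i hi
    simp only [η, dif_pos hi]
  obtain ⟨i, hi, h⟩ := StdAut.mem_of_comm L.K (ε := η) (by
      apply Subtype.ext
      rw [hη 1 (by norm_num), h1, L.hz]) (fun i hi j hj => by
      apply Subtype.ext
      rw [Subgroup.coe_mul, hη i hi, hη j hj, hη _ (xor_lt hi hj), mul i hi j hj]) (fun i hi h => by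
      have h2 := congrArg Subtype.val h
      rw [hη i hi] at h2
      exact inj i hi h2) (x := ⟨x, hxm⟩) (fun i hi => by
      rcases hx i hi with h | h
      · left
        apply Subtype.ext
        rw [Subgroup.coe_mul, Subgroup.coe_mul, hη i hi]
        exact h
      · right
        apply Subtype.ext
        rw [Subgroup.coe_mul, Subgroup.coe_mul, Subgroup.coe_mul, hη i hi, L.hz]
        rw [h1] at h
        exact h)
  exact ⟨i, hi, by rw [← hη i hi, ← h]⟩

/-- The generators and the element of order three. -/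
theorem exists_data : ∃ a b c x y w u d : M, Data L.t a b c x y w u d := by
  obtain ⟨π, hπ, -⟩ := exists_isCover_of L.K (by norm_num)
  have hKz : L.K.z = ⟨L.t, mem_cent.2 rfl⟩ := Subtype.ext L.hz
  rw [hKz] at hπ
  obtain ⟨a, b, c, x, y, w, u, F⟩ := exists_gfacts hπ
  obtain ⟨g, hg⟩ := L.one u F.uu F.u_ne_one
  obtain ⟨d, h1, h2, h3, h4, h5, h6, h7⟩ := F.exists_d ⟨g, u, hg, F.u_ne_z, F.uz⟩
  exact ⟨a, b, c, x, y, w, u, d, ⟨F, h1, h2, h3, h4, h5, h6, h7⟩⟩

/-- **The facts on `McL`.** -/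
theorem lfacts {a b c x y w u d : M} (D : Data L.t a b c x y w u d) :
    LFacts (e1 L.t u b c) (s1 a b x y (b * (d * (y * b)⁻¹))) (e2 L.t u a b) (s2 b c w y (b * (d * (y * b)⁻¹))) := by
  have h1 : e1 L.t u b c 1 = L.t := by rw [e1, four_one]
  have h2 : e2 L.t u a b 1 = L.t := by rw [e2, show sw 1 = 1 from rfl, four_one]
  refine ⟨⟨fun i _ j _ => e1_mul D i j, e1_inj D, s1_e1 D, fun x _ hx => e1_cen D x hx, fun x hx => ?_⟩,
    ⟨e2_mul D, e2_inj D, s2_e2 D, fun x _ hx => e2_cen D x hx, fun x hx => ?_⟩, low, fun x hx hx1 => ?_,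
    fun f hf => ?_⟩
  · exact StdAut.aut (fun i _ j _ => e1_mul D i j) (e1_inj D) (s1_e1 D)
      (cz L h1 (fun i _ j _ => e1_mul D i j) (e1_inj D)) x hx
  · exact StdAut.aut (e2_mul D) (e2_inj D) (s2_e2 D) (cz L h2 (e2_mul D) (e2_inj D)) x hx
  · obtain ⟨g, hg⟩ := L.one x hx hx1
    refine ⟨g⁻¹, ?_⟩
    rw [h1, ← hg]
    group
  · -- conjugate `f 1` to `t` and `f 2` to `u`
    have f0 : f 0 = 1 := by
      have := hf.mul 0 (by norm_num) 0 (by norm_num)
      rw [Nat.xor_self] at this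
      exact mul_eq_left.1 this
    have fsq : ∀ i < 16, f i * f i = 1 := fun i hi => by rw [hf.mul i hi i hi, Nat.xor_self, f0]
    have fne : ∀ i < 16, i ≠ 0 → f i ≠ 1 := fun i hi h0 h => h0 (hf.inj i hi h)
    obtain ⟨g, hg⟩ := L.conj_of_involutions (fsq 1 (by norm_num)) (fne 1 (by norm_num) (by norm_num)) L.t_mul_t L.t_ne
    obtain ⟨k, hk, hk2⟩ := D.F.conj_u (g * f 2 * g⁻¹) (by
        rw [← hg]
        calc g * f 2 * g⁻¹ * (g * f 1 * g⁻¹) = g * (f 2 * f 1) * g⁻¹ := by group
          _ = g * (f 1 * f 2) * g⁻¹ := by rw [hf.mul 2 (by norm_num) 1 (by norm_num),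
            hf.mul 1 (by norm_num) 2 (by norm_num), Nat.xor_comm]
          _ = _ := by group) (by
        calc g * f 2 * g⁻¹ * (g * f 2 * g⁻¹) = g * (f 2 * f 2) * g⁻¹ := by group
          _ = 1 := by rw [fsq 2 (by norm_num)]; group) (by
        intro h
        rw [mul_inv_eq_one, mul_eq_left] at h
        exact fne 2 (by norm_num) (by norm_num) h) (by
        rw [← hg]
        intro h
        have h3 : f 2 = f 1 := by
          rwa [mul_left_inj, mul_right_inj] at h
        have h4 : f (2 ^^^ 1) = 1 := by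
          rw [← hf.mul 2 (by norm_num) 1 (by norm_num), h3, fsq 1 (by norm_num)]
        exact fne 3 (by norm_num) (by norm_num) h4)
    have hk3 : k * g * f 1 * (k * g)⁻¹ = L.t := by
      calc k * g * f 1 * (k * g)⁻¹ = k * (g * f 1 * g⁻¹) * k⁻¹ := by group
        _ = L.t := by rw [hg, hk, mul_inv_cancel_right]
    have hk4 : k * g * f 2 * (k * g)⁻¹ = u := by
      rw [← hk2]; group
    have h5 := e16_aux D (f := fun i => k * g * f i * (k * g)⁻¹) (fun i hi j hj => by
      rw [← hf.mul i hi j hj]; group) hk3 hk4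
    exact ⟨k * g, h5⟩

include L in
/-- **Existence of the facts.** -/
theorem exists_lfacts : ∃ ε s ε' s' : ℕ → M, LFacts ε s ε' s' := by
  obtain ⟨a, b, c, x, y, w, u, d, D⟩ := exists_data L
  exact ⟨_, _, _, _, lfacts L D⟩

end

end Cfsg.Agent.TypeM.LFactsMcL
end
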